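import Groth.Agent.Lib.Helper75.ComodField

/-!
# Comodules over a coalgebra over a field as modules over the dual (convolution) algebra (helper75)
-/

set_option autoImplicit false
universe u v w w'

open TensorProduct

namespace Groth.Agent.Lib.Helper75

section ModuleStructure

variable (K : Type u) [Field K] (A : Type v) [AddCommGroup A] [Module K A] [Coalgebra K A]

/-- the dual algebra of a coalgebra, with the convolution product -/
abbrev DualAlg : Type (max u v) := WithConv (A →ₗ[K] K)

variable (V : Type w) [AddCommGroup V] [Module K V] [HopfRep.Comod K A V]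

theorem one_ofConv : (1 : DualAlg K A).ofConv = CoalgebraStruct.counit (R := K) (A := A) := by
  apply LinearMap.ext
  intro a
  simp [LinearMap.convOne_def]

/-- the action of the dual algebra on a comodule, as a ring homomorphism -/
noncomputable def actHom : DualAlg K A →+* Module.End K V where
  toFun f := act f.ofConv
  map_one' := by
    apply LinearMap.ext
    intro v
    rw [one_ofConv]
    exact act_counit v
  map_mul' f g := by
    apply LinearMap.ext
    intro v
    show act (f * g).ofConv v = act f.ofConv (act g.ofConv v)
    rw [act_act]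
    rfl
  map_zero' := by
    apply LinearMap.ext
    intro v
    exact act_zero v
  map_add' f g := by
    apply LinearMap.ext
    intro v
    exact act_add f.ofConv g.ofConv v

/-- a comodule is a module over the dual algebra -/
@[reducible] noncomputable def comodModule : Module (DualAlg K A) V :=
  Module.compHom V (actHom K A V)

end ModuleStructure

section Lemmas

variable {K : Type u} [Field K] {A : Type v} [AddCommGroup A] [Module K A] [Coalgebra K A]
variable {V : Type w} [AddCommGroup V] [Module K V] [HopfRep.Comod K A V]
variable {W : Type w'} [AddCommGroup W] [Module K W] [HopfRep.Comod K A W]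

attribute [local instance] comodModule

theorem smul_def (f : DualAlg K A) (v : V) : f • v = act f.ofConv v := rfl

theorem toConv_smul (f : A →ₗ[K] K) (v : V) : (WithConv.toConv f : DualAlg K A) • v = act f v := rfl

instance comodModule_isScalarTower : IsScalarTower K (DualAlg K A) V where
  smul_assoc c f v := by
    show act (c • f).ofConv v = c • act f.ofConv v
    rw [WithConv.ofConv_smul, act_smul]

instance comodModule_smulCommClass : SMulCommClass K (DualAlg K A) V where
  smul_comm c f v := by
    show c • act f.ofConv v = act f.ofConv (c • v)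
    rw [map_smul]

/-- a subcomodule as a submodule over the dual algebra -/
def toDualSubmodule (W : Submodule K V) (hW : HopfRep.IsSubcomod (k := K) (A := A) W) :
    Submodule (DualAlg K A) V where
  carrier := W
  add_mem' := W.add_mem
  zero_mem' := W.zero_mem
  smul_mem' f w hw := (isSubcomod_iff W).1 hW f.ofConv w hw

@[simp] theorem mem_toDualSubmodule (W : Submodule K V) (hW : HopfRep.IsSubcomod (k := K) (A := A) W) (v : V) :
    v ∈ toDualSubmodule W hW ↔ v ∈ W := Iff.rfl

@[simp] theorem toDualSubmodule_restrictScalars (W : Submodule K V) (hW : HopfRep.IsSubcomod (k := K) (A := A) W) :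
    (toDualSubmodule W hW).restrictScalars K = W := by
  ext v; rfl

theorem isSubcomod_restrictScalars (W : Submodule (DualAlg K A) V) :
    HopfRep.IsSubcomod (k := K) (A := A) (W.restrictScalars K) := by
  rw [isSubcomod_iff]
  intro f w hw
  exact W.smul_mem (WithConv.toConv f) hw

theorem toDualSubmodule_restrictScalars' (W : Submodule (DualAlg K A) V) :
    toDualSubmodule (W.restrictScalars K) (isSubcomod_restrictScalars W) = W := by
  ext v; rfl

/-- a comodule map as a linear map over the dual algebra -/
def toDualLinearMap (φ : V →ₗ[K] W) (hφ : Hoch.IsComodHom A φ) : V →ₗ[DualAlg K A] W where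
  toFun := φ
  map_add' := φ.map_add
  map_smul' f v := (isComodHom_iff φ).1 hφ f.ofConv v

@[simp] theorem toDualLinearMap_apply (φ : V →ₗ[K] W) (hφ : Hoch.IsComodHom A φ) (v : V) :
    toDualLinearMap φ hφ v = φ v := rfl

theorem isComodHom_restrictScalars (φ : V →ₗ[DualAlg K A] W) :
    Hoch.IsComodHom A (φ.restrictScalars K) := by
  rw [isComodHom_iff]
  intro f v
  exact φ.map_smul (WithConv.toConv f) v

end Lemmas

section Simple

variable {K : Type u} [Field K] {A : Type v} [AddCommGroup A] [Module K A] [Coalgebra K A]
variable {V : Type w} [AddCommGroup V] [Module K V] [HopfRep.Comod K A V]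

attribute [local instance] comodModule

theorem isSimpleComod_iff :
    HopfRep.IsSimpleComod K A V ↔ IsSimpleModule (DualAlg K A) V := by
  unfold HopfRep.IsSimpleComod
  rw [isSimpleModule_iff]
  constructor
  · rintro ⟨hnt, h⟩
    have : Nontrivial (Submodule (DualAlg K A) V) := (Submodule.nontrivial_iff (DualAlg K A)).2 hnt
    refine ⟨fun W => ?_⟩
    rcases h (W.restrictScalars K) (isSubcomod_restrictScalars W) with h0 | h1
    · left
      ext v
      have : v ∈ W.restrictScalars K ↔ v ∈ (⊥ : Submodule K V) := by rw [h0]
      simpa using this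
    · right
      ext v
      have : v ∈ W.restrictScalars K ↔ v ∈ (⊤ : Submodule K V) := by rw [h1]
      simpa using this
  · intro hs
    refine ⟨(Submodule.nontrivial_iff (DualAlg K A)).1 hs.toNontrivial, fun W hW => ?_⟩
    rcases hs.eq_bot_or_eq_top (toDualSubmodule W hW) with h0 | h1
    · left
      ext v
      have : v ∈ toDualSubmodule W hW ↔ v ∈ (⊥ : Submodule (DualAlg K A) V) := by rw [h0]
      simpa using this
    · right
      ext v
      have : v ∈ toDualSubmodule W hW ↔ v ∈ (⊤ : Submodule (DualAlg K A) V) := by rw [h1]
      simpa using this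

theorem isCompl_restrictScalars_iff (W W' : Submodule (DualAlg K A) V) :
    IsCompl (W.restrictScalars K) (W'.restrictScalars K) ↔ IsCompl W W' := by
  simp only [isCompl_iff, disjoint_iff, codisjoint_iff]
  constructor
  · rintro ⟨h1, h2⟩
    constructor
    · apply Submodule.restrictScalars_injective K
      rw [Submodule.restrictScalars_inf, h1, Submodule.restrictScalars_bot]
    · apply Submodule.restrictScalars_injective K
      rw [Submodule.restrictScalars_sup, h2, Submodule.restrictScalars_top]
  · rintro ⟨h1, h2⟩
    constructor
    · rw [← Submodule.restrictScalars_inf, h1, Submodule.restrictScalars_bot]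
    · rw [← Submodule.restrictScalars_sup, h2, Submodule.restrictScalars_top]

theorem isSemisimpleComod_iff :
    HopfRep.IsSemisimpleComod K A V ↔ IsSemisimpleModule (DualAlg K A) V := by
  unfold HopfRep.IsSemisimpleComod
  constructor
  · intro h
    rw [isSemisimpleModule_iff]
    refine ⟨fun W => ?_⟩
    obtain ⟨W', hW', hc⟩ := h (W.restrictScalars K) (isSubcomod_restrictScalars W)
    refine ⟨toDualSubmodule W' hW', ?_⟩
    rw [← isCompl_restrictScalars_iff, toDualSubmodule_restrictScalars]
    exact hc
  · intro hs W hW
    obtain ⟨W', hc⟩ := exists_isCompl (toDualSubmodule W hW)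
    refine ⟨W'.restrictScalars K, isSubcomod_restrictScalars W', ?_⟩
    rw [← isCompl_restrictScalars_iff, toDualSubmodule_restrictScalars] at hc
    exact hc

end Simple

section Slices

variable {K : Type u} [Field K] {A : Type v} [AddCommGroup A] [Module K A]
variable {V : Type w} [AddCommGroup V] [Module K V]

/-- all right contractions of a fixed tensor -/
noncomputable def sliceR (x : V ⊗[K] A) : (A →ₗ[K] K) →ₗ[K] V where
  toFun f := contractR V f x
  map_add' f g := by
    simp only [contractR, LinearMap.lTensor_add, LinearMap.comp_add, LinearMap.add_apply]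
  map_smul' c f := by
    simp only [contractR, LinearMap.lTensor_smul, LinearMap.comp_smul, LinearMap.smul_apply, RingHom.id_apply]

/-- all left contractions of a fixed tensor -/
noncomputable def sliceL (x : V ⊗[K] A) : (V →ₗ[K] K) →ₗ[K] A where
  toFun φ := contractL A φ x
  map_add' f g := by
    simp only [contractL, LinearMap.rTensor_add, LinearMap.comp_add, LinearMap.add_apply]
  map_smul' c f := by
    simp only [contractL, LinearMap.rTensor_smul, LinearMap.comp_smul, LinearMap.smul_apply, RingHom.id_apply]

@[simp] theorem sliceR_apply (x : V ⊗[K] A) (f : A →ₗ[K] K) : sliceR x f = contractR V f x := rfl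
@[simp] theorem sliceL_apply (x : V ⊗[K] A) (φ : V →ₗ[K] K) : sliceL x φ = contractL A φ x := rfl

theorem finite_range_sliceR (x : V ⊗[K] A) : Module.Finite K (LinearMap.range (sliceR x)) := by
  suffices h : ∃ s : Finset V, LinearMap.range (sliceR x) ≤ Submodule.span K (s : Set V) by
    obtain ⟨s, hs⟩ := h
    have : Module.Finite K (Submodule.span K (s : Set V)) := Module.Finite.span_of_finite K s.finite_toSet
    exact Module.Finite.of_injective (Submodule.inclusion hs) (Submodule.inclusion_injective hs)
  classical
  induction x using TensorProduct.induction_on with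
  | zero =>
    refine ⟨∅, ?_⟩
    rintro _ ⟨f, rfl⟩
    simp
  | tmul v a =>
    refine ⟨{v}, ?_⟩
    rintro _ ⟨f, rfl⟩
    simp only [sliceR_apply, contractR_tmul, Finset.coe_singleton]
    exact Submodule.smul_mem _ _ (Submodule.mem_span_singleton_self v)
  | add x y hx hy =>
    obtain ⟨s, hs⟩ := hx
    obtain ⟨t, ht⟩ := hy
    refine ⟨s ∪ t, ?_⟩
    rintro _ ⟨f, rfl⟩
    simp only [sliceR_apply, map_add, Finset.coe_union]
    rw [Submodule.span_union]
    exact Submodule.add_mem_sup (hs ⟨f, rfl⟩) (ht ⟨f, rfl⟩)

theorem finite_range_sliceL (x : V ⊗[K] A) : Module.Finite K (LinearMap.range (sliceL x)) := by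
  suffices h : ∃ s : Finset A, LinearMap.range (sliceL x) ≤ Submodule.span K (s : Set A) by
    obtain ⟨s, hs⟩ := h
    have : Module.Finite K (Submodule.span K (s : Set A)) := Module.Finite.span_of_finite K s.finite_toSet
    exact Module.Finite.of_injective (Submodule.inclusion hs) (Submodule.inclusion_injective hs)
  classical
  induction x using TensorProduct.induction_on with
  | zero =>
    refine ⟨∅, ?_⟩
    rintro _ ⟨f, rfl⟩
    simp
  | tmul v a =>
    refine ⟨{a}, ?_⟩
    rintro _ ⟨f, rfl⟩
    simp only [sliceL_apply, contractL_tmul, Finset.coe_singleton]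
    exact Submodule.smul_mem _ _ (Submodule.mem_span_singleton_self a)
  | add x y hx hy =>
    obtain ⟨s, hs⟩ := hx
    obtain ⟨t, ht⟩ := hy
    refine ⟨s ∪ t, ?_⟩
    rintro _ ⟨f, rfl⟩
    simp only [sliceL_apply, map_add, Finset.coe_union]
    rw [Submodule.span_union]
    exact Submodule.add_mem_sup (hs ⟨f, rfl⟩) (ht ⟨f, rfl⟩)

end Slices

section Orbit

variable {K : Type u} [Field K] {A : Type v} [AddCommGroup A] [Module K A] [Coalgebra K A]
variable {V : Type w} [AddCommGroup V] [Module K V] [HopfRep.Comod K A V]

variable (K A) in
/-- the subcomodule generated by a vector: all `f ⇀ v` -/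
noncomputable def orbit (v : V) : Submodule K V := LinearMap.range (sliceR (coactMap K A V v))

theorem mem_orbit_iff (v w : V) : w ∈ orbit K A v ↔ ∃ f : A →ₗ[K] K, act f v = w := by
  unfold orbit
  rw [LinearMap.mem_range]
  rfl

theorem self_mem_orbit (v : V) : v ∈ orbit K A v :=
  (mem_orbit_iff v v).2 ⟨_, act_counit v⟩

theorem isSubcomod_orbit (v : V) : HopfRep.IsSubcomod (k := K) (A := A) (orbit K A v) := by
  rw [isSubcomod_iff]
  intro f w hw
  obtain ⟨g, rfl⟩ := (mem_orbit_iff v w).1 hw
  rw [act_act]
  exact (mem_orbit_iff _ _).2 ⟨_, rfl⟩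

instance finite_orbit (v : V) : Module.Finite K (orbit K A v) := finite_range_sliceR _

/-- fundamental theorem of comodules: every vector lies in a finite-dimensional subcomodule -/
theorem exists_finite_subcomod_mem (v : V) :
    ∃ W : Submodule K V, HopfRep.IsSubcomod (k := K) (A := A) W ∧ Module.Finite K W ∧ v ∈ W :=
  ⟨orbit K A v, isSubcomod_orbit v, finite_orbit v, self_mem_orbit v⟩

theorem orbit_le {v : V} {W : Submodule K V} (hW : HopfRep.IsSubcomod (k := K) (A := A) W) (hv : v ∈ W) :
    orbit K A v ≤ W := by
  intro w hw
  obtain ⟨f, rfl⟩ := (mem_orbit_iff v w).1 hw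
  exact (isSubcomod_iff W).1 hW f v hv

end Orbit

end Groth.Agent.Lib.Helper75
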