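import Groth.Agent.Lib.Helper75.ComodSimple
import Groth.Prelude.Def_ComodSub

set_option autoImplicit false
universe u v w w'

open TensorProduct

namespace Groth.Agent.Lib.Helper75

theorem iSupIndep_restrictScalars_iff {S R M : Type*} [Semiring S] [Semiring R] [AddCommMonoid M]
    [Module S M] [Module R M] [SMul S R] [IsScalarTower S R M] {ι : Type*} (t : ι → Submodule R M) :
    iSupIndep (fun i => (t i).restrictScalars S) ↔ iSupIndep t := by
  simp only [iSupIndep_def, disjoint_iff]
  refine forall_congr' fun i => ?_
  have h : (⨆ j, ⨆ (_ : j ≠ i), Submodule.restrictScalars S (t j)) =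
      Submodule.restrictScalars S (⨆ j, ⨆ (_ : j ≠ i), t j) := by
    rw [Submodule.restrictScalars_iSup]
    congr 1
    funext j
    rw [Submodule.restrictScalars_iSup]
  rw [h, ← Submodule.restrictScalars_inf, ← Submodule.restrictScalars_bot S R M]
  exact (Submodule.restrictScalars_injective S R M).eq_iff


section Restr

variable {K : Type u} [Field K] {A : Type v} [AddCommGroup A] [Module K A] [Coalgebra K A]
variable {V : Type w} [AddCommGroup V] [Module K V] [cV : HopfRep.Comod K A V]

attribute [local instance] comodModule

/-- the restricted comodule structure on a subcomodule -/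
@[reducible] noncomputable def restrComod (W : Submodule K V) (hW : HopfRep.IsSubcomod (k := K) (A := A) W) :
    HopfRep.Comod K A W := ComodSub.Comod.restr cV W hW

theorem isComodHom_subtype_restr (W : Submodule K V) (hW : HopfRep.IsSubcomod (k := K) (A := A) W) :
    letI := restrComod W hW
    Hoch.IsComodHom A W.subtype :=
  ComodSub.isComodHom_subtype cV W hW

theorem act_restr (W : Submodule K V) (hW : HopfRep.IsSubcomod (k := K) (A := A) W) (f : A →ₗ[K] K) (w : W) :
    letI := restrComod W hW
    ((act f w : W) : V) = act f (w : V) := by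
  let _ := restrComod W hW
  exact (isComodHom_iff W.subtype).1 (isComodHom_subtype_restr W hW) f w

theorem isSimpleComod_restr (W : Submodule K V) (hW : HopfRep.IsSubcomod (k := K) (A := A) W)
    (hs : IsSimpleModule (DualAlg K A) (toDualSubmodule W hW)) :
    letI := restrComod W hW
    HopfRep.IsSimpleComod K A W := by
  let _ := restrComod W hW
  have hnt : Nontrivial (toDualSubmodule W hW) := IsSimpleModule.nontrivial (DualAlg K A) _
  have hatom := isSimpleModule_iff_isAtom.mp hs
  refine ⟨?_, ?_⟩
  · obtain ⟨⟨x, hx⟩, ⟨y, hy⟩, hxy⟩ := hnt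
    exact ⟨⟨x, hx⟩, ⟨y, hy⟩, fun h => hxy (by
      have := congrArg Subtype.val h
      exact Subtype.ext this)⟩
  · intro W' hW'
    have hsub : HopfRep.IsSubcomod (k := K) (A := A) (W'.map W.subtype) := by
      rw [isSubcomod_iff]
      rintro f _ ⟨w', hw', rfl⟩
      refine ⟨act f w', (isSubcomod_iff W').1 hW' f w' hw', ?_⟩
      exact act_restr W hW f w'
    have hle : toDualSubmodule (W'.map W.subtype) hsub ≤ toDualSubmodule W hW := by
      rintro _ ⟨w', _, rfl⟩
      exact w'.2
    rcases hatom.le_iff.mp hle with h | h
    · left
      have h1 : W'.map W.subtype = ⊥ := by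
        rw [← toDualSubmodule_restrictScalars (W'.map W.subtype) hsub, h, Submodule.restrictScalars_bot]
      apply Submodule.map_injective_of_injective W.subtype_injective
      rw [h1, Submodule.map_bot]
    · right
      have h1 : W'.map W.subtype = W := by
        rw [← toDualSubmodule_restrictScalars (W'.map W.subtype) hsub, h, toDualSubmodule_restrictScalars]
      rw [eq_top_iff]
      rintro ⟨x, hx⟩ _
      have : x ∈ W'.map W.subtype := by rw [h1]; exact hx
      obtain ⟨w', hw', hw'x⟩ := this
      have : w' = ⟨x, hx⟩ := Subtype.ext hw'x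
      rw [← this]; exact hw'

theorem coeffSpace_restr_top (W : Submodule K V) (hW : HopfRep.IsSubcomod (k := K) (A := A) W) :
    letI := restrComod W hW
    coeffSpace A (⊤ : Submodule K W) = coeffSpace A W := by
  let _ := restrComod W hW
  have h := coeffSpace_map_eq W.subtype (isComodHom_subtype_restr W hW) W.subtype_injective ⊤
  rw [Submodule.map_top, Submodule.range_subtype] at h
  exact h.symm

end Restr

end Groth.Agent.Lib.Helper75
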