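import Mathlib

/-!
# The kernel of a bialgebra map between Hopf algebras over a field is a Hopf ideal (helper75)
-/

set_option autoImplicit false
universe u v w

open TensorProduct WithConv

namespace Groth.Agent.Lib.Helper75.KerHopf

section Antipode

variable {k : Type u} [CommRing k] {A : Type v} [Ring A] [HopfAlgebra k A] {B : Type w} [Ring B] [HopfAlgebra k B]

/-- bialgebra maps commute with antipodes -/
theorem comp_antipode (π : A →ₐc[k] B) :
    π.toLinearMap ∘ₗ HopfAlgebraStruct.antipode (R := k) (A := A) =
      HopfAlgebraStruct.antipode (R := k) (A := B) ∘ₗ π.toLinearMap := by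
  have h1 : toConv (π.toLinearMap ∘ₗ HopfAlgebraStruct.antipode (R := k) (A := A)) * toConv π.toLinearMap =
      (1 : WithConv (A →ₗ[k] B)) := by
    apply ofConv_injective
    have := LinearMap.algHom_comp_convMul_distrib (AlgHomClass.toAlgHom π)
      (toConv (HopfAlgebraStruct.antipode (R := k) (A := A))) (toConv LinearMap.id)
    rw [LinearMap.antipode_mul_id, LinearMap.algHom_comp_convOne] at this
    rw [this]
    rfl
  have h2 : toConv π.toLinearMap * toConv (HopfAlgebraStruct.antipode (R := k) (A := B) ∘ₗ π.toLinearMap) =
      (1 : WithConv (A →ₗ[k] B)) := by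
    apply ofConv_injective
    have := LinearMap.convMul_comp_coalgHom_distrib (toConv LinearMap.id)
      (toConv (HopfAlgebraStruct.antipode (R := k) (A := B))) π.toCoalgHom
    rw [LinearMap.id_mul_antipode, LinearMap.convOne_comp_coalgHom] at this
    rw [this]
    rfl
  have := left_inv_eq_right_inv h1 h2
  exact toConv_injective this

end Antipode

section Ker

variable {k : Type u} [Field k] {A : Type v} [CommRing A] [HopfAlgebra k A] {B : Type w} [CommRing B]
  [HopfAlgebra k B]

theorem isCoideal_ker (π : A →ₐc[k] B) : ((RingHom.ker (π : A →+* B)).restrictScalars k).IsCoideal where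
  counit_eq_zero := by
    intro x hx
    have hx' : π x = 0 := hx
    rw [← CoalgHomClass.counit_comp_apply π x, hx', map_zero]
  map_mkQ_comul_eq_zero := by
    intro x hx
    have hx' : π x = 0 := hx
    set Ik := (RingHom.ker (π : A →+* B)).restrictScalars k with hIk
    let πbar : A ⧸ Ik →ₗ[k] B := Ik.liftQ π.toLinearMap (by
      intro y hy
      exact hy)
    have hinj : Function.Injective πbar := by
      rw [← LinearMap.ker_eq_bot]
      apply Submodule.ker_liftQ_eq_bot
      intro y hy
      exact hy
    have hinj2 : Function.Injective (TensorProduct.map πbar πbar) :=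
      TensorProduct.map_injective_of_flat_flat πbar πbar hinj hinj
    apply hinj2
    rw [map_zero, ← LinearMap.comp_apply, ← TensorProduct.map_comp]
    have hc : πbar ∘ₗ Ik.mkQ = π.toLinearMap := Submodule.liftQ_mkQ _ _ _
    rw [hc]
    have := CoalgHomClass.map_comp_comul_apply π x
    rw [hx', map_zero] at this
    exact this

theorem isHopfIdeal_ker (π : A →ₐc[k] B) : (RingHom.ker (π : A →+* B)).IsHopfIdeal k :=
  { isCoideal_ker π with
    antipode_mem := by
      intro x hx
      have hx' : π x = 0 := hx
      show π (HopfAlgebraStruct.antipode (R := k) x) = 0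
      have := LinearMap.congr_fun (comp_antipode π) x
      simp only [LinearMap.coe_comp, Function.comp_apply] at this
      have h2 : π.toLinearMap x = 0 := hx'
      rw [h2, map_zero] at this
      exact this }

end Ker

end Groth.Agent.Lib.Helper75.KerHopf
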