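import Groth.Agent.Lib.Helper75.ComodCoeff

/-!
# Simple comodules and their coefficient coalgebras (helper75)
-/

set_option autoImplicit false
universe u v w w'

open TensorProduct

namespace Groth.Agent.Lib.Helper75

theorem isSemisimpleModule_of_le {R : Type*} {M : Type*} [Ring R] [AddCommGroup M] [Module R M]
    {N T : Submodule R M} (hT : IsSemisimpleModule R T) (h : N ≤ T) : IsSemisimpleModule R N :=
  IsSemisimpleModule.of_injective (Submodule.inclusion h) (Submodule.inclusion_injective h)

section

variable {K : Type u} [Field K] {A : Type v} [AddCommGroup A] [Module K A] [Coalgebra K A]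
variable {V : Type w} [AddCommGroup V] [Module K V] [HopfRep.Comod K A V]

attribute [local instance] comodModule

theorem isSubcomod_top : HopfRep.IsSubcomod (k := K) (A := A) (⊤ : Submodule K V) := by
  rw [isSubcomod_iff]
  intro f w _
  exact Submodule.mem_top

theorem isSubcomod_bot : HopfRep.IsSubcomod (k := K) (A := A) (⊥ : Submodule K V) := by
  rw [isSubcomod_iff]
  intro f w hw
  rw [Submodule.mem_bot] at hw ⊢
  rw [hw, map_zero]

/-- matrix coefficient maps are comodule maps into the regular comodule -/
theorem isComodHom_cf (φ : V →ₗ[K] K) : Hoch.IsComodHom A (cf (A := A) φ) := by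
  unfold Hoch.IsComodHom
  apply LinearMap.ext
  intro v
  simp only [LinearMap.coe_comp, Function.comp_apply]
  exact comul_cf φ v

/-- matrix coefficient maps, linear over the dual algebra -/
noncomputable def cfR (φ : V →ₗ[K] K) : V →ₗ[DualAlg K A] A :=
  toDualLinearMap (cf (A := A) φ) (isComodHom_cf φ)

@[simp] theorem cfR_apply (φ : V →ₗ[K] K) (v : V) : cfR (A := A) φ v = cf (A := A) φ v := rfl

/-- a subcoalgebra is a subcomodule of the regular comodule -/
theorem IsSubcoalg.isSubcomod {B : Submodule K A} (hB : IsSubcoalg B) :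
    HopfRep.IsSubcomod (k := K) (A := A) B := by
  rw [isSubcomod_iff]
  intro f b hb
  exact ((isSubcoalg_iff B).1 hB).1 f b hb

theorem IsSubcoalg.coeffSpace_le {B : Submodule K A} (hB : IsSubcoalg B) : coeffSpace A B ≤ B := by
  apply Submodule.span_le.2
  rintro _ ⟨φ, b, hb, rfl⟩
  exact ((isSubcoalg_iff B).1 hB).2 φ b hb

theorem isLeast_coeffSpace_top :
    IsLeast {D' : Submodule K A | ∀ e : V, HopfRep.Comod.coact (k := K) (A := A) e ∈
      LinearMap.range (LinearMap.lTensor V D'.subtype)} (coeffSpace A (⊤ : Submodule K V)) := by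
  constructor
  · intro e
    exact coact_mem_range_coeffSpace ⊤ (Submodule.mem_top)
  · intro D' hD'
    rw [coeffSpace_le_iff]
    intro w _
    exact hD' w

theorem coeffSpace_top_ne_bot [Nontrivial V] : coeffSpace A (⊤ : Submodule K V) ≠ ⊥ := by
  obtain ⟨v, hv⟩ := exists_ne (0 : V)
  have : ¬ ∀ φ : Module.Dual K V, φ v = 0 := by
    rw [Module.forall_dual_apply_eq_zero_iff]
    exact hv
  push Not at this
  obtain ⟨φ, hφ⟩ := this
  intro h
  have h1 : cf (A := A) φ v ∈ coeffSpace A (⊤ : Submodule K V) := cf_mem_coeffSpace ⊤ φ Submodule.mem_top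
  rw [h, Submodule.mem_bot] at h1
  apply hφ
  rw [← counit_cf (A := A) φ v, h1, map_zero]

/-- (L') a simple subcomodule of the regular comodule contained in the coefficient space of a simple
comodule `V` is isomorphic to `V` -/
theorem nonempty_linearEquiv_of_le_coeffSpace [IsSimpleModule (DualAlg K A) V]
    (N : Submodule (DualAlg K A) A) [IsSimpleModule (DualAlg K A) N]
    (hN : N.restrictScalars K ≤ coeffSpace A (⊤ : Submodule K V)) :
    Nonempty (N ≃ₗ[DualAlg K A] V) := by
  let s : Set (Submodule (DualAlg K A) A) := Set.range (fun φ : V →ₗ[K] K => LinearMap.range (cfR (A := A) φ))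
  have hle : N ≤ sSup s := by
    have h1 : coeffSpace A (⊤ : Submodule K V) ≤ (sSup s).restrictScalars K := by
      apply Submodule.span_le.2
      rintro _ ⟨φ, w, _, rfl⟩
      have : LinearMap.range (cfR (A := A) φ) ≤ sSup s := le_sSup ⟨φ, rfl⟩
      exact this ⟨w, rfl⟩
    intro x hx
    exact h1 (hN hx)
  have hs : ∀ m : s, IsSemisimpleModule (DualAlg K A) m := by
    rintro ⟨_, φ, rfl⟩
    exact IsSemisimpleModule.range _
  obtain ⟨m, ⟨φ, rfl⟩, S, hS', ⟨e⟩⟩ := N.le_linearEquiv_of_le_sSup s hle
  have hS : S ≤ LinearMap.range (cfR (A := A) φ) := hS'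
  have hNnt : Nontrivial N := IsSimpleModule.nontrivial (DualAlg K A) N
  rcases (cfR (A := A) φ).injective_or_eq_zero with hinj | h0
  · have e2 : V ≃ₗ[DualAlg K A] LinearMap.range (cfR (A := A) φ) := LinearEquiv.ofInjective _ hinj
    have hsimple : IsSimpleModule (DualAlg K A) (LinearMap.range (cfR (A := A) φ)) := IsSimpleModule.congr e2.symm
    have hSsimple : IsSimpleModule (DualAlg K A) S := IsSimpleModule.congr (R := DualAlg K A) (M := S) (N := N) e.symm
    have hatom := isSimpleModule_iff_isAtom.mp hsimple
    have hSatom := isSimpleModule_iff_isAtom.mp hSsimple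
    have hEq : S = LinearMap.range (cfR (A := A) φ) := (hatom.le_iff_eq hSatom.1).mp hS
    exact ⟨(e.trans (LinearEquiv.ofEq _ _ hEq)).trans e2.symm⟩
  · exfalso
    rw [h0, LinearMap.range_zero] at hS
    have hSbot : S = ⊥ := le_bot_iff.mp hS
    subst hSbot
    obtain ⟨x, y, hxy⟩ := hNnt
    apply hxy
    apply e.injective
    exact Subsingleton.elim _ _

/-- (L'') subcomodules of the regular comodule inside the coefficient space of a simple comodule are
semisimple -/
theorem isSemisimpleModule_of_le_coeffSpace [IsSimpleModule (DualAlg K A) V]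
    (N : Submodule (DualAlg K A) A)
    (hN : N.restrictScalars K ≤ coeffSpace A (⊤ : Submodule K V)) :
    IsSemisimpleModule (DualAlg K A) N := by
  let p : (V →ₗ[K] K) → Submodule (DualAlg K A) A := fun φ => LinearMap.range (cfR (A := A) φ)
  have hT : IsSemisimpleModule (DualAlg K A) ↥(⨆ i ∈ (Set.univ : Set (V →ₗ[K] K)), p i) :=
    isSemisimpleModule_biSup_of_isSemisimpleModule_submodule (fun φ _ => IsSemisimpleModule.range _)
  have hle : N ≤ ⨆ i ∈ (Set.univ : Set (V →ₗ[K] K)), p i := by
    have h1 : coeffSpace A (⊤ : Submodule K V) ≤ (⨆ i ∈ (Set.univ : Set (V →ₗ[K] K)), p i).restrictScalars K := by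
      apply Submodule.span_le.2
      rintro _ ⟨φ, w, _, rfl⟩
      have : p φ ≤ ⨆ i ∈ (Set.univ : Set (V →ₗ[K] K)), p i := le_biSup p (Set.mem_univ φ)
      exact this ⟨w, rfl⟩
    intro x hx
    exact h1 (hN hx)
  exact isSemisimpleModule_of_le hT hle

/-- a nonzero subcoalgebra inside the coefficient space of a simple comodule is the whole
coefficient space -/
theorem eq_coeffSpace_of_isSubcoalg_le [IsSimpleModule (DualAlg K A) V] {B : Submodule K A}
    (hB : IsSubcoalg B) (hB0 : B ≠ ⊥) (hBD : B ≤ coeffSpace A (⊤ : Submodule K V)) :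
    B = coeffSpace A (⊤ : Submodule K V) := by
  apply le_antisymm hBD
  have hss : IsSemisimpleModule (DualAlg K A) (toDualSubmodule B hB.isSubcomod) :=
    isSemisimpleModule_of_le_coeffSpace (V := V) _ (by rw [toDualSubmodule_restrictScalars]; exact hBD)
  rcases IsSemisimpleModule.eq_bot_or_exists_simple_le (toDualSubmodule B hB.isSubcomod) with h0 | ⟨N, hNB, hNs⟩
  · exfalso
    apply hB0
    rw [← toDualSubmodule_restrictScalars B hB.isSubcomod, h0, Submodule.restrictScalars_bot]
  · have hNB' : N.restrictScalars K ≤ B := fun x hx => hNB hx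
    obtain ⟨e⟩ := nonempty_linearEquiv_of_le_coeffSpace (V := V) N (hNB'.trans hBD)
    -- θ : V → A the embedding
    let θ : V →ₗ[DualAlg K A] A := N.subtype ∘ₗ e.symm.toLinearMap
    have hθ : Hoch.IsComodHom A (θ.restrictScalars K) := isComodHom_restrictScalars θ
    have hinj : Function.Injective (θ.restrictScalars K) := by
      intro x y hxy
      apply e.symm.injective
      apply N.subtype_injective
      exact hxy
    have hmap : (⊤ : Submodule K V).map (θ.restrictScalars K) ≤ B := by
      rintro _ ⟨v, _, rfl⟩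
      exact hNB' (e.symm v).2
    calc coeffSpace A (⊤ : Submodule K V)
        = coeffSpace A ((⊤ : Submodule K V).map (θ.restrictScalars K)) := (coeffSpace_map_eq _ hθ hinj ⊤).symm
      _ ≤ coeffSpace A B := coeffSpace_mono hmap
      _ ≤ B := hB.coeffSpace_le

end

theorem exists_simple_le_of_isArtinian {R : Type*} {M : Type*} [Ring R] [AddCommGroup M] [Module R M]
    (O : Submodule R M) [IsArtinian R O] (hO : O ≠ ⊥) : ∃ N ≤ O, IsSimpleModule R N := by
  have hnt : Nontrivial (Submodule R O) := by
    rw [Submodule.nontrivial_iff]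
    exact Submodule.nontrivial_iff_ne_bot.2 hO
  obtain ⟨a, ha⟩ := IsAtomic.exists_atom (Submodule R O)
  have hs : IsSimpleModule R a := isSimpleModule_iff_isAtom.2 ha
  refine ⟨a.map O.subtype, O.map_subtype_le a, ?_⟩
  exact IsSimpleModule.congr (Submodule.equivMapOfInjective O.subtype O.subtype_injective a).symm

section

variable {K : Type u} [Field K] {A : Type v} [AddCommGroup A] [Module K A] [Coalgebra K A]
variable {V : Type w} [AddCommGroup V] [Module K V] [HopfRep.Comod K A V]

attribute [local instance] comodModule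

/-- every nonzero subcomodule contains a simple subcomodule -/
theorem exists_simple_le (W : Submodule (DualAlg K A) V) (hW : W ≠ ⊥) :
    ∃ N ≤ W, IsSimpleModule (DualAlg K A) N := by
  obtain ⟨w, hwW, hw0⟩ := Submodule.exists_mem_ne_zero_of_ne_bot hW
  let O : Submodule (DualAlg K A) V := toDualSubmodule (orbit K A w) (isSubcomod_orbit w)
  have hOW : O ≤ W := by
    intro x hx
    obtain ⟨f, rfl⟩ := (mem_orbit_iff w x).1 hx
    exact W.smul_mem (WithConv.toConv f) hwW
  have hO0 : O ≠ ⊥ := by
    intro h
    have : w ∈ O := self_mem_orbit w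
    rw [h, Submodule.mem_bot] at this
    exact hw0 this
  have hfin : Module.Finite K (O.restrictScalars K) := by
    rw [toDualSubmodule_restrictScalars]
    exact finite_orbit w
  let e : (O.restrictScalars K) ≃ₗ[K] O :=
    { toFun := fun x => ⟨x.1, x.2⟩
      invFun := fun x => ⟨x.1, x.2⟩
      map_add' := fun _ _ => rfl
      map_smul' := fun _ _ => rfl
      left_inv := fun _ => rfl
      right_inv := fun _ => rfl }
  have hfin' : Module.Finite K O := Module.Finite.equiv e
  have hart : IsArtinian K O := isArtinian_of_fg_of_artinian' (R := K) (M := O)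
  have hart' : IsArtinian (DualAlg K A) O := isArtinian_of_tower K hart
  obtain ⟨N, hN, hNs⟩ := exists_simple_le_of_isArtinian O hO0
  exact ⟨N, hN.trans hOW, hNs⟩

end

end Groth.Agent.Lib.Helper75
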