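import Groth.Agent.Lib.Helper75.ComodBasic

set_option autoImplicit false
universe u v w w'

open TensorProduct

namespace Groth.Agent.Lib.Helper75

section Shear

variable (k : Type u) [CommRing k] (A : Type v) [CommRing A] [HopfAlgebra k A]

open Algebra.TensorProduct WithConv

/-- `x ↦ x ⊗ 1` as a point of the convolution group -/
noncomputable def iL : WithConv (A →ₐ[k] A ⊗[k] A) := toConv includeLeft
/-- `x ↦ 1 ⊗ x` -/
noncomputable def iR : WithConv (A →ₐ[k] A ⊗[k] A) := toConv includeRight
/-- the comultiplication -/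
noncomputable def cD : WithConv (A →ₐ[k] A ⊗[k] A) := toConv (Bialgebra.comulAlgHom k A)

theorem cD_eq : cD k A = iL k A * iR k A := by
  apply WithConv.ofConv_injective
  apply AlgHom.ext
  intro x
  rw [AlgHom.convMul_apply]
  simp [iL, iR, cD]

theorem iL_inv : (iL k A)⁻¹ = toConv (includeLeft.comp (HopfAlgebra.antipodeAlgHom k A)) := rfl
theorem iR_inv : (iR k A)⁻¹ = toConv (includeRight.comp (HopfAlgebra.antipodeAlgHom k A)) := rfl

/-- the shear map `x ⊗ a ↦ x₁ ⊗ x₂ a` -/
noncomputable def shearΨ : A ⊗[k] A →ₐ[k] A ⊗[k] A :=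
  lift (Bialgebra.comulAlgHom k A) includeRight (fun _ _ => Commute.all _ _)

/-- its inverse `x ⊗ a ↦ x₁ ⊗ S(x₂) a` -/
noncomputable def shearΦ : A ⊗[k] A →ₐ[k] A ⊗[k] A :=
  lift (iL k A * (iR k A)⁻¹).ofConv includeRight (fun _ _ => Commute.all _ _)

/-- `x ⊗ a ↦ (S x ⊗ 1) Δ a` -/
noncomputable def shearΘ : A ⊗[k] A →ₐ[k] A ⊗[k] A :=
  lift ((iL k A)⁻¹).ofConv (Bialgebra.comulAlgHom k A) (fun _ _ => Commute.all _ _)

/-- `x ⊗ a ↦ (1 ⊗ x) Δ a` -/
noncomputable def shearΞ : A ⊗[k] A →ₐ[k] A ⊗[k] A :=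
  lift includeRight (Bialgebra.comulAlgHom k A) (fun _ _ => Commute.all _ _)

theorem shearΨ_comp_shearΦ : (shearΨ k A).comp (shearΦ k A) = AlgHom.id k _ := by
  apply Algebra.TensorProduct.ext
  · -- on x ⊗ 1
    have h1 : (shearΦ k A).comp includeLeft = (iL k A * (iR k A)⁻¹).ofConv := by
      simp [shearΦ]
    rw [AlgHom.comp_assoc, h1, AlgHom.comp_convMul_distrib]
    have h2 : (shearΨ k A).comp (iL k A).ofConv = (cD k A).ofConv := by
      simp [shearΨ, iL, cD]
    have h3 : (shearΨ k A).comp ((iR k A)⁻¹).ofConv = ((iR k A)⁻¹).ofConv := by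
      rw [iR_inv]
      simp [shearΨ, ← AlgHom.comp_assoc]
    rw [h2, h3]
    simp only [toConv_ofConv]
    rw [cD_eq, mul_assoc, show iR k A * (iR k A)⁻¹ = 1 from mul_inv_cancel (G := WithConv (A →ₐ[k] A ⊗[k] A)) _, mul_one]
    rfl
  · apply AlgHom.ext
    intro a
    simp [shearΨ, shearΦ]

theorem shearΦ_comp_shearΨ : (shearΦ k A).comp (shearΨ k A) = AlgHom.id k _ := by
  apply Algebra.TensorProduct.ext
  · have h1 : (shearΨ k A).comp includeLeft = (cD k A).ofConv := by
      simp [shearΨ, cD]
    rw [AlgHom.comp_assoc, h1, cD_eq, AlgHom.comp_convMul_distrib]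
    have h2 : (shearΦ k A).comp (iL k A).ofConv = (iL k A * (iR k A)⁻¹).ofConv := by
      simp [shearΦ, iL]
    have h3 : (shearΦ k A).comp (iR k A).ofConv = (iR k A).ofConv := by
      simp [shearΦ, iR]
    rw [h2, h3]
    simp only [toConv_ofConv]
    rw [mul_assoc, show (iR k A)⁻¹ * iR k A = 1 from inv_mul_cancel (G := WithConv (A →ₐ[k] A ⊗[k] A)) _, mul_one]
    rfl
  · apply AlgHom.ext
    intro a
    simp [shearΨ, shearΦ]

theorem shearΘ_comp_shearΨ : (shearΘ k A).comp (shearΨ k A) = shearΞ k A := by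
  apply Algebra.TensorProduct.ext
  · have h1 : (shearΨ k A).comp includeLeft = (cD k A).ofConv := by
      simp [shearΨ, cD]
    rw [AlgHom.comp_assoc, h1, cD_eq, AlgHom.comp_convMul_distrib]
    have h2 : (shearΘ k A).comp (iL k A).ofConv = ((iL k A)⁻¹).ofConv := by
      simp [shearΘ, iL]
    have h3 : (shearΘ k A).comp (iR k A).ofConv = (cD k A).ofConv := by
      simp [shearΘ, iR, cD]
    rw [h2, h3]
    simp only [toConv_ofConv]
    rw [cD_eq, ← mul_assoc, show (iL k A)⁻¹ * iL k A = 1 from inv_mul_cancel (G := WithConv (A →ₐ[k] A ⊗[k] A)) _, one_mul]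
    simp [shearΞ, iR]
  · apply AlgHom.ext
    intro a
    simp [shearΨ, shearΘ, shearΞ]

end Shear


section Integral

variable {k : Type u} [CommRing k] {A : Type v} [CommRing A] [HopfAlgebra k A]

open Algebra.TensorProduct WithConv

theorem contractL_one_tmul_mul (α : A →ₗ[k] k) (c : A) (t : A ⊗[k] A) :
    contractL A α (((1 : A) ⊗ₜ[k] c) * t) = c * contractL A α t := by
  induction t using TensorProduct.induction_on with
  | zero => simp
  | tmul p q => simp [Algebra.TensorProduct.tmul_mul_tmul]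
  | add x y hx hy => simp only [mul_add, map_add, hx, hy]

theorem apply_contractL_tmul_one_mul (α f : A →ₗ[k] k) (c : A) (t : A ⊗[k] A) :
    f (contractL A α ((c ⊗ₜ[k] (1 : A)) * t)) = α (c * contractR A f t) := by
  induction t using TensorProduct.induction_on with
  | zero => simp
  | tmul p q => simp [Algebra.TensorProduct.tmul_mul_tmul, mul_comm]
  | add x y hx hy => simp only [mul_add, map_add, hx, hy]

variable (k A) in
/-- `β a x = α (S x * a)` -/
noncomputable def betaMap (α : A →ₗ[k] k) : A →ₗ[k] (A →ₗ[k] k) :=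
  LinearMap.mk₂ k (fun a x => α (HopfAlgebra.antipode k x * a))
    (fun a b x => by simp [mul_add])
    (fun c a x => by simp)
    (fun a x y => by simp [add_mul])
    (fun c a x => by simp)

@[simp] theorem betaMap_apply (α : A →ₗ[k] k) (a x : A) :
    betaMap k A α a x = α (HopfAlgebra.antipode k x * a) := rfl

theorem apply_contractR_lift_mul (α f : A →ₗ[k] k) (a : A) (t : A ⊗[k] A) :
    f (contractR A α ((lift (includeLeft : A →ₐ[k] A ⊗[k] A) (includeRight.comp (HopfAlgebra.antipodeAlgHom k A))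
      (fun _ _ => Commute.all _ _) t) * ((1 : A) ⊗ₜ[k] a))) =
      LinearMap.mul' k k (TensorProduct.map f (betaMap k A α a) t) := by
  induction t using TensorProduct.induction_on with
  | zero => simp
  | tmul p q => simp [Algebra.TensorProduct.tmul_mul_tmul, mul_comm]
  | add x y hx hy => simp only [add_mul, map_add, hx, hy]

/-- the key identity (K'): `α(S(x) a₁) a₂ = x₁ α(S(x₂) a)` in functional form -/
theorem betaMap_hitR (α : A →ₗ[k] k) (hα : ∀ a, hitL α a = α a • (1 : A)) (f : A →ₗ[k] k) (a : A) :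
    betaMap k A α (hitR f a) = convMul f (betaMap k A α a) := by
  -- L = Rr
  have hLR : ∀ z : A ⊗[k] A, contractL A α (shearΘ k A z) = contractR A α (shearΦ k A z) := by
    intro z
    have hsurj : Function.Surjective (shearΨ k A) := by
      intro y
      exact ⟨shearΦ k A y, by rw [← AlgHom.comp_apply, shearΨ_comp_shearΦ]; rfl⟩
    obtain ⟨y, rfl⟩ := hsurj z
    rw [← AlgHom.comp_apply, shearΘ_comp_shearΨ, ← AlgHom.comp_apply (shearΦ k A), shearΦ_comp_shearΨ]
    simp only [AlgHom.id_apply]
    induction y using TensorProduct.induction_on with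
    | zero => simp
    | tmul x b =>
      simp only [shearΞ, lift_tmul, includeRight_apply, Bialgebra.comulAlgHom_apply]
      rw [contractL_one_tmul_mul]
      have := hα b
      simp only [hitL, LinearMap.coe_comp, Function.comp_apply] at this
      rw [this]
      simp
    | add x y hx hy => simp only [map_add, hx, hy]
  apply LinearMap.ext
  intro x
  have h1 : f (contractL A α (shearΘ k A (x ⊗ₜ[k] a))) = betaMap k A α (hitR f a) x := by
    simp only [shearΘ, lift_tmul, iL_inv, ofConv_toConv, AlgHom.comp_apply, includeLeft_apply,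
      Bialgebra.comulAlgHom_apply]
    rw [apply_contractL_tmul_one_mul]
    rfl
  have h2 : f (contractR A α (shearΦ k A (x ⊗ₜ[k] a))) = convMul f (betaMap k A α a) x := by
    simp only [shearΦ, lift_tmul, includeRight_apply]
    rw [AlgHom.convMul_apply]
    simp only [iL, iR_inv, ofConv_toConv]
    rw [apply_contractR_lift_mul]
    rfl
  rw [← h1, hLR, h2]

end Integral

end Groth.Agent.Lib.Helper75
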