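import Groth.Agent.Lib.Helper75.UnipFilt

/-!
# Unipotent ⟺ the regular comodule is exhausted by the unipotent filtration (helper75)
-/

set_option autoImplicit false
universe u v w w'

open TensorProduct

namespace Groth.Agent.Lib.Helper75

section UnipChar

variable {K : Type u} [Field K] {A : Type v} [CommRing A] [Bialgebra K A]
variable {V : Type w} [AddCommGroup V] [Module K V] [HopfRep.Comod K A V]

/-- membership in the filtration can be tested on matrix coefficients -/
theorem mem_ufilt_of_forall_cf (n : ℕ) :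
    ∀ v : V, (∀ φ : V →ₗ[K] K, cf (A := A) φ v ∈ ufilt K A A n) → v ∈ ufilt K A V n := by
  induction n with
  | zero =>
    intro v h
    rw [ufilt_zero, Submodule.mem_bot]
    rw [← Module.forall_dual_apply_eq_zero_iff K]
    intro φ
    have h1 := h φ
    rw [ufilt_zero, Submodule.mem_bot] at h1
    have := counit_cf (A := A) φ v
    rw [h1, map_zero] at this
    exact this.symm
  | succ n ih =>
    intro v h
    rw [ufilt_succ, mem_ustep]
    intro f
    apply ih
    intro φ
    have h1 := h φ
    rw [ufilt_succ, mem_ustep] at h1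
    have h2 := h1 f
    rw [← (isComodHom_iff (cf (A := A) φ)).1 (isComodHom_cf φ) f v, ← map_smul, ← map_sub] at h2
    exact h2

theorem exists_le_ufilt_of_fg (h : ∀ a : A, ∃ n, a ∈ ufilt K A A n) (R : Submodule K A)
    (hR : R.FG) : ∃ n, R ≤ ufilt K A A n := by
  classical
  obtain ⟨S, rfl⟩ := hR
  choose n hn using h
  refine ⟨S.sup n, Submodule.span_le.2 fun s hs => ?_⟩
  exact ufilt_mono (Finset.le_sup (f := n) hs) (hn s)

/-- if the regular comodule is exhausted by the filtration, so is every comodule -/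
theorem exists_mem_ufilt_of_regular (h : ∀ a : A, ∃ n, a ∈ ufilt K A A n) (v : V) :
    ∃ n, v ∈ ufilt K A V n := by
  have hfin : Module.Finite K (LinearMap.range (sliceL (coactMap K A V v))) := finite_range_sliceL _
  have hfg : (LinearMap.range (sliceL (coactMap K A V v))).FG := Module.Finite.iff_fg.1 hfin
  obtain ⟨n, hn⟩ := exists_le_ufilt_of_fg h _ hfg
  refine ⟨n, mem_ufilt_of_forall_cf n v fun φ => hn ⟨φ, ?_⟩⟩
  rfl

theorem fixedPts_ne_bot_of_regular (h : ∀ a : A, ∃ n, a ∈ ufilt K A A n) [Nontrivial V] :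
    HopfRep.fixedPts K A V ≠ ⊥ := by
  classical
  obtain ⟨v, hv⟩ := exists_ne (0 : V)
  have hex : ∃ n, ufilt K A V n ≠ ⊥ := by
    obtain ⟨n, hn⟩ := exists_mem_ufilt_of_regular h v
    exact ⟨n, fun hb => hv (by rw [hb, Submodule.mem_bot] at hn; exact hn)⟩
  have hmin : ∀ {m : ℕ}, m < Nat.find hex → ¬ ufilt K A V m ≠ ⊥ := fun {m} hm => Nat.find_min hex hm
  have hspec := Nat.find_spec hex
  cases hm : Nat.find hex with
  | zero =>
    rw [hm] at hspec
    exact absurd ufilt_zero hspec
  | succ m =>
    rw [hm] at hspec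
    have hm' : ¬ ufilt K A V m ≠ ⊥ := hmin (by rw [hm]; exact Nat.lt_succ_self m)
    rw [not_not] at hm'
    rw [ufilt_succ, hm', ustep_bot] at hspec
    exact hspec

/-- a group is unipotent as soon as its regular comodule is exhausted by the filtration -/
theorem isUnipotent_of_regular (h : ∀ a : A, ∃ n, a ∈ ufilt K A A n) : HopfRep.IsUnipotent K A := by
  intro V _ _ _ _ hnt
  exact fixedPts_ne_bot_of_regular h

theorem isUnipotent_iff_regular :
    HopfRep.IsUnipotent K A ↔ ∀ a : A, ∃ n, a ∈ ufilt K A A n :=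
  ⟨fun hU a => exists_mem_ufilt_regular hU a, isUnipotent_of_regular⟩

end UnipChar

end Groth.Agent.Lib.Helper75
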