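import Groth.Agent.Lib.Helper75.ComodBasic

set_option autoImplicit false
universe u v w w'

open TensorProduct

namespace Groth.Agent.Lib.Helper75

section Field

variable {K : Type u} [Field K] {A : Type v} [AddCommGroup A] [Module K A]
variable {V : Type w} [AddCommGroup V] [Module K V]

/-- expansion of a tensor along a basis of the right factor -/
theorem eq_sum_contractR {κ : Type*} [DecidableEq κ] (b : Module.Basis κ K A) (x : V ⊗[K] A) :
    x = ((TensorProduct.equivFinsuppOfBasisRight b) x).sum fun i m => m ⊗ₜ[K] b i := by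
  classical
  rw [← TensorProduct.equivFinsuppOfBasisRight_symm_apply, LinearEquiv.symm_apply_apply]

theorem equivFinsuppOfBasisRight_eq_contractR {κ : Type*} [DecidableEq κ] (b : Module.Basis κ K A) (x : V ⊗[K] A) (i : κ) :
    (TensorProduct.equivFinsuppOfBasisRight b) x i = contractR V (b.coord i) x := by
  classical
  rw [TensorProduct.equivFinsuppOfBasisRight_apply]
  rfl

theorem equivFinsuppOfBasisLeft_eq_contractL {ι : Type*} [DecidableEq ι] (b : Module.Basis ι K V) (x : V ⊗[K] A) (i : ι) :
    (TensorProduct.equivFinsuppOfBasisLeft b) x i = contractL A (b.coord i) x := by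
  classical
  rw [TensorProduct.equivFinsuppOfBasisLeft_apply]
  rfl

/-- (F1) membership in `W ⊗ A` is tested by contracting against all functionals on `A` -/
theorem mem_range_rTensor_iff (W : Submodule K V) (x : V ⊗[K] A) :
    x ∈ LinearMap.range (W.subtype.rTensor A) ↔ ∀ f : A →ₗ[K] K, contractR V f x ∈ W := by
  classical
  constructor
  · rintro ⟨y, rfl⟩ f
    rw [contractR_rTensor]
    exact (contractR W f y).2
  · intro h
    let b := Module.Free.chooseBasis K A
    rw [eq_sum_contractR b x]
    apply Submodule.sum_mem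
    intro i _
    rw [equivFinsuppOfBasisRight_eq_contractR]
    exact ⟨(⟨contractR V (b.coord i) x, h _⟩ : W) ⊗ₜ[K] b i, by simp⟩

/-- (F2) membership in `V ⊗ D` is tested by contracting against all functionals on `V` -/
theorem mem_range_lTensor_iff (D : Submodule K A) (x : V ⊗[K] A) :
    x ∈ LinearMap.range (D.subtype.lTensor V) ↔ ∀ φ : V →ₗ[K] K, contractL A φ x ∈ D := by
  classical
  constructor
  · rintro ⟨y, rfl⟩ φ
    rw [contractL_lTensor]
    exact (contractL D φ y).2
  · intro h
    let b := Module.Free.chooseBasis K V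
    have hx : x = ((TensorProduct.equivFinsuppOfBasisLeft b) x).sum fun i n => b i ⊗ₜ[K] n := by
      rw [← TensorProduct.equivFinsuppOfBasisLeft_symm_apply, LinearEquiv.symm_apply_apply]
    rw [hx]
    apply Submodule.sum_mem
    intro i _
    rw [equivFinsuppOfBasisLeft_eq_contractL]
    exact ⟨b i ⊗ₜ[K] (⟨contractL A (b.coord i) x, h _⟩ : D), by simp⟩

/-- functionals on a subspace extend -/
theorem exists_extend_functional (W : Submodule K V) (ψ : W →ₗ[K] K) :
    ∃ φ : V →ₗ[K] K, φ ∘ₗ W.subtype = ψ := by
  exact LinearMap.exists_extend ψ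

/-- (F3) membership in `W ⊗ D` -/
theorem mem_range_map_iff (W : Submodule K V) (D : Submodule K A) (x : V ⊗[K] A) :
    x ∈ LinearMap.range (TensorProduct.map W.subtype D.subtype) ↔
      (∀ f : A →ₗ[K] K, contractR V f x ∈ W) ∧ (∀ φ : V →ₗ[K] K, contractL A φ x ∈ D) := by
  constructor
  · rintro ⟨y, rfl⟩
    refine ⟨fun f => ?_, fun φ => ?_⟩
    · rw [contractR_map]
      exact (contractR W (f ∘ₗ D.subtype) y).2
    · rw [contractL_map]
      exact (contractL D (φ ∘ₗ W.subtype) y).2
  · rintro ⟨h1, h2⟩
    obtain ⟨y, rfl⟩ := (mem_range_rTensor_iff W x).2 h1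
    have hy : y ∈ LinearMap.range (D.subtype.lTensor W) := by
      rw [mem_range_lTensor_iff]
      intro ψ
      obtain ⟨φ, rfl⟩ := exists_extend_functional W ψ
      rw [← contractL_rTensor]
      exact h2 φ
    obtain ⟨z, rfl⟩ := hy
    refine ⟨z, ?_⟩
    rw [← LinearMap.comp_apply, LinearMap.rTensor_comp_lTensor]

end Field


section Bridge

variable {K : Type u} [Field K] {A : Type v} [AddCommGroup A] [Module K A] [Coalgebra K A]
variable {V : Type w} [AddCommGroup V] [Module K V] [HopfRep.Comod K A V]
variable {W : Type w'} [AddCommGroup W] [Module K W] [HopfRep.Comod K A W]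

/-- a tensor vanishes iff all its right contractions vanish -/
theorem eq_zero_of_contractR_eq_zero {V : Type w} [AddCommGroup V] [Module K V] {A : Type v} [AddCommGroup A] [Module K A]
    (x : V ⊗[K] A) (h : ∀ f : A →ₗ[K] K, contractR V f x = 0) : x = 0 := by
  have : x ∈ LinearMap.range ((⊥ : Submodule K V).subtype.rTensor A) := by
    rw [mem_range_rTensor_iff]
    intro f
    rw [h f]
    exact Submodule.zero_mem _
  obtain ⟨y, rfl⟩ := this
  have : y = 0 := Subsingleton.elim _ _
  rw [this, map_zero]

theorem eq_of_contractR_eq {V : Type w} [AddCommGroup V] [Module K V] {A : Type v} [AddCommGroup A] [Module K A]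
    (x y : V ⊗[K] A) (h : ∀ f : A →ₗ[K] K, contractR V f x = contractR V f y) : x = y := by
  rw [← sub_eq_zero]
  apply eq_zero_of_contractR_eq_zero
  intro f
  rw [map_sub, h f, sub_self]

/-- (B1) subcomodules are the subspaces stable under the action of all functionals -/
theorem isSubcomod_iff (W : Submodule K V) :
    HopfRep.IsSubcomod (k := K) (A := A) W ↔ ∀ f : A →ₗ[K] K, ∀ w ∈ W, act f w ∈ W := by
  unfold HopfRep.IsSubcomod
  constructor
  · intro h f w hw
    exact (mem_range_rTensor_iff W _).1 (h w hw) f
  · intro h w hw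
    exact (mem_range_rTensor_iff W _).2 (fun f => h f w hw)

/-- comodule maps are the maps commuting with the action of all functionals -/
theorem isComodHom_iff (φ : V →ₗ[K] W) :
    Hoch.IsComodHom A φ ↔ ∀ (f : A →ₗ[K] K) (v : V), φ (act f v) = act f (φ v) := by
  unfold Hoch.IsComodHom
  constructor
  · intro h f v
    have h' := LinearMap.congr_fun h v
    simp only [LinearMap.coe_comp, Function.comp_apply] at h'
    rw [act_apply, act_apply]
    show _ = contractR W f (HopfRep.Comod.coact (k := K) (A := A) (φ v))
    rw [h', contractR_rTensor]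
  · intro h
    apply LinearMap.ext
    intro v
    simp only [LinearMap.coe_comp, Function.comp_apply]
    apply eq_of_contractR_eq
    intro f
    rw [contractR_rTensor]
    exact (h f v).symm

/-- the subcoalgebra predicate used in the statements -/
def IsSubcoalg (B : Submodule K A) : Prop :=
  ∀ b ∈ B, CoalgebraStruct.comul (R := K) b ∈ LinearMap.range (TensorProduct.map B.subtype B.subtype)

theorem isSubcoalg_iff (B : Submodule K A) :
    IsSubcoalg B ↔ (∀ f : A →ₗ[K] K, ∀ b ∈ B, hitR f b ∈ B) ∧ (∀ f : A →ₗ[K] K, ∀ b ∈ B, hitL f b ∈ B) := by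
  unfold IsSubcoalg
  constructor
  · intro h
    exact ⟨fun f b hb => ((mem_range_map_iff B B _).1 (h b hb)).1 f,
      fun f b hb => ((mem_range_map_iff B B _).1 (h b hb)).2 f⟩
  · rintro ⟨h1, h2⟩ b hb
    exact (mem_range_map_iff B B _).2 ⟨fun f => h1 f b hb, fun f => h2 f b hb⟩

end Bridge

end Groth.Agent.Lib.Helper75
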