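import Groth.Agent.Lib.Helper75.MinorStab
import Groth.Agent.Lib.Helper75.ComodField
import Groth.Prelude.Def_SGA3

/-!
# The stabilizer of a coordinate subspace is the stabilizer of a line (helper75)

For a corepresentation matrix `a` indexed by `ι` and an injection `emb : ι₁ → ι`, the comodule of
`ι₁`-tuples (a concrete tensor power) contains the antisymmetric vector `omega emb`; a point `g`
stabilizes its line iff the block `g (a s (emb j))`, `s ∉ range emb`, vanishes.
-/

set_option autoImplicit false
universe u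

open TensorProduct

namespace Groth.Agent.Lib.Helper75.LineStab

section MatComod

variable (k : Type u) [CommRing k] {A : Type u} [CommRing A] [HopfAlgebra k A]
variable {κ : Type} [Fintype κ] [DecidableEq κ]

/-- corepresentation matrices with an arbitrary finite index type -/
structure IsCorep (M : Matrix κ κ A) : Prop where
  comul : ∀ s t, CoalgebraStruct.comul (R := k) (M s t) = ∑ u, M s u ⊗ₜ[k] M u t
  counit : ∀ s t, CoalgebraStruct.counit (R := k) (M s t) = if s = t then (1 : k) else 0

variable {k}

/-- the comodule `κ → k` of a corepresentation matrix: `e_t ↦ Σ_s e_s ⊗ M s t` -/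
@[reducible] noncomputable def matComod (M : Matrix κ κ A) (hM : IsCorep k M) : HopfRep.Comod k A (κ → k) where
  coact := (Pi.basisFun k κ).constr k fun t => ∑ s, (Pi.basisFun k κ s) ⊗ₜ[k] M s t
  coassoc := by
    apply (Pi.basisFun k κ).ext
    intro t
    simp only [LinearMap.coe_comp, Function.comp_apply, LinearEquiv.coe_coe, Module.Basis.constr_basis, map_sum,
      LinearMap.rTensor_tmul, TensorProduct.sum_tmul, TensorProduct.assoc_tmul, LinearMap.lTensor_tmul,
      hM.comul, TensorProduct.tmul_sum]
    exact Finset.sum_comm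
  counit_comp := by
    apply (Pi.basisFun k κ).ext
    intro t
    simp only [LinearMap.coe_comp, Function.comp_apply, Module.Basis.constr_basis, map_sum, LinearMap.lTensor_tmul,
      hM.counit, LinearMap.flip_apply, TensorProduct.mk_apply]
    simp [TensorProduct.tmul_ite, eq_comm]

theorem matComod_coact_single (M : Matrix κ κ A) (hM : IsCorep k M) (t : κ) :
    (matComod M hM).coact (Pi.single t 1) = ∑ s, Pi.single s (1 : k) ⊗ₜ[k] M s t := by
  show ((Pi.basisFun k κ).constr k fun t => ∑ s, (Pi.basisFun k κ s) ⊗ₜ[k] M s t) (Pi.single t 1) = _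
  rw [← Pi.basisFun_apply, Module.Basis.constr_basis]
  simp only [Pi.basisFun_apply]

theorem contractL_proj_coact (M : Matrix κ κ A) (hM : IsCorep k M) (x : κ → k) (s : κ) :
    contractL A (LinearMap.proj s) ((matComod M hM).coact x) = ∑ t, x t • M s t := by
  have hx : x = ∑ t, x t • Pi.single t (1 : k) := by
    funext u
    simp [Finset.sum_apply, Pi.single_apply]
  conv_lhs => rw [hx]
  rw [map_sum, map_sum]
  apply Finset.sum_congr rfl
  intro t _
  rw [map_smul, map_smul, matComod_coact_single, map_sum, Finset.sum_eq_single s]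
  · rw [contractL_tmul, LinearMap.proj_apply, Pi.single_eq_same, one_smul]
  · intro u _ hu
    rw [contractL_tmul, LinearMap.proj_apply, Pi.single_eq_of_ne hu.symm, zero_smul]
  · intro h; exact absurd (Finset.mem_univ s) h

/-- expansion along the standard basis of the left factor -/
theorem eq_sum_single_tmul {R : Type u} [AddCommGroup R] [Module k R] (z : (κ → k) ⊗[k] R) :
    z = ∑ s, Pi.single s (1 : k) ⊗ₜ[k] contractL R (LinearMap.proj s) z := by
  induction z using TensorProduct.induction_on with
  | zero => simp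
  | add x y hx hy =>
    simp only [map_add, TensorProduct.tmul_add, Finset.sum_add_distrib]
    rw [← hx, ← hy]
  | tmul x r =>
    simp only [contractL_tmul, LinearMap.proj_apply]
    have hx : x = ∑ t, x t • Pi.single t (1 : k) := by
      funext u
      simp [Finset.sum_apply, Pi.single_apply]
    conv_lhs => rw [hx, TensorProduct.sum_tmul]
    apply Finset.sum_congr rfl
    intro s _
    rw [TensorProduct.smul_tmul]

theorem ext_contractL {R : Type u} [AddCommGroup R] [Module k R] (z z' : (κ → k) ⊗[k] R)
    (h : ∀ s, contractL R (LinearMap.proj s) z = contractL R (LinearMap.proj s) z') : z = z' := by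
  rw [eq_sum_single_tmul z, eq_sum_single_tmul z']
  apply Finset.sum_congr rfl
  intro s _
  rw [h s]

theorem stabilizesLine_iff (M : Matrix κ κ A) (hM : IsCorep k M) (x : κ → k)
    (R : Type u) [CommRing R] [Algebra k R] (g : A →ₐ[k] R) :
    @SGA3.StabilizesLine k _ A _ _ (κ → k) _ _ (matComod M hM) x R _ _ g ↔
      ∃ c : R, ∀ s, ∑ t, x t • g (M s t) = x s • c := by
  unfold SGA3.StabilizesLine
  have key : ∀ s, contractL R (LinearMap.proj s)
      (LinearMap.lTensor (κ → k) g.toLinearMap ((matComod M hM).coact x)) = ∑ t, x t • g (M s t) := by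
    intro s
    rw [contractL_lTensor, contractL_proj_coact, map_sum]
    apply Finset.sum_congr rfl
    intro t _
    rw [map_smul]
    rfl
  constructor
  · rintro ⟨c, hc⟩
    refine ⟨c, fun s => ?_⟩
    have := congrArg (contractL R (LinearMap.proj s)) hc
    rw [key s, contractL_tmul, LinearMap.proj_apply] at this
    exact this
  · rintro ⟨c, hc⟩
    refine ⟨c, ?_⟩
    apply ext_contractL
    intro s
    rw [key s, contractL_tmul, LinearMap.proj_apply]
    exact hc s

end MatComod

section Tuple

variable {k : Type u} [CommRing k] {A : Type u} [CommRing A] [HopfAlgebra k A]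
variable {ι : Type} [Fintype ι] [DecidableEq ι] {ι₁ : Type} [Fintype ι₁] [DecidableEq ι₁]

theorem prod_tmul {B C : Type*} [CommRing B] [Algebra k B] [CommRing C] [Algebra k C] {κ : Type*}
    (s : Finset κ) (x : κ → B) (y : κ → C) :
    ∏ l ∈ s, (x l ⊗ₜ[k] y l) = (∏ l ∈ s, x l) ⊗ₜ[k] (∏ l ∈ s, y l) := by
  classical
  induction s using Finset.induction_on with
  | empty => simp [Algebra.TensorProduct.one_def]
  | insert a s ha ih =>
    rw [Finset.prod_insert ha, Finset.prod_insert ha, Finset.prod_insert ha, ih,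
      Algebra.TensorProduct.tmul_mul_tmul]

/-- the corepresentation matrix of the `ι₁`-fold tensor power, indexed by tuples -/
def tupMat (a : Matrix ι ι A) : Matrix (ι₁ → ι) (ι₁ → ι) A := fun S T => ∏ l, a (S l) (T l)

theorem isCorep_tupMat (a : Matrix ι ι A) (ha : IsCorep k a) : IsCorep k (tupMat (ι₁ := ι₁) a) where
  comul S T := by
    show CoalgebraStruct.comul (R := k) (∏ l, a (S l) (T l)) = _
    have h1 : CoalgebraStruct.comul (R := k) (∏ l, a (S l) (T l)) =
        ∏ l, CoalgebraStruct.comul (R := k) (a (S l) (T l)) :=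
      map_prod (Bialgebra.comulAlgHom k A) _ _
    rw [h1]
    simp only [ha.comul]
    rw [Finset.prod_univ_sum]
    simp only [Fintype.piFinset_univ]
    apply Finset.sum_congr rfl
    intro U _
    rw [prod_tmul]
    rfl
  counit S T := by
    show CoalgebraStruct.counit (R := k) (∏ l, a (S l) (T l)) = _
    have h1 : CoalgebraStruct.counit (R := k) (∏ l, a (S l) (T l)) =
        ∏ l, CoalgebraStruct.counit (R := k) (a (S l) (T l)) :=
      map_prod (Bialgebra.counitAlgHom k A) _ _
    rw [h1]
    simp only [ha.counit]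
    rw [Fintype.prod_ite_zero]
    simp only [Finset.prod_const_one, funext_iff]

/-- the antisymmetric vector `Σ_σ sgn σ e_{emb ∘ σ}` -/
noncomputable def omega (k : Type u) [CommRing k] (emb : ι₁ → ι) : (ι₁ → ι) → k :=
  ∑ σ : Equiv.Perm ι₁, ((Equiv.Perm.sign σ : ℤ) : k) • Pi.single (emb ∘ σ) 1

theorem omega_apply (emb : ι₁ → ι) (T : ι₁ → ι) :
    omega k emb T = ∑ σ : Equiv.Perm ι₁, if T = emb ∘ σ then ((Equiv.Perm.sign σ : ℤ) : k) else 0 := by
  unfold omega
  rw [Finset.sum_apply]
  apply Finset.sum_congr rfl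
  intro σ _
  rw [Pi.smul_apply, Pi.single_apply, smul_eq_mul]
  split_ifs <;> simp

theorem omega_perm (emb : ι₁ → ι) (hemb : Function.Injective emb) (σ : Equiv.Perm ι₁) :
    omega k emb (emb ∘ σ) = ((Equiv.Perm.sign σ : ℤ) : k) := by
  rw [omega_apply, Finset.sum_eq_single σ]
  · rw [if_pos rfl]
  · intro τ _ hτ
    rw [if_neg]
    intro h
    apply hτ
    ext l
    exact (hemb (congrFun h l)).symm
  · intro h; exact absurd (Finset.mem_univ σ) h

theorem omega_of_not (emb : ι₁ → ι) (T : ι₁ → ι) (hT : ¬ ∃ σ : Equiv.Perm ι₁, T = emb ∘ σ) :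
    omega k emb T = 0 := by
  rw [omega_apply]
  apply Finset.sum_eq_zero
  intro σ _
  rw [if_neg]
  intro h
  exact hT ⟨σ, h⟩

theorem sum_omega_smul {R : Type u} [CommRing R] [Algebra k R] (emb : ι₁ → ι) (r : (ι₁ → ι) → R) :
    ∑ T, omega k emb T • r T = ∑ σ : Equiv.Perm ι₁, ((Equiv.Perm.sign σ : ℤ) : R) * r (emb ∘ σ) := by
  simp only [omega_apply, Finset.sum_smul]
  rw [Finset.sum_comm]
  apply Finset.sum_congr rfl
  intro σ _
  rw [Finset.sum_eq_single (emb ∘ σ)]
  · rw [if_pos rfl, Algebra.smul_def, map_intCast]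
  · intro T _ hT
    rw [if_neg hT, zero_smul]
  · intro h; exact absurd (Finset.mem_univ _) h

theorem map_antipode_mul_map (a : Matrix ι ι A) (ha : IsCorep k a) {R : Type u} [CommRing R] [Algebra k R]
    (g : A →ₐ[k] R) :
    (a.map fun x => g (HopfAlgebraStruct.antipode (R := k) x)) * (a.map g) = 1 := by
  ext s t
  rw [Matrix.mul_apply]
  simp only [Matrix.map_apply]
  have h1 := HopfAlgebra.mul_antipode_rTensor_comul_apply (R := k) (a s t)
  rw [ha.comul, map_sum, map_sum, ha.counit] at h1
  simp only [LinearMap.rTensor_tmul, LinearMap.mul'_apply] at h1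
  have h2 := congrArg g h1
  rw [map_sum] at h2
  simp only [map_mul] at h2
  rw [h2, Matrix.one_apply]
  split_ifs <;> simp

theorem stabilizesLine_omega_iff (a : Matrix ι ι A) (ha : IsCorep k a) (emb : ι₁ → ι)
    (hemb : Function.Injective emb) (R : Type u) [CommRing R] [Algebra k R] (g : A →ₐ[k] R) :
    @SGA3.StabilizesLine k _ A _ _ ((ι₁ → ι) → k) _ _
      (matComod (tupMat a) (isCorep_tupMat a ha)) (omega k emb) R _ _ g ↔
      ∀ s, s ∉ Set.range emb → ∀ j, g (a s (emb j)) = 0 := by
  rw [stabilizesLine_iff]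
  have hsum : ∀ S : ι₁ → ι, ∑ T, omega k emb T • g (tupMat a S T) =
      (MinorStab.minor (a.map g) emb S).det := by
    intro S
    rw [sum_omega_smul, ← Matrix.det_transpose, Matrix.det_apply']
    apply Finset.sum_congr rfl
    intro σ _
    congr 1
    show g (∏ l, a (S l) (emb (σ l))) = _
    rw [map_prod]
    rfl
  simp only [hsum]
  have hblock := MinorStab.block_iff (a.map g) (a.map fun x => g (HopfAlgebraStruct.antipode (R := k) x))
    (map_antipode_mul_map a ha g) emb hemb
  have hconv : (∀ s, s ∉ Set.range emb → ∀ j, g (a s (emb j)) = 0) ↔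
      (∀ s, s ∉ Set.range emb → ∀ j, (a.map g) s (emb j) = 0) := Iff.rfl
  rw [hconv, hblock]
  constructor
  · rintro ⟨c, hc⟩
    refine ⟨c, fun σ => ?_, fun S hS => ?_⟩
    · rw [hc, omega_perm emb hemb, Algebra.smul_def, map_intCast]
    · rw [hc, omega_of_not emb S hS, zero_smul]
  · rintro ⟨c, h1, h2⟩
    refine ⟨c, fun S => ?_⟩
    by_cases hS : ∃ σ : Equiv.Perm ι₁, S = emb ∘ σ
    · obtain ⟨σ, rfl⟩ := hS
      rw [h1, omega_perm emb hemb, Algebra.smul_def, map_intCast]
    · rw [h2 S hS, omega_of_not emb S hS, zero_smul]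

/-- the block ideal represents the stabilizer of the line through `omega` -/
theorem represents_block (a : Matrix ι ι A) (ha : IsCorep k a) (emb : ι₁ → ι)
    (hemb : Function.Injective emb) :
    Dyn.Represents k A (Ideal.span {x : A | ∃ s j, s ∉ Set.range emb ∧ x = a s (emb j)})
      (fun R _ _ g => @SGA3.StabilizesLine k _ A _ _ ((ι₁ → ι) → k) _ _
        (matComod (tupMat a) (isCorep_tupMat a ha)) (omega k emb) R _ _ g) := by
  intro R _ _ g
  show _ ↔ @SGA3.StabilizesLine k _ A _ _ ((ι₁ → ι) → k) _ _
        (matComod (tupMat a) (isCorep_tupMat a ha)) (omega k emb) R _ _ g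
  rw [stabilizesLine_omega_iff a ha emb hemb R g]
  constructor
  · intro h s hs j
    exact h _ (Ideal.subset_span ⟨s, j, hs, rfl⟩)
  · intro h x hx
    have hle : Ideal.span {x : A | ∃ s j, s ∉ Set.range emb ∧ x = a s (emb j)} ≤ RingHom.ker (g : A →+* R) := by
      rw [Ideal.span_le]
      rintro _ ⟨s, j, hs, rfl⟩
      exact h s hs j
    exact hle hx

theorem omega_ne_zero [Nontrivial k] (emb : ι₁ → ι) (hemb : Function.Injective emb) : omega k emb ≠ 0 := by
  intro h
  have h1 := omega_perm (k := k) emb hemb 1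
  have h2 : omega k emb (emb ∘ (1 : Equiv.Perm ι₁)) = 0 := by rw [h]; rfl
  rw [h2] at h1
  simp at h1

end Tuple

end Groth.Agent.Lib.Helper75.LineStab
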