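import Mathlib
import Groth.Prelude.Def_ComodSub

/-!
# Serre's local finiteness for flat coalgebras over a noetherian ring (helper75)

For a coalgebra `C` flat over a noetherian ring `R`, every finite subset of `C` lies in a finitely
generated subcomodule of the regular comodule.
-/

set_option autoImplicit false
universe u v

open TensorProduct

namespace Groth.Agent.Lib.Helper75.SerreFin

variable {R : Type u} [CommRing R] {C : Type v} [AddCommGroup C] [Module R C] [Coalgebra R C]

/-- the largest "subcomodule candidate" inside `F`: elements whose comultiplication lies in `F ⊗ C` -/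
noncomputable def serreSub (F : Submodule R C) : Submodule R C :=
  Submodule.comap (CoalgebraStruct.comul (R := R) (A := C)) (LinearMap.range (F.subtype.rTensor C))

theorem mem_serreSub (F : Submodule R C) (z : C) :
    z ∈ serreSub F ↔ CoalgebraStruct.comul (R := R) z ∈ LinearMap.range (F.subtype.rTensor C) := Iff.rfl

theorem serreSub_le (F : Submodule R C) : serreSub F ≤ F := by
  intro z hz
  obtain ⟨y, hy⟩ := hz
  have h1 : (TensorProduct.rid R C) ((CoalgebraStruct.counit (R := R) (A := C)).lTensor C
      (CoalgebraStruct.comul (R := R) z)) = z := by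
    rw [Coalgebra.lTensor_counit_comul]
    simp
  rw [← hy] at h1
  have h2 : ∀ y : F ⊗[R] C, (TensorProduct.rid R C) ((CoalgebraStruct.counit (R := R) (A := C)).lTensor C
      (F.subtype.rTensor C y)) ∈ F := by
    intro y
    induction y using TensorProduct.induction_on with
    | zero => simp
    | tmul f c =>
      simp only [LinearMap.rTensor_tmul, LinearMap.lTensor_tmul, Submodule.subtype_apply, TensorProduct.rid_tmul]
      exact F.smul_mem _ f.2
    | add x y hx hy =>
      simp only [map_add]
      exact F.add_mem hx hy
  rw [← h1]
  exact h2 y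

theorem isSubcomod_serreSub [Module.Flat R C] (F : Submodule R C) :
    HopfRep.IsSubcomod (k := R) (A := C) (V := C) (serreSub F) := by
  intro z hz
  set N : Submodule R (C ⊗[R] C) := LinearMap.range (F.subtype.rTensor C) with hN
  set ψ : C →ₗ[R] (C ⊗[R] C) ⧸ N := N.mkQ ∘ₗ (CoalgebraStruct.comul (R := R) (A := C)) with hψ
  have hker : LinearMap.ker ψ = serreSub F := by
    ext x
    rw [LinearMap.mem_ker, hψ, LinearMap.comp_apply, Submodule.mkQ_apply, Submodule.Quotient.mk_eq_zero]
    rfl
  have hex : Function.Exact (serreSub F).subtype ψ := by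
    rw [← hker]
    exact LinearMap.exact_subtype_ker_map ψ
  have hex2 := Module.Flat.rTensor_exact C hex
  show CoalgebraStruct.comul (R := R) z ∈ LinearMap.range ((serreSub F).subtype.rTensor C)
  rw [← LinearMap.exact_iff.1 hex2, LinearMap.mem_ker]
  -- compute
  obtain ⟨y, hy⟩ := hz
  have h1 : ψ.rTensor C (CoalgebraStruct.comul (R := R) z) =
      N.mkQ.rTensor C ((CoalgebraStruct.comul (R := R) (A := C)).rTensor C (CoalgebraStruct.comul (R := R) z)) := by
    rw [hψ, LinearMap.rTensor_comp]
    rfl
  have h2 : (CoalgebraStruct.comul (R := R) (A := C)).rTensor C (CoalgebraStruct.comul (R := R) z) =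
      (TensorProduct.assoc R C C C).symm
        ((CoalgebraStruct.comul (R := R) (A := C)).lTensor C (CoalgebraStruct.comul (R := R) z)) := by
    rw [← Coalgebra.coassoc_apply, LinearEquiv.symm_apply_apply]
  rw [h1, h2, ← hy]
  have h3 : ∀ w : F ⊗[R] (C ⊗[R] C), N.mkQ.rTensor C ((TensorProduct.assoc R C C C).symm
      (F.subtype.rTensor (C ⊗[R] C) w)) = 0 := by
    intro w
    induction w using TensorProduct.induction_on with
    | zero => simp
    | tmul f t =>
      induction t using TensorProduct.induction_on with
      | zero => simp
      | tmul c c' =>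
        simp only [LinearMap.rTensor_tmul, Submodule.subtype_apply, TensorProduct.assoc_symm_tmul,
          Submodule.mkQ_apply]
        have : (Submodule.Quotient.mk ((f : C) ⊗ₜ[R] c) : (C ⊗[R] C) ⧸ N) = 0 := by
          rw [Submodule.Quotient.mk_eq_zero]
          exact ⟨f ⊗ₜ[R] c, by simp⟩
        rw [this, TensorProduct.zero_tmul]
      | add x y hx hy =>
        rw [TensorProduct.tmul_add, map_add, map_add, map_add, hx, hy, add_zero]
    | add x y hx hy => rw [map_add, map_add, map_add, hx, hy, add_zero]
  have h4 : ∀ y : F ⊗[R] C, (CoalgebraStruct.comul (R := R) (A := C)).lTensor C (F.subtype.rTensor C y) =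
      F.subtype.rTensor (C ⊗[R] C) ((CoalgebraStruct.comul (R := R) (A := C)).lTensor F y) := by
    intro y
    induction y using TensorProduct.induction_on with
    | zero => simp
    | tmul f c => simp
    | add x y hx hy => simp only [map_add, hx, hy]
  rw [h4]
  exact h3 _

/-- **Serre's lemma**: over a noetherian ring, every finite subset of a flat coalgebra lies in a finitely
generated subcomodule of the regular comodule. -/
theorem exists_fg_subcomod [IsNoetherianRing R] [Module.Flat R C] (s : Finset C) :
    ∃ E : Submodule R C, HopfRep.IsSubcomod (k := R) (A := C) (V := C) E ∧ E.FG ∧ (s : Set C) ⊆ E := by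
  classical
  obtain ⟨F, hFfin, hF⟩ := TensorProduct.exists_finite_submodule_left_of_setFinite
    ((s.image (CoalgebraStruct.comul (R := R) (A := C)) : Finset (C ⊗[R] C)) : Set (C ⊗[R] C))
    (Finset.finite_toSet _)
  refine ⟨serreSub F, isSubcomod_serreSub F, ?_, ?_⟩
  · have : IsNoetherian R F := isNoetherian_of_isNoetherianRing_of_finite R F
    have hle := serreSub_le F
    have h1 : (Submodule.comap F.subtype (serreSub F)).FG := IsNoetherian.noetherian _
    have h2 : (Submodule.comap F.subtype (serreSub F)).map F.subtype = serreSub F := by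
      rw [Submodule.map_comap_eq, Submodule.range_subtype]
      exact inf_eq_right.2 hle
    rw [← h2]
    exact h1.map _
  · intro h hh
    rw [SetLike.mem_coe, mem_serreSub]
    apply hF
    rw [Finset.coe_image]
    exact ⟨h, hh, rfl⟩

end Groth.Agent.Lib.Helper75.SerreFin
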