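import Groth.Agent.Lib.Helper75.HopfIntegralBC

set_option autoImplicit false
universe u v w

open TensorProduct

namespace Groth.Agent.Lib.Helper75

section GroupAlg

variable (K : Type u) [CommRing K] (G : Type v) [Group G]

/-- the coefficient of the identity, a total integral of the group algebra -/
noncomputable def coeffOne : MonoidAlgebra K G →ₗ[K] K :=
  (Finsupp.lapply 1) ∘ₗ (MonoidAlgebra.coeffLinearEquiv K).toLinearMap

theorem coeffOne_single (g : G) (c : K) [Decidable (g = 1)] :
    coeffOne K G (MonoidAlgebra.single g c) = if g = 1 then c else 0 := by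
  simp [coeffOne, Finsupp.single_apply]

theorem hitL_coeffOne (x : MonoidAlgebra K G) :
    hitL (coeffOne K G) x = coeffOne K G x • (1 : MonoidAlgebra K G) := by
  classical
  induction x using MonoidAlgebra.induction_linear with
  | zero => simp
  | add f g hf hg => rw [map_add, map_add, hf, hg, add_smul]
  | single g c =>
    show contractL _ (coeffOne K G) (CoalgebraStruct.comul (R := K) (MonoidAlgebra.single g c)) = _
    rw [MonoidAlgebra.comul_single, CommSemiring.comul_apply, TensorProduct.map_tmul, contractL_tmul]
    simp only [MonoidAlgebra.lsingle_apply, coeffOne_single]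
    split_ifs with h
    · subst h
      rw [one_smul, MonoidAlgebra.one_def, MonoidAlgebra.smul_single, smul_eq_mul, mul_one]
    · simp

theorem coeffOne_one : coeffOne K G 1 = 1 := by
  classical
  rw [MonoidAlgebra.one_def, coeffOne_single, if_pos rfl]

end GroupAlg

section Transport

variable {K : Type u} [CommRing K] {B : Type v} [CommRing B] [Bialgebra K B]
  {B' : Type w} [CommRing B'] [Bialgebra K B']

/-- transport of a total integral along a bialgebra isomorphism -/
theorem exists_total_integral_of_bialgEquiv (e : B ≃ₐc[K] B') (α : B' →ₗ[K] K)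
    (hα : ∀ a, hitL α a = α a • (1 : B')) (h1 : α 1 = 1) :
    ∃ β : B →ₗ[K] K, (∀ a, hitL β a = β a • (1 : B)) ∧ β 1 = 1 := by
  let el : B →ₗ[K] B' := (e : B →ₗc[K] B').toLinearMap
  have hel : ∀ x, el x = e x := fun _ => rfl
  refine ⟨α ∘ₗ el, ?_, ?_⟩
  · intro x
    apply e.injective
    have h2 : TensorProduct.map el el (CoalgebraStruct.comul (R := K) x) =
        CoalgebraStruct.comul (R := K) (e x) := by
      have := CoalgHomClass.map_comp_comul (R := K) (e : B →ₗc[K] B')
      exact LinearMap.congr_fun this x
    have h3 : e (hitL (α ∘ₗ el) x) = hitL α (e x) := by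
      show el (contractL B (α ∘ₗ el) (CoalgebraStruct.comul (R := K) x)) =
        contractL B' α (CoalgebraStruct.comul (R := K) (e x))
      rw [← h2, contractL_map]
    show e (hitL (α ∘ₗ el) x) = e ((α ∘ₗ el) x • (1 : B))
    rw [h3, hα, map_smul, map_one]
    rfl
  · rw [LinearMap.comp_apply, hel, map_one, h1]

end Transport

end Groth.Agent.Lib.Helper75
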