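import Groth.Agent.Lib.Helper75.HopfShear
import Groth.Agent.Lib.Helper75.ComodModule

set_option autoImplicit false
universe u v w w'

open TensorProduct

namespace Groth.Agent.Lib.Helper75

section Maschke

variable {k : Type u} [Field k] {A : Type v} [CommRing A] [HopfAlgebra k A]
variable {V : Type w} [AddCommGroup V] [Module k V] [HopfRep.Comod k A V]

/-- `γ (x ⊗ a) = α (S x * a)` -/
noncomputable def gammaMap (α : A →ₗ[k] k) : A ⊗[k] A →ₗ[k] k :=
  TensorProduct.lift (betaMap k A α).flip

@[simp] theorem gammaMap_tmul (α : A →ₗ[k] k) (x a : A) :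
    gammaMap α (x ⊗ₜ[k] a) = α (HopfAlgebra.antipode k x * a) := by
  simp [gammaMap]

theorem gammaMap_eq (α : A →ₗ[k] k) :
    gammaMap α = α ∘ₗ LinearMap.mul' k A ∘ₗ (HopfAlgebra.antipode k).rTensor A := by
  apply TensorProduct.ext'
  intro x a
  simp

theorem gammaMap_comul (α : A →ₗ[k] k) (h1 : α 1 = 1) :
    gammaMap α ∘ₗ CoalgebraStruct.comul (R := k) (A := A) = CoalgebraStruct.counit (R := k) (A := A) := by
  apply LinearMap.ext
  intro x
  rw [gammaMap_eq]
  simp only [LinearMap.coe_comp, Function.comp_apply]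
  rw [HopfAlgebra.mul_antipode_rTensor_comul_apply, Algebra.algebraMap_eq_smul_one, map_smul, h1]
  simp

/-- the retraction `v ⊗ a ↦ v₀ α(S(v₁) a)` of the coaction -/
noncomputable def sigmaMap (α : A →ₗ[k] k) : V ⊗[k] A →ₗ[k] V :=
  contractR V (gammaMap α) ∘ₗ (TensorProduct.assoc k V A A).toLinearMap ∘ₗ (coactMap k A V).rTensor A

theorem contractR_gammaMap_assoc (α : A →ₗ[k] k) (y : V ⊗[k] A) (a : A) :
    contractR V (gammaMap α) ((TensorProduct.assoc k V A A) (y ⊗ₜ[k] a)) =
      contractR V (betaMap k A α a) y := by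
  induction y using TensorProduct.induction_on with
  | zero => simp
  | tmul v x => simp
  | add x y hx hy => simp only [TensorProduct.add_tmul, map_add, hx, hy]

theorem sigmaMap_tmul (α : A →ₗ[k] k) (w : V) (a : A) :
    sigmaMap α (w ⊗ₜ[k] a) = act (betaMap k A α a) w := by
  simp only [sigmaMap, LinearMap.coe_comp, Function.comp_apply, LinearEquiv.coe_coe, LinearMap.rTensor_tmul]
  rw [contractR_gammaMap_assoc]
  rfl

theorem sigmaMap_coact (α : A →ₗ[k] k) (h1 : α 1 = 1) (v : V) :
    sigmaMap α (coactMap k A V v) = v := by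
  simp only [sigmaMap, LinearMap.coe_comp, Function.comp_apply, LinearEquiv.coe_coe]
  rw [← coassoc_apply', contractR_lTensor, gammaMap_comul α h1]
  exact counit_contract v

theorem sigmaMap_hitR (α : A →ₗ[k] k) (hα : ∀ a, hitL α a = α a • (1 : A)) (f : A →ₗ[k] k)
    (z : V ⊗[k] A) :
    sigmaMap α ((hitR f).lTensor V z) = act f (sigmaMap α z) := by
  induction z using TensorProduct.induction_on with
  | zero => simp
  | tmul w a =>
    rw [LinearMap.lTensor_tmul, sigmaMap_tmul, sigmaMap_tmul, betaMap_hitR α hα, act_act]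
  | add x y hx hy => simp only [map_add, hx, hy]

theorem sigmaMap_mem (α : A →ₗ[k] k) (W : Submodule k V) (hW : HopfRep.IsSubcomod (k := k) (A := A) W)
    (y : W ⊗[k] A) : sigmaMap α (W.subtype.rTensor A y) ∈ W := by
  induction y using TensorProduct.induction_on with
  | zero => simp
  | tmul w a =>
    rw [LinearMap.rTensor_tmul, sigmaMap_tmul]
    exact (isSubcomod_iff W).1 hW _ _ w.2
  | add x y hx hy =>
    rw [map_add, map_add]
    exact W.add_mem hx hy

/-- Maschke for commutative Hopf algebras with a total integral -/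
theorem isSemisimpleComod_of_integral (α : A →ₗ[k] k) (hα : ∀ a, hitL α a = α a • (1 : A))
    (h1 : α 1 = 1) : HopfRep.IsSemisimpleComod k A V := by
  intro W hW
  obtain ⟨p, hp⟩ := LinearMap.exists_leftInverse_of_injective W.subtype (LinearMap.ker_eq_bot.2 W.subtype_injective)
  -- q = σ ∘ (incl ∘ p ⊗ id) ∘ ρ
  let q : V →ₗ[k] V := sigmaMap α ∘ₗ (W.subtype ∘ₗ p).rTensor A ∘ₗ coactMap k A V
  have hqW : ∀ v, q v ∈ W := by
    intro v
    simp only [q, LinearMap.coe_comp, Function.comp_apply]
    rw [LinearMap.rTensor_comp, LinearMap.comp_apply]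
    exact sigmaMap_mem α W hW _
  have hqw : ∀ w ∈ W, q w = w := by
    intro w hw
    obtain ⟨y, hy⟩ := hW w hw
    simp only [q, LinearMap.coe_comp, Function.comp_apply]
    have : (W.subtype ∘ₗ p).rTensor A (coactMap k A V w) = coactMap k A V w := by
      show _ = HopfRep.Comod.coact (k := k) (A := A) w
      rw [← hy, ← LinearMap.comp_apply, ← LinearMap.rTensor_comp, LinearMap.comp_assoc, hp, LinearMap.comp_id]
    rw [this]
    exact sigmaMap_coact α h1 w
  have hqf : ∀ (f : A →ₗ[k] k) (v : V), q (act f v) = act f (q v) := by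
    intro f v
    simp only [q, LinearMap.coe_comp, Function.comp_apply]
    rw [coact_act, ← LinearMap.comp_apply ((W.subtype ∘ₗ p).rTensor A), LinearMap.rTensor_comp_lTensor,
      ← LinearMap.lTensor_comp_rTensor, LinearMap.comp_apply, sigmaMap_hitR α hα]
  refine ⟨LinearMap.ker q, ?_, ?_⟩
  · rw [isSubcomod_iff]
    intro f v hv
    rw [LinearMap.mem_ker] at hv ⊢
    rw [hqf, hv, map_zero]
  · have := LinearMap.isCompl_of_proj (f := q.codRestrict W hqW) (fun x => Subtype.ext (hqw x x.2))
    rwa [LinearMap.ker_codRestrict] at this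

end Maschke

end Groth.Agent.Lib.Helper75
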