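import Groth.Agent.Lib.Helper23.Reynolds
import Groth.Agent.Lib.Helper75.HopfMaschke

set_option autoImplicit false
universe u u' v w w'

open TensorProduct

namespace Groth.Agent.Lib.Helper75

attribute [local instance] comodModule

section LinRedIntegral

variable {K : Type u} [Field K] {A : Type v} [CommRing A] [Bialgebra K A]

/-- a linearly reductive affine group has a total integral -/
theorem exists_total_integral_of_isLinearlyReductive (hG : HopfRep.IsLinearlyReductive K A) :
    ∃ α : A →ₗ[K] K, (∀ a, hitL α a = α a • (1 : A)) ∧ α 1 = 1 := by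
  have := Groth.Agent.Lib.Helper23.Reynolds.isSemisimpleModule_of_isLinearlyReductive hG A
  obtain ⟨E, hE⟩ := Groth.Agent.Lib.Helper23.Reynolds.exists_isReynoldsK (K := K) (A := A) (V := A)
  have h1mem : (1 : A) ∈ HopfRep.fixedPts K A A := by
    show CoalgebraStruct.comul (R := K) (1 : A) = (1 : A) ⊗ₜ[K] (1 : A)
    rw [Bialgebra.comul_one]
    rfl
  refine ⟨CoalgebraStruct.counit (R := K) (A := A) ∘ₗ E, ?_, ?_⟩
  · intro a
    have hEa : CoalgebraStruct.comul (R := K) (E a) = E a ⊗ₜ[K] (1 : A) := hE.apply_mem a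
    have hc := LinearMap.congr_fun hE.comodHom a
    simp only [LinearMap.coe_comp, Function.comp_apply] at hc
    show contractL A (CoalgebraStruct.counit (R := K) (A := A) ∘ₗ E) (CoalgebraStruct.comul (R := K) a) = _
    rw [← contractL_rTensor]
    have hc' : (LinearMap.rTensor A E) (CoalgebraStruct.comul (R := K) a) = E a ⊗ₜ[K] (1 : A) := by
      rw [← hEa]
      exact hc.symm
    rw [hc', contractL_tmul]
    rfl
  · rw [LinearMap.comp_apply, hE.apply_of_mem h1mem, Bialgebra.counit_one]

end LinRedIntegral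


section BaseChange

variable {k : Type u} [Field k] {K : Type u'} [Field K] [Algebra k K]
variable {A : Type v} [CommRing A] [HopfAlgebra k A]

/-- the `k`-linear functional `a ↦ β (c ⊗ a)` -/
noncomputable def sliceFun (β : K ⊗[k] A →ₗ[K] K) (c : K) : A →ₗ[k] K :=
  (β.restrictScalars k) ∘ₗ (TensorProduct.mk k K A c)

@[simp] theorem sliceFun_apply (β : K ⊗[k] A →ₗ[K] K) (c : K) (a : A) :
    sliceFun β c a = β (c ⊗ₜ[k] a) := rfl

theorem contractL_ttc (β : K ⊗[k] A →ₗ[K] K) (c c' : K) (t : A ⊗[k] A) :
    contractL (k := K) (K ⊗[k] A) β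
      (TensorProduct.AlgebraTensorModule.tensorTensorTensorComm k K k K K K A A
        ((c ⊗ₜ[K] c') ⊗ₜ[k] t)) = c' • (sliceFun β c).rTensor A t := by
  induction t using TensorProduct.induction_on with
  | zero => simp
  | tmul a b =>
    simp only [TensorProduct.AlgebraTensorModule.tensorTensorTensorComm_tmul, contractL_tmul,
      LinearMap.rTensor_tmul, sliceFun_apply]
    rw [TensorProduct.smul_tmul', TensorProduct.smul_tmul', smul_eq_mul, smul_eq_mul, mul_comm]
  | add x y hx hy => simp only [TensorProduct.tmul_add, map_add, hx, hy, smul_add]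

/-- `hitL` on the base-changed Hopf algebra, on pure tensors -/
theorem hitL_baseChange_tmul (β : K ⊗[k] A →ₗ[K] K) (c : K) (a : A) :
    hitL β (c ⊗ₜ[k] a) = c • (sliceFun β 1).rTensor A (CoalgebraStruct.comul (R := k) a) := by
  show contractL (k := K) (K ⊗[k] A) β (CoalgebraStruct.comul (R := K) (c ⊗ₜ[k] a)) = _
  rw [TensorProduct.comul_tmul, CommSemiring.comul_apply, contractL_ttc]

/-- base change of a total integral -/
theorem exists_total_integral_baseChange (α : A →ₗ[k] k) (hα : ∀ a, hitL α a = α a • (1 : A))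
    (h1 : α 1 = 1) :
    ∃ β : K ⊗[k] A →ₗ[K] K, (∀ x, hitL β x = β x • (1 : K ⊗[k] A)) ∧ β 1 = 1 := by
  let β : K ⊗[k] A →ₗ[K] K := LinearMap.liftBaseChange K ((Algebra.linearMap k K) ∘ₗ α)
  have hβ : ∀ (c : K) (a : A), β (c ⊗ₜ[k] a) = c * algebraMap k K (α a) := by
    intro c a
    simp [β]
  have hsl : ∀ t : A ⊗[k] A, (sliceFun β 1).rTensor A t = (1 : K) ⊗ₜ[k] contractL A α t := by
    intro t
    induction t using TensorProduct.induction_on with
    | zero => simp
    | tmul a b =>
      simp only [LinearMap.rTensor_tmul, sliceFun_apply, contractL_tmul, hβ, one_mul]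
      rw [Algebra.algebraMap_eq_smul_one, TensorProduct.smul_tmul]
    | add x y hx hy => simp only [map_add, hx, hy, TensorProduct.tmul_add]
  refine ⟨β, ?_, ?_⟩
  · intro x
    induction x using TensorProduct.induction_on with
    | zero => simp
    | tmul c a =>
      rw [hitL_baseChange_tmul, hsl]
      have : contractL A α (CoalgebraStruct.comul (R := k) a) = α a • (1 : A) := hα a
      rw [this, hβ, Algebra.TensorProduct.one_def, TensorProduct.smul_tmul', TensorProduct.smul_tmul',
        smul_eq_mul, smul_eq_mul, mul_one, mul_one, ← TensorProduct.smul_tmul, Algebra.smul_def, mul_comm]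
    | add x y hx hy => simp only [map_add, hx, hy, add_smul]
  · rw [Algebra.TensorProduct.one_def, hβ, h1, map_one, mul_one]

/-- descent of a total integral along a field extension -/
theorem exists_total_integral_of_baseChange (β : K ⊗[k] A →ₗ[K] K)
    (hβ : ∀ x, hitL β x = β x • (1 : K ⊗[k] A)) (h1 : β 1 = 1) :
    ∃ α : A →ₗ[k] k, (∀ a, hitL α a = α a • (1 : A)) ∧ α 1 = 1 := by
  obtain ⟨r, hr⟩ := LinearMap.exists_leftInverse_of_injective (Algebra.linearMap k K)
    (LinearMap.ker_eq_bot.2 (algebraMap k K).injective)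
  have hr1 : r 1 = 1 := by
    have := LinearMap.congr_fun hr 1
    simpa using this
  refine ⟨r ∘ₗ sliceFun β 1, ?_, ?_⟩
  · intro a
    show contractL A (r ∘ₗ sliceFun β 1) (CoalgebraStruct.comul (R := k) a) = _
    rw [← contractL_rTensor]
    have h2 := hitL_baseChange_tmul β 1 a
    rw [one_smul, hβ, Algebra.TensorProduct.one_def, TensorProduct.smul_tmul', smul_eq_mul, mul_one] at h2
    rw [← h2, contractL_tmul]
    rfl
  · rw [LinearMap.comp_apply, sliceFun_apply, ← Algebra.TensorProduct.one_def, h1, hr1]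

end BaseChange

end Groth.Agent.Lib.Helper75
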