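import Groth.Agent.Lib.Helper75.SLnRed
import Mathlib.RingTheory.Bialgebra.TensorProduct
import Mathlib.RingTheory.Bialgebra.Equiv

/-!
# Base change of the coordinate Hopf algebra of `SL_n` (helper75)
-/

set_option autoImplicit false
universe u u'

open TensorProduct

namespace Groth.Agent.Lib.Helper75.SLnBC

open CoordGrp Groth.Agent.Lib.Helper75.SLnRed

variable (n : ℕ) (k : Type u) (K : Type u') [CommRing k] [CommRing K] [Algebra k K]

/-- the `k`-algebra structure on `SL_n` over `K` -/
@[reducible] noncomputable def algK : Algebra k (SLn n K) :=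
  ((algebraMap K (SLn n K)).comp (algebraMap k K)).toAlgebra

attribute [local instance 10] algK

instance : IsScalarTower k K (SLn n K) := IsScalarTower.of_algebraMap_eq (fun _ => rfl)

/-- the map from `SL_n` over `k` to `SL_n` over `K` -/
noncomputable def psi : SLn n k →ₐ[k] SLn n K :=
  SLn.pt n k (genMat (k := K) n) (det_genMat n)

/-- from the base change -/
noncomputable def fromBC : K ⊗[k] SLn n k →ₐ[K] SLn n K :=
  Algebra.TensorProduct.lift (Algebra.ofId K (SLn n K)) (psi n k K) (fun _ _ => Commute.all _ _)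

theorem det_one_tmul :
    (Matrix.of fun i j => (1 : K) ⊗ₜ[k] (SLn.X i j : SLn n k)).det = 1 := by
  have h1 : (Matrix.of fun i j => (1 : K) ⊗ₜ[k] (SLn.X i j : SLn n k)) =
      (Algebra.TensorProduct.includeRight : SLn n k →ₐ[k] K ⊗[k] SLn n k).mapMatrix (genMat (k := k) n) := by
    ext i j
    rfl
  rw [h1, ← AlgHom.map_det, det_genMat, map_one]

/-- to the base change -/
noncomputable def toBC : SLn n K →ₐ[K] K ⊗[k] SLn n k :=
  SLn.pt n K (Matrix.of fun i j => (1 : K) ⊗ₜ[k] (SLn.X i j : SLn n k)) (det_one_tmul n k K)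

@[simp] theorem toBC_X (i j : Fin n) : toBC n k K (SLn.X i j) = (1 : K) ⊗ₜ[k] (SLn.X i j : SLn n k) := by
  unfold toBC
  rw [SLn.pt_X]
  rfl

@[simp] theorem fromBC_one_tmul (a : SLn n k) : fromBC n k K ((1 : K) ⊗ₜ[k] a) = psi n k K a := by
  unfold fromBC
  rw [Algebra.TensorProduct.lift_tmul, map_one, one_mul]

@[simp] theorem psi_X (i j : Fin n) : psi n k K (SLn.X i j) = SLn.X i j := by
  unfold psi
  rw [SLn.pt_X]
  rfl

theorem fromBC_comp_toBC : (fromBC n k K).comp (toBC n k K) = AlgHom.id K (SLn n K) := by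
  apply SLn.algHom_ext
  · intro i j
    simp
  · simp [mk_Dinv]

theorem toBC_comp_fromBC : (toBC n k K).comp (fromBC n k K) = AlgHom.id K (K ⊗[k] SLn n k) := by
  apply Algebra.TensorProduct.ext
  · ext
  · apply SLn.algHom_ext
    · intro i j
      simp
    · simp [mk_Dinv, Algebra.TensorProduct.one_def]

/-- the algebra isomorphism -/
noncomputable def algEquiv : SLn n K ≃ₐ[K] K ⊗[k] SLn n k :=
  AlgEquiv.ofAlgHom (toBC n k K) (fromBC n k K) (toBC_comp_fromBC n k K) (fromBC_comp_toBC n k K)

theorem algEquiv_X (i j : Fin n) : algEquiv n k K (SLn.X i j) = (1 : K) ⊗ₜ[k] (SLn.X i j : SLn n k) :=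
  toBC_X n k K i j

/-- base change of `SL_n` as a bialgebra isomorphism -/
noncomputable def bialgEquiv : SLn n K ≃ₐc[K] K ⊗[k] SLn n k :=
  BialgEquiv.ofAlgEquiv (algEquiv n k K)
    (by
      apply SLn.algHom_ext
      · intro i j
        simp [algEquiv, SLnRed.counit_X]
      · simp [mk_Dinv])
    (by
      apply SLn.algHom_ext
      · intro i j
        simp only [AlgHom.coe_comp, Function.comp_apply, Bialgebra.comulAlgHom_apply, AlgEquiv.coe_algHom,
          algEquiv_X, SLnRed.comul_X, map_sum, Algebra.TensorProduct.map_tmul, TensorProduct.comul_tmul,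
          TensorProduct.tmul_sum, CommSemiring.comul_apply,
          TensorProduct.AlgebraTensorModule.tensorTensorTensorComm_tmul]
      · simp [mk_Dinv])

end Groth.Agent.Lib.Helper75.SLnBC
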