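import Groth.Agent.Lib.Helper75.CTAssemble
import Groth.Prelude.Def_ComodDual
import Groth.Prelude.Def_GLin5

/-!
# The standard comodule of a closed subgroup of `GL_n` and its dual: coefficient maps generate (helper75)
-/

set_option autoImplicit false
universe u

open TensorProduct

namespace Groth.Agent.Lib.Helper75.CT

section GLn

variable {k : Type u} [CommRing k] (n : ℕ)

/-- `GL_n` is generated by the entries and the inverse determinant -/
theorem subalgebra_GLn_eq_top (B' : Subalgebra k (CoordGrp.GLn n k))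
    (hX : ∀ i j, (CoordGrp.GLn.X i j : CoordGrp.GLn n k) ∈ B') (hD : (CoordGrp.GLn.Dinv : CoordGrp.GLn n k) ∈ B') :
    B' = ⊤ := by
  have key : ∀ p : MvPolynomial (CoordGrp.GLPoly.Idx n) k, CoordGrp.GLn.mk n k p ∈ B' := by
    intro p
    induction p using MvPolynomial.induction_on with
    | C a =>
      have : CoordGrp.GLn.mk n k (MvPolynomial.C a : MvPolynomial (CoordGrp.GLPoly.Idx n) k) =
          algebraMap k (CoordGrp.GLn n k) a :=
        (CoordGrp.GLn.mk n k).commutes a
      rw [this]
      exact B'.algebraMap_mem a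
    | add p q hp hq =>
      have : CoordGrp.GLn.mk n k (p + q : MvPolynomial (CoordGrp.GLPoly.Idx n) k) =
          CoordGrp.GLn.mk n k p + CoordGrp.GLn.mk n k q := map_add (CoordGrp.GLn.mk n k) p q
      rw [this]
      exact B'.add_mem hp hq
    | mul_X p s hp =>
      have : CoordGrp.GLn.mk n k (p * MvPolynomial.X s : MvPolynomial (CoordGrp.GLPoly.Idx n) k) =
          CoordGrp.GLn.mk n k p * CoordGrp.GLn.mk n k (MvPolynomial.X s : MvPolynomial (CoordGrp.GLPoly.Idx n) k) :=
        map_mul (CoordGrp.GLn.mk n k) p _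
      rw [this]
      refine B'.mul_mem hp ?_
      rcases s with ⟨i, j⟩ | ⟨⟩
      · exact hX i j
      · exact hD
  rw [eq_top_iff]
  intro g _
  obtain ⟨p, rfl⟩ := Ideal.Quotient.mkₐ_surjective k (CoordGrp.GLb.relIdeal n k) g
  exact key p

end GLn

section Dual

variable {k : Type u} [CommRing k] {A : Type u} [CommRing A] [Algebra k A]
variable {V : Type u} [AddCommGroup V] [Module k V]

theorem contractL_eval (v : V) (t : Module.Dual k V ⊗[k] A) :
    contractL A (Module.Dual.eval k V v) t = dualTensorHom k V A t v := by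
  induction t using TensorProduct.induction_on with
  | zero => simp
  | add x y hx hy => simp only [map_add, hx, hy, LinearMap.add_apply]
  | tmul f a => simp [dualTensorHom_apply]

end Dual

section Std

variable {k : Type u} [CommRing k] {A : Type u} [CommRing A] [HopfAlgebra k A] (n : ℕ)
  (π : CoordGrp.GLn n k →ₐc[k] A)

/-- the standard comodule of `GL_n` pushed to `A` -/
noncomputable abbrev stdA : HopfRep.Comod k A (Fin n → k) :=
  GLin.comodAlong π (GLin.comodAlong (CoordGrp.Mat.toGLn n k) (ComodTens.stdVec n k))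

theorem stdA_coact_single (j : Fin n) :
    (stdA n π).coact (Pi.single j 1) = ∑ l : Fin n, Pi.single l (1 : k) ⊗ₜ[k] π (CoordGrp.GLn.X l j) := by
  rw [GLin.comodAlong_coact, GLin.comodAlong_coact, ComodTens.stdVec_coact_single, map_sum, map_sum]
  apply Finset.sum_congr rfl
  intro l _
  rw [TensorProduct.map_tmul, TensorProduct.map_tmul, LinearMap.id_apply, LinearMap.id_apply]
  congr 1
  show π (CoordGrp.Mat.toGLn n k (CoordGrp.Mat.X l j)) = _
  rw [CoordGrp.Mat.toGLn_X]

theorem cfE_std (i j : Fin n) :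
    cfE (stdA n π) (LinearMap.proj i) (Pi.single j 1) = π (CoordGrp.GLn.X i j) := by
  classical
  rw [cfE_apply, stdA_coact_single, map_sum, Finset.sum_eq_single i]
  · rw [contractL_tmul, LinearMap.proj_apply, Pi.single_eq_same, one_smul]
  · intro l _ hl
    rw [contractL_tmul, LinearMap.proj_apply, Pi.single_eq_of_ne hl.symm, zero_smul]
  · intro h; exact absurd (Finset.mem_univ i) h

theorem cfE_dual (d : HopfRep.Comod k A (Module.Dual k (Fin n → k)))
    (hd : ComodTens.Comod.IsDual (stdA n π) d) (i j : Fin n) :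
    cfE d (Module.Dual.eval k (Fin n → k) (Pi.single j 1)) (LinearMap.proj i) =
      HopfAlgebraStruct.antipode (R := k) (π (CoordGrp.GLn.X i j)) := by
  classical
  rw [cfE_apply, contractL_eval, hd,
    ComodTens.dualCoactFun_apply_of_sum (stdA n π) _ Finset.univ _ _ _ (stdA_coact_single n π j),
    Finset.sum_eq_single i]
  · rw [LinearMap.proj_apply, Pi.single_eq_same, one_smul]
  · intro l _ hl
    rw [LinearMap.proj_apply, Pi.single_eq_of_ne hl.symm, zero_smul]
  · intro h; exact absurd (Finset.mem_univ i) h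

/-- the alphabet of comodule maps `V × V^* → A` -/
noncomputable def alph (d : HopfRep.Comod k A (Module.Dual k (Fin n → k))) :
    Fin n ⊕ Fin n → ((Fin n → k) × Module.Dual k (Fin n → k) →ₗ[k] A)
  | Sum.inl i => cfE (stdA n π) (LinearMap.proj i) ∘ₗ LinearMap.fst k _ _
  | Sum.inr j => cfE d (Module.Dual.eval k (Fin n → k) (Pi.single j 1)) ∘ₗ LinearMap.snd k _ _

theorem isHom_alph (d : HopfRep.Comod k A (Module.Dual k (Fin n → k))) (a : Fin n ⊕ Fin n) :
    IsHom (ComodTens.Comod.prod (stdA n π) d) (HopfRep.Comod.regular k A) (alph n π d a) := by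
  rcases a with i | j
  · exact (isHom_cfE (stdA n π) _).comp (isHom_fst (stdA n π) d)
  · exact (isHom_cfE d _).comp (isHom_snd (stdA n π) d)

theorem adjoin_alph_eq_top (hπ : Function.Surjective π) (d : HopfRep.Comod k A (Module.Dual k (Fin n → k)))
    (hd : ComodTens.Comod.IsDual (stdA n π) d) :
    Algebra.adjoin k (⋃ a, Set.range (alph n π d a)) = ⊤ := by
  classical
  set B := Algebra.adjoin k (⋃ a, Set.range (alph n π d a)) with hB
  have h1 : ∀ i j, π (CoordGrp.GLn.X i j) ∈ B := by
    intro i j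
    apply Algebra.subset_adjoin
    refine Set.mem_iUnion.2 ⟨Sum.inl i, ⟨(Pi.single j 1, 0), ?_⟩⟩
    show cfE (stdA n π) (LinearMap.proj i) (Pi.single j 1) = _
    exact cfE_std n π i j
  have h2 : ∀ i j, HopfAlgebraStruct.antipode (R := k) (π (CoordGrp.GLn.X i j)) ∈ B := by
    intro i j
    apply Algebra.subset_adjoin
    refine Set.mem_iUnion.2 ⟨Sum.inr j, ⟨(0, LinearMap.proj i), ?_⟩⟩
    show cfE d (Module.Dual.eval k (Fin n → k) (Pi.single j 1)) (LinearMap.proj i) = _
    exact cfE_dual n π d hd i j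
  have h3 : π (CoordGrp.GLn.Dinv) ∈ B := by
    have hgl : IsGroupLikeElem k (π (CoordGrp.GLn.det : CoordGrp.GLn n k)) :=
      IsGroupLikeElem.map π ⟨CoordGrp.GLn.counit_det, CoordGrp.GLn.comul_det⟩
    have e1 : π (CoordGrp.GLn.Dinv : CoordGrp.GLn n k) =
        HopfAlgebraStruct.antipode (R := k) (π (CoordGrp.GLn.det : CoordGrp.GLn n k)) := by
      have hm : π (CoordGrp.GLn.det : CoordGrp.GLn n k) * π (CoordGrp.GLn.Dinv : CoordGrp.GLn n k) = 1 := by
        rw [← map_mul, CoordGrp.GLn.det_mul_Dinv, map_one]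
      calc π (CoordGrp.GLn.Dinv : CoordGrp.GLn n k)
          = (HopfAlgebraStruct.antipode (R := k) (π (CoordGrp.GLn.det : CoordGrp.GLn n k)) *
              π (CoordGrp.GLn.det : CoordGrp.GLn n k)) * π (CoordGrp.GLn.Dinv : CoordGrp.GLn n k) := by
            rw [hgl.antipode_mul_cancel, one_mul]
        _ = HopfAlgebraStruct.antipode (R := k) (π (CoordGrp.GLn.det : CoordGrp.GLn n k)) := by
            rw [mul_assoc, hm, mul_one]
    have e2 : HopfAlgebraStruct.antipode (R := k) (π (CoordGrp.GLn.det : CoordGrp.GLn n k)) =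
        (Matrix.of fun i j => HopfAlgebraStruct.antipode (R := k) (π (CoordGrp.GLn.X i j))).det := by
      rw [CoordGrp.GLn.det_eq]
      have := RingHom.map_det (((HopfAlgebra.antipodeAlgHom k A : A →ₐ[k] A) : A →+* A).comp
        ((π : CoordGrp.GLn n k →ₐ[k] A) : CoordGrp.GLn n k →+* A)) (CoordGrp.GLn.genMat n k)
      exact this
    rw [e1, e2, Matrix.det_apply']
    apply Subalgebra.sum_mem
    intro σ _
    apply Subalgebra.mul_mem
    · exact Subalgebra.intCast_mem _ _
    · apply Subalgebra.prod_mem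
      intro i _
      exact h2 _ _
  have hcomap : B.comap (π : CoordGrp.GLn n k →ₐ[k] A) = ⊤ :=
    subalgebra_GLn_eq_top n _ (fun i j => h1 i j) h3
  rw [eq_top_iff]
  intro a _
  obtain ⟨g, rfl⟩ := hπ a
  have : g ∈ B.comap (π : CoordGrp.GLn n k →ₐ[k] A) := by rw [hcomap]; exact Algebra.mem_top
  exact this

end Std

end Groth.Agent.Lib.Helper75.CT
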