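import Groth.Agent.Lib.Helper75.PosRed
import Groth.Agent.Lib.Helper75.CTGLn

/-!
# `GL_n` over an ordered field is linearly reductive (helper75)
-/

set_option autoImplicit false
universe u

open TensorProduct

namespace Groth.Agent.Lib.Helper75.GLnRed

open Groth.Agent.Lib.Helper75 Groth.Agent.Lib.Helper75.LineStab CoordGrp

section General

variable {k : Type u} [CommRing k] (n : ℕ)

/-- transposition on the coordinate ring of `GL_n` -/
noncomputable def tau : GLn n k →ₐ[k] GLn n k :=
  GLn.pt n k (GLn.genMat n k).transpose GLn.Dinv (by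
    rw [Matrix.det_transpose, ← GLn.det_eq]; exact GLn.det_mul_Dinv)

@[simp] theorem tau_X (i j : Fin n) : tau (k := k) n (GLn.X i j) = GLn.X j i := by
  unfold tau
  rw [GLn.pt_X]
  rfl

@[simp] theorem tau_Dinv : tau (k := k) n GLn.Dinv = GLn.Dinv := by
  unfold tau
  rw [GLn.pt_Dinv]

/-- the generic matrix is a corepresentation -/
theorem isCorep_genMat : IsCorep k (GLn.genMat n k) where
  comul s t := GLn.comul_X s t
  counit s t := GLn.counit_X s t

/-- the twisted tensor power matrices -/
noncomputable def wordMat (m c : ℕ) : Matrix (Fin m → Fin n) (Fin m → Fin n) (GLn n k) :=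
  fun S T => GLn.Dinv ^ c * tupMat (ι₁ := Fin m) (GLn.genMat n k) S T

theorem isCorep_wordMat (m c : ℕ) : IsCorep k (wordMat (k := k) n m c) where
  comul S T := by
    unfold wordMat
    have h1 := (isCorep_tupMat (ι₁ := Fin m) (GLn.genMat n k) (isCorep_genMat n)).comul S T
    have h2 : CoalgebraStruct.comul (R := k) ((GLn.Dinv : GLn n k) ^ c) =
        ((GLn.Dinv : GLn n k) ^ c) ⊗ₜ[k] ((GLn.Dinv : GLn n k) ^ c) := by
      have : CoalgebraStruct.comul (R := k) ((GLn.Dinv : GLn n k) ^ c) =
          (CoalgebraStruct.comul (R := k) (GLn.Dinv : GLn n k)) ^ c :=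
        map_pow (Bialgebra.comulAlgHom k (GLn n k)) (GLn.Dinv : GLn n k) c
      rw [this, GLn.comul_Dinv, Algebra.TensorProduct.tmul_pow]
    have h3 : CoalgebraStruct.comul (R := k) ((GLn.Dinv : GLn n k) ^ c * tupMat (ι₁ := Fin m) (GLn.genMat n k) S T) =
        CoalgebraStruct.comul (R := k) ((GLn.Dinv : GLn n k) ^ c) *
          CoalgebraStruct.comul (R := k) (tupMat (ι₁ := Fin m) (GLn.genMat n k) S T) :=
      map_mul (Bialgebra.comulAlgHom k (GLn n k)) _ _
    rw [h3, h1, h2, Finset.mul_sum]
    apply Finset.sum_congr rfl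
    intro U _
    rw [Algebra.TensorProduct.tmul_mul_tmul]
  counit S T := by
    unfold wordMat
    have h1 := (isCorep_tupMat (ι₁ := Fin m) (GLn.genMat n k) (isCorep_genMat n)).counit S T
    have h3 : CoalgebraStruct.counit (R := k) ((GLn.Dinv : GLn n k) ^ c * tupMat (ι₁ := Fin m) (GLn.genMat n k) S T) =
        CoalgebraStruct.counit (R := k) ((GLn.Dinv : GLn n k) ^ c) *
          CoalgebraStruct.counit (R := k) (tupMat (ι₁ := Fin m) (GLn.genMat n k) S T) :=
      map_mul (Bialgebra.counitAlgHom k (GLn n k)) _ _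
    have h2 : CoalgebraStruct.counit (R := k) ((GLn.Dinv : GLn n k) ^ c) = 1 := by
      have : CoalgebraStruct.counit (R := k) ((GLn.Dinv : GLn n k) ^ c) =
          (CoalgebraStruct.counit (R := k) (GLn.Dinv : GLn n k)) ^ c :=
        map_pow (Bialgebra.counitAlgHom k (GLn n k)) (GLn.Dinv : GLn n k) c
      rw [this, GLn.counit_Dinv, one_pow]
    rw [h3, h1, h2, one_mul]

theorem tau_wordMat (m c : ℕ) (S T : Fin m → Fin n) :
    tau (k := k) n (wordMat n m c S T) = wordMat n m c T S := by
  unfold wordMat tupMat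
  rw [map_mul, map_pow, tau_Dinv, map_prod]
  congr 1
  apply Finset.prod_congr rfl
  intro l _
  exact tau_X n _ _

/-- a submodule containing `1` and stable under multiplication by the generators is everything -/
theorem submodule_GLn_eq_top (S : Submodule k (GLn n k)) (h1 : (1 : GLn n k) ∈ S)
    (hX : ∀ a ∈ S, ∀ i j, a * (GLn.X i j : GLn n k) ∈ S) (hD : ∀ a ∈ S, a * (GLn.Dinv : GLn n k) ∈ S) :
    S = ⊤ := by
  have key : ∀ p : MvPolynomial (CoordGrp.GLPoly.Idx n) k, CoordGrp.GLn.mk n k p ∈ S := by
    intro p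
    induction p using MvPolynomial.induction_on with
    | C a =>
      have : CoordGrp.GLn.mk n k (MvPolynomial.C a : MvPolynomial (CoordGrp.GLPoly.Idx n) k) =
          algebraMap k (CoordGrp.GLn n k) a :=
        (CoordGrp.GLn.mk n k).commutes a
      rw [this, Algebra.algebraMap_eq_smul_one]
      exact S.smul_mem a h1
    | add p q hp hq =>
      have : CoordGrp.GLn.mk n k (p + q : MvPolynomial (CoordGrp.GLPoly.Idx n) k) =
          CoordGrp.GLn.mk n k p + CoordGrp.GLn.mk n k q := map_add (CoordGrp.GLn.mk n k) p q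
      rw [this]
      exact S.add_mem hp hq
    | mul_X p s hp =>
      have : CoordGrp.GLn.mk n k (p * MvPolynomial.X s : MvPolynomial (CoordGrp.GLPoly.Idx n) k) =
          CoordGrp.GLn.mk n k p * CoordGrp.GLn.mk n k (MvPolynomial.X s : MvPolynomial (CoordGrp.GLPoly.Idx n) k) :=
        map_mul (CoordGrp.GLn.mk n k) p _
      rw [this]
      rcases s with ⟨i, j⟩ | ⟨⟩
      · exact hX _ hp i j
      · exact hD _ hp
  rw [eq_top_iff]
  intro g _
  obtain ⟨p, rfl⟩ := Ideal.Quotient.mkₐ_surjective k (CoordGrp.GLb.relIdeal n k) g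
  exact key p

theorem wordMat_mul_X (m c : ℕ) (S T : Fin m → Fin n) (i j : Fin n) :
    wordMat (k := k) n m c S T * GLn.X i j = wordMat n (m + 1) c (Fin.snoc S i) (Fin.snoc T j) := by
  unfold wordMat tupMat
  rw [Fin.prod_univ_castSucc]
  simp only [Fin.snoc_castSucc, Fin.snoc_last]
  rw [mul_assoc]
  rfl

theorem wordMat_mul_Dinv (m c : ℕ) (S T : Fin m → Fin n) :
    wordMat (k := k) n m c S T * GLn.Dinv = wordMat n m (c + 1) S T := by
  unfold wordMat
  rw [pow_succ]
  ring

theorem span_wordMat :
    Submodule.span k {b : GLn n k | ∃ (i : ℕ × ℕ) (S T : Fin i.1 → Fin n), b = wordMat n i.1 i.2 S T} = ⊤ := by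
  apply submodule_GLn_eq_top
  · apply Submodule.subset_span
    refine ⟨(0, 0), Fin.elim0, Fin.elim0, ?_⟩
    unfold wordMat tupMat
    simp
  · intro a ha i j
    induction ha using Submodule.span_induction with
    | mem x hx =>
      obtain ⟨⟨m, c⟩, S, T, rfl⟩ := hx
      apply Submodule.subset_span
      exact ⟨(m + 1, c), Fin.snoc S i, Fin.snoc T j, wordMat_mul_X n m c S T i j⟩
    | zero => rw [zero_mul]; exact Submodule.zero_mem _
    | add x y _ _ hx hy => rw [add_mul]; exact Submodule.add_mem _ hx hy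
    | smul r x _ hx => rw [smul_mul_assoc]; exact Submodule.smul_mem _ r hx
  · intro a ha
    induction ha using Submodule.span_induction with
    | mem x hx =>
      obtain ⟨⟨m, c⟩, S, T, rfl⟩ := hx
      apply Submodule.subset_span
      exact ⟨(m, c + 1), S, T, wordMat_mul_Dinv n m c S T⟩
    | zero => rw [zero_mul]; exact Submodule.zero_mem _
    | add x y _ _ hx hy => rw [add_mul]; exact Submodule.add_mem _ hx hy
    | smul r x _ hx => rw [smul_mul_assoc]; exact Submodule.smul_mem _ r hx

end General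

section Ordered

variable {F : Type u} [Field F] [LinearOrder F] [IsStrictOrderedRing F] (n : ℕ)

/-- `GL_n` over an ordered field is linearly reductive -/
theorem isLinearlyReductive_GLn_ordered : HopfRep.IsLinearlyReductive F (GLn n F) :=
  PosRed.isLinearlyReductive (ι := ℕ × ℕ) (fun i => Fin i.1 → Fin n) (fun i => wordMat n i.1 i.2)
    (fun i => isCorep_wordMat n i.1 i.2) (tau n).toLinearMap
    (fun i S T => tau_wordMat n i.1 i.2 S T) (span_wordMat n)

end Ordered

end Groth.Agent.Lib.Helper75.GLnRed
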