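import Groth.Agent.Lib.Helper75.PosRed
import Groth.Agent.Lib.Helper75.GLnRed

/-!
# `SL_n` over an ordered field is linearly reductive (helper75)
-/

set_option autoImplicit false
universe u

open TensorProduct

namespace Groth.Agent.Lib.Helper75.SLnRed

open Groth.Agent.Lib.Helper75 Groth.Agent.Lib.Helper75.LineStab CoordGrp

section General

variable {k : Type u} [CommRing k] (n : ℕ)

/-- the generic matrix of `SL_n` -/
noncomputable def genMat : Matrix (Fin n) (Fin n) (SLn n k) := fun i j => SLn.X i j

theorem genMat_eq : genMat (k := k) n = (SLn.mk n k).mapMatrix (GLn.genMat n k) := by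
  ext i j; rfl

theorem det_genMat : (genMat (k := k) n).det = 1 := by
  rw [genMat_eq, ← AlgHom.map_det, ← GLn.det_eq, SLn.det_eq_one]

theorem mk_Dinv : SLn.mk n k (GLn.Dinv : GLn n k) = 1 := by
  have h := congrArg (SLn.mk n k) (GLn.det_mul_Dinv (n := n) (k := k))
  rw [map_mul, SLn.det_eq_one, one_mul, map_one] at h
  exact h

/-- transposition on the coordinate ring of `SL_n` -/
noncomputable def tau : SLn n k →ₐ[k] SLn n k :=
  SLn.pt n k (genMat n).transpose (by rw [Matrix.det_transpose, det_genMat])

@[simp] theorem tau_X (i j : Fin n) : tau (k := k) n (SLn.X i j) = SLn.X j i := by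
  unfold tau
  rw [SLn.pt_X]
  rfl

theorem comul_X (i j : Fin n) :
    CoalgebraStruct.comul (R := k) (SLn.X i j : SLn n k) = ∑ l, SLn.X i l ⊗ₜ[k] SLn.X l j := by
  have h := Bialgebra.Quotient.comul_mk (R := k) (GLn.slIdeal n k) (GLn.X i j)
  have h2 : CoalgebraStruct.comul (R := k) (SLn.X i j : SLn n k) =
      CoalgebraStruct.comul (R := k) (Ideal.Quotient.mk (GLn.slIdeal n k) (GLn.X i j)) := rfl
  rw [h2, h, GLn.comul_X, map_sum]
  rfl

theorem counit_X (i j : Fin n) :
    CoalgebraStruct.counit (R := k) (SLn.X i j : SLn n k) = if i = j then (1 : k) else 0 :=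
  GLn.counit_X i j

theorem isCorep_genMat : IsCorep k (genMat (k := k) n) where
  comul s t := comul_X n s t
  counit s t := counit_X n s t

/-- the tensor power matrices -/
noncomputable def wordMat (m : ℕ) : Matrix (Fin m → Fin n) (Fin m → Fin n) (SLn n k) :=
  tupMat (ι₁ := Fin m) (genMat n)

theorem isCorep_wordMat (m : ℕ) : IsCorep k (wordMat (k := k) n m) :=
  isCorep_tupMat (ι₁ := Fin m) (genMat n) (isCorep_genMat n)

theorem tau_wordMat (m : ℕ) (S T : Fin m → Fin n) :
    tau (k := k) n (wordMat n m S T) = wordMat n m T S := by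
  unfold wordMat tupMat
  rw [map_prod]
  apply Finset.prod_congr rfl
  intro l _
  exact tau_X n _ _

theorem submodule_SLn_eq_top (S : Submodule k (SLn n k)) (h1 : (1 : SLn n k) ∈ S)
    (hX : ∀ a ∈ S, ∀ i j, a * (SLn.X i j : SLn n k) ∈ S) : S = ⊤ := by
  have h2 : (S.comap (SLn.mk n k).toLinearMap) = ⊤ := by
    apply GLnRed.submodule_GLn_eq_top
    · show SLn.mk n k 1 ∈ S
      rw [map_one]; exact h1
    · intro a ha i j
      show SLn.mk n k (a * GLn.X i j) ∈ S
      rw [map_mul]
      exact hX _ ha i j
    · intro a ha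
      show SLn.mk n k (a * GLn.Dinv) ∈ S
      rw [map_mul, mk_Dinv, mul_one]
      exact ha
  rw [eq_top_iff]
  intro g _
  obtain ⟨p, rfl⟩ := Ideal.Quotient.mkₐ_surjective k (GLn.slIdeal n k) g
  have : p ∈ S.comap (SLn.mk n k).toLinearMap := by rw [h2]; trivial
  exact this

theorem wordMat_mul_X (m : ℕ) (S T : Fin m → Fin n) (i j : Fin n) :
    wordMat (k := k) n m S T * SLn.X i j = wordMat n (m + 1) (Fin.snoc S i) (Fin.snoc T j) := by
  unfold wordMat tupMat
  rw [Fin.prod_univ_castSucc]
  simp only [Fin.snoc_castSucc, Fin.snoc_last]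
  rfl

theorem span_wordMat :
    Submodule.span k {b : SLn n k | ∃ (m : ℕ) (S T : Fin m → Fin n), b = wordMat n m S T} = ⊤ := by
  apply submodule_SLn_eq_top
  · apply Submodule.subset_span
    refine ⟨0, Fin.elim0, Fin.elim0, ?_⟩
    unfold wordMat tupMat
    simp
  · intro a ha i j
    induction ha using Submodule.span_induction with
    | mem x hx =>
      obtain ⟨m, S, T, rfl⟩ := hx
      apply Submodule.subset_span
      exact ⟨m + 1, Fin.snoc S i, Fin.snoc T j, wordMat_mul_X n m S T i j⟩
    | zero => rw [zero_mul]; exact Submodule.zero_mem _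
    | add x y _ _ hx hy => rw [add_mul]; exact Submodule.add_mem _ hx hy
    | smul r x _ hx => rw [smul_mul_assoc]; exact Submodule.smul_mem _ r hx

end General

section Ordered

variable {F : Type u} [Field F] [LinearOrder F] [IsStrictOrderedRing F] (n : ℕ)

/-- `SL_n` over an ordered field is linearly reductive -/
theorem isLinearlyReductive_SLn_ordered : HopfRep.IsLinearlyReductive F (SLn n F) :=
  PosRed.isLinearlyReductive (ι := ℕ) (fun m => Fin m → Fin n) (fun m => wordMat n m)
    (fun m => isCorep_wordMat n m) (tau n).toLinearMap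
    (fun m S T => tau_wordMat n m S T) (span_wordMat n)

end Ordered

end Groth.Agent.Lib.Helper75.SLnRed
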