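import Groth.Agent.Lib.Helper75.CTGen

/-!
# Assembling a subquotient presentation from coefficient maps (helper75)
-/

set_option autoImplicit false
universe u v w w'

open TensorProduct

namespace Groth.Agent.Lib.Helper75.CT

section Assemble

variable {K : Type u} [Field K] {A : Type v} [CommRing A] [Bialgebra K A]
variable {W : Type w} [AddCommGroup W] [Module K W]

/-- `IsHom` in terms of the action of functionals -/
theorem isHom_iff_act {V : Type w'} [AddCommGroup V] [Module K V] (c : HopfRep.Comod K A V)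
    (d : HopfRep.Comod K A W) (φ : V →ₗ[K] W) :
    IsHom c d φ ↔ ∀ (f : A →ₗ[K] K) (v : V),
      φ (@act K _ A _ _ _ V _ _ c f v) = @act K _ A _ _ _ W _ _ d f (φ v) := by
  letI := c
  letI := d
  exact isComodHom_iff φ

theorem exists_subquotient (σ : HopfRep.Comod K A W)
    {b : ℕ} {Y : Fin b → Type w'} [∀ y, AddCommGroup (Y y)] [∀ y, Module K (Y y)]
    (cY : ∀ y, HopfRep.Comod K A (Y y)) {r : ℕ} (bas : Module.Basis (Fin r) K W) (lab : Fin b → Fin r)
    (Θ : ∀ y, Y y →ₗ[K] A) (hΘ : ∀ y, IsHom (cY y) (HopfRep.Comod.regular K A) (Θ y))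
    (hsurj : ∀ w : W, ∃ x : ∀ y, Y y,
      ∀ j, (∑ y, if lab y = j then Θ y (x y) else 0) = cfE σ (bas.coord j) w) :
    ∃ (E' : Submodule K (∀ y, Y y)) (τ : E' →ₗ[K] E' ⊗[K] A) (q : E' →ₗ[K] W),
      Function.Surjective q ∧
      (E'.subtype.rTensor A) ∘ₗ τ = (ComodTens.Comod.pi cY).coact ∘ₗ E'.subtype ∧
      (q.rTensor A) ∘ₗ τ = σ.coact ∘ₗ q := by
  classical
  -- the maps `Ψ j`
  let Ψ : Fin r → ((∀ y, Y y) →ₗ[K] A) := fun j =>
    ∑ y, if lab y = j then Θ y ∘ₗ LinearMap.proj y else 0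
  have hΨapp : ∀ j (x : ∀ y, Y y), Ψ j x = ∑ y, if lab y = j then Θ y (x y) else 0 := by
    intro j x
    simp only [Ψ, LinearMap.sum_apply]
    apply Finset.sum_congr rfl
    intro y _
    split_ifs <;> simp
  have hΨ : ∀ j, IsHom (ComodTens.Comod.pi cY) (HopfRep.Comod.regular K A) (Ψ j) := by
    intro j
    apply isHom_sum
    intro y _
    split_ifs
    · exact (hΘ y).comp (isHom_proj cY y)
    · exact isHom_zero _ _
  have hcf : ∀ j, IsHom σ (HopfRep.Comod.regular K A) (cfE σ (bas.coord j)) := fun j => isHom_cfE σ _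
  -- the embedding of `W`
  let ιW : W →ₗ[K] (Fin r → A) := LinearMap.pi fun j => cfE σ (bas.coord j)
  have hinj : Function.Injective ιW := by
    rw [← LinearMap.ker_eq_bot, LinearMap.ker_eq_bot']
    intro w hw
    apply bas.ext_elem
    intro j
    have h1 : cfE σ (bas.coord j) w = 0 := congrFun hw j
    have h2 : CoalgebraStruct.counit (R := K) (cfE σ (bas.coord j) w) = bas.coord j w := by
      letI := σ
      exact counit_cf (A := A) (bas.coord j) w
    rw [h1, map_zero] at h2
    rw [map_zero, Finsupp.zero_apply]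
    exact h2.symm
  let Ψall : (∀ y, Y y) →ₗ[K] (Fin r → A) := LinearMap.pi Ψ
  let E' : Submodule K (∀ y, Y y) := Submodule.comap Ψall (LinearMap.range ιW)
  -- action compatibility
  have hact : ∀ (f : A →ₗ[K] K) (x : ∀ y, Y y) (w : W), Ψall x = ιW w →
      Ψall (@act K _ A _ _ _ _ _ _ (ComodTens.Comod.pi cY) f x) = ιW (@act K _ A _ _ _ W _ _ σ f w) := by
    intro f x w hxw
    funext j
    have h1 := (isHom_iff_act _ _ _).1 (hΨ j) f x
    have h2 := (isHom_iff_act _ _ _).1 (hcf j) f w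
    have h3 : Ψ j x = cfE σ (bas.coord j) w := congrFun hxw j
    show Ψ j _ = cfE σ (bas.coord j) _
    rw [h1, h2, h3]
  letI iE : HopfRep.Comod K A (∀ y, Y y) := ComodTens.Comod.pi cY
  have hE' : HopfRep.IsSubcomod (k := K) (A := A) E' := by
    rw [isSubcomod_iff]
    intro f x hx
    obtain ⟨w, hw⟩ := hx
    exact ⟨_, (hact f x w hw.symm).symm⟩
  letI iE' : HopfRep.Comod K A E' := restrComod E' hE'
  let q : E' →ₗ[K] W := (LinearEquiv.ofInjective ιW hinj).symm.toLinearMap ∘ₗ
    LinearMap.codRestrict (LinearMap.range ιW) (Ψall ∘ₗ E'.subtype) (fun x => x.2)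
  have hq : ∀ x : E', ιW (q x) = Ψall x := by
    intro x
    have : (LinearEquiv.ofInjective ιW hinj) (q x) =
        LinearMap.codRestrict (LinearMap.range ιW) (Ψall ∘ₗ E'.subtype) (fun x => x.2) x := by
      simp only [q, LinearMap.coe_comp, Function.comp_apply, LinearEquiv.coe_coe, LinearEquiv.apply_symm_apply]
    have h2 := congrArg Subtype.val this
    rw [LinearEquiv.ofInjective_apply] at h2
    exact h2
  refine ⟨E', iE'.coact, q, ?_, ?_, ?_⟩
  · intro w
    obtain ⟨x, hx⟩ := hsurj w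
    have hxw : Ψall x = ιW w := by
      funext j
      show Ψ j x = cfE σ (bas.coord j) w
      rw [hΨapp, hx j]
    refine ⟨⟨x, ⟨w, hxw.symm⟩⟩, ?_⟩
    apply hinj
    rw [hq]
    exact hxw
  · exact (isComodHom_subtype_restr E' hE').symm
  · symm
    show IsHom iE' σ q
    rw [isHom_iff_act]
    intro f x
    apply hinj
    rw [hq]
    have h1 : ((@act K _ A _ _ _ E' _ _ iE' f x : E') : ∀ y, Y y) = @act K _ A _ _ _ _ _ _ iE f (x : ∀ y, Y y) :=
      act_restr E' hE' f x
    rw [h1]
    exact hact f x (q x) (hq x).symm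

end Assemble

end Groth.Agent.Lib.Helper75.CT
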