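import Groth.Agent.Lib.Helper75.ComodRestr
import Groth.Prelude.Def_ComodTens

/-!
# Comodule maps between explicitly given comodule structures (helper75)

`IsHom c d f`: `f` intertwines the (explicit) structures `c` and `d`.  Basic closure properties and
the behaviour of the prelude's constructions `ofEquiv`, `prod`, `pi`, `tensor`, `tpow`.
-/

set_option autoImplicit false
universe u v w w' w''

open TensorProduct

namespace Groth.Agent.Lib.Helper75.CT

section Coalg

variable {k : Type u} [CommRing k] {A : Type v} [AddCommGroup A] [Module k A] [Coalgebra k A]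
variable {V : Type w} [AddCommGroup V] [Module k V]
variable {W : Type w'} [AddCommGroup W] [Module k W]
variable {U : Type w''} [AddCommGroup U] [Module k U]

/-- `f` is a morphism of comodules from `(V, c)` to `(W, d)` (explicit structures) -/
def IsHom (c : HopfRep.Comod k A V) (d : HopfRep.Comod k A W) (f : V →ₗ[k] W) : Prop :=
  d.coact ∘ₗ f = f.rTensor A ∘ₗ c.coact

theorem isHom_iff_isComodHom (c : HopfRep.Comod k A V) (d : HopfRep.Comod k A W) (f : V →ₗ[k] W) :
    IsHom c d f ↔ @Hoch.IsComodHom k _ A _ _ _ V _ _ c W _ _ d f := Iff.rfl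

theorem IsHom.apply {c : HopfRep.Comod k A V} {d : HopfRep.Comod k A W} {f : V →ₗ[k] W}
    (h : IsHom c d f) (v : V) : d.coact (f v) = f.rTensor A (c.coact v) :=
  LinearMap.congr_fun h v

theorem isHom_id (c : HopfRep.Comod k A V) : IsHom c c LinearMap.id := by
  unfold IsHom
  rw [LinearMap.rTensor_id, LinearMap.comp_id, LinearMap.id_comp]

theorem isHom_zero (c : HopfRep.Comod k A V) (d : HopfRep.Comod k A W) : IsHom c d 0 := by
  unfold IsHom
  rw [LinearMap.rTensor_zero, LinearMap.comp_zero, LinearMap.zero_comp]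

theorem IsHom.comp {c : HopfRep.Comod k A V} {d : HopfRep.Comod k A W} {e : HopfRep.Comod k A U}
    {g : W →ₗ[k] U} {f : V →ₗ[k] W} (hg : IsHom d e g) (hf : IsHom c d f) : IsHom c e (g ∘ₗ f) := by
  unfold IsHom at *
  rw [← LinearMap.comp_assoc, hg, LinearMap.comp_assoc, hf, ← LinearMap.comp_assoc, LinearMap.rTensor_comp]

theorem IsHom.add {c : HopfRep.Comod k A V} {d : HopfRep.Comod k A W} {f g : V →ₗ[k] W}
    (hf : IsHom c d f) (hg : IsHom c d g) : IsHom c d (f + g) := by
  unfold IsHom at *
  rw [LinearMap.comp_add, hf, hg, LinearMap.rTensor_add, LinearMap.add_comp]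

theorem isHom_sum {ι : Type*} (s : Finset ι) {c : HopfRep.Comod k A V} {d : HopfRep.Comod k A W}
    (f : ι → V →ₗ[k] W) (hf : ∀ i ∈ s, IsHom c d (f i)) : IsHom c d (∑ i ∈ s, f i) := by
  classical
  induction s using Finset.induction_on with
  | empty => simpa using isHom_zero c d
  | insert a s ha ih =>
    rw [Finset.sum_insert ha]
    exact (hf a (Finset.mem_insert_self a s)).add (ih fun i hi => hf i (Finset.mem_insert_of_mem hi))

/-- maps out of a transported structure -/
theorem isHom_ofEquiv_left (e : V ≃ₗ[k] W) (c : HopfRep.Comod k A V) (d : HopfRep.Comod k A U)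
    (g : W →ₗ[k] U) (h : IsHom c d (g ∘ₗ (e : V →ₗ[k] W))) :
    IsHom (ComodTens.Comod.ofEquiv e c) d g := by
  unfold IsHom at *
  apply LinearMap.ext
  intro w
  obtain ⟨v, rfl⟩ := e.surjective w
  have h' := LinearMap.congr_fun h v
  simp only [LinearMap.coe_comp, Function.comp_apply, LinearEquiv.coe_coe] at h' ⊢
  rw [h', ComodTens.ofEquiv_coact_apply, ← LinearMap.rTensor_comp_apply]

theorem isHom_equiv_ofEquiv (e : V ≃ₗ[k] W) (c : HopfRep.Comod k A V) :
    IsHom c (ComodTens.Comod.ofEquiv e c) (e : V →ₗ[k] W) := by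
  unfold IsHom
  apply LinearMap.ext
  intro v
  simp only [LinearMap.coe_comp, Function.comp_apply, LinearEquiv.coe_coe]
  exact ComodTens.ofEquiv_coact_apply e c v

theorem isHom_fst (c : HopfRep.Comod k A V) (d : HopfRep.Comod k A W) :
    IsHom (ComodTens.Comod.prod c d) c (LinearMap.fst k V W) := by
  unfold IsHom
  apply LinearMap.ext
  rintro ⟨v, w⟩
  simp only [LinearMap.coe_comp, Function.comp_apply, LinearMap.fst_apply]
  rw [ComodTens.prod_coact, map_add, ← LinearMap.rTensor_comp_apply,
    ← LinearMap.rTensor_comp_apply, LinearMap.fst_comp_inl, LinearMap.fst_comp_inr,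
    LinearMap.rTensor_id, LinearMap.rTensor_zero, LinearMap.id_apply, LinearMap.zero_apply, add_zero]

theorem isHom_snd (c : HopfRep.Comod k A V) (d : HopfRep.Comod k A W) :
    IsHom (ComodTens.Comod.prod c d) d (LinearMap.snd k V W) := by
  unfold IsHom
  apply LinearMap.ext
  rintro ⟨v, w⟩
  simp only [LinearMap.coe_comp, Function.comp_apply, LinearMap.snd_apply]
  rw [ComodTens.prod_coact, map_add, ← LinearMap.rTensor_comp_apply,
    ← LinearMap.rTensor_comp_apply, LinearMap.snd_comp_inl, LinearMap.snd_comp_inr,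
    LinearMap.rTensor_id, LinearMap.rTensor_zero, LinearMap.id_apply, LinearMap.zero_apply, zero_add]

theorem isHom_proj {ι : Type w'} [Fintype ι] [DecidableEq ι] {X : ι → Type w} [∀ i, AddCommGroup (X i)]
    [∀ i, Module k (X i)] (c : ∀ i, HopfRep.Comod k A (X i)) (i : ι) :
    IsHom (ComodTens.Comod.pi c) (c i) (LinearMap.proj i) := by
  unfold IsHom
  apply LinearMap.ext
  intro f
  simp only [LinearMap.coe_comp, Function.comp_apply, LinearMap.proj_apply]
  rw [ComodTens.pi_coact, map_sum, Finset.sum_eq_single i]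
  · rw [← LinearMap.rTensor_comp_apply, LinearMap.proj_comp_single_same,
      LinearMap.rTensor_id, LinearMap.id_apply]
  · intro j _ hj
    rw [← LinearMap.rTensor_comp_apply, LinearMap.proj_comp_single_ne _ _ _ _ hj.symm,
      LinearMap.rTensor_zero, LinearMap.zero_apply]
  · intro hi; exact absurd (Finset.mem_univ i) hi

end Coalg

section Bialg

variable {k : Type u} [CommRing k] {A : Type v} [CommRing A] [Bialgebra k A]
variable {V : Type w} [AddCommGroup V] [Module k V]
variable {W : Type w'} [AddCommGroup W] [Module k W]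

/-- the unit `k → A` is a comodule map from the trivial comodule -/
theorem isHom_unit : IsHom (HopfRep.Comod.trivial k A k) (HopfRep.Comod.regular k A) (Algebra.linearMap k A) := by
  unfold IsHom
  apply LinearMap.ext
  intro x
  show CoalgebraStruct.comul (R := k) (algebraMap k A x) = (Algebra.linearMap k A).rTensor A (x ⊗ₜ[k] (1 : A))
  rw [LinearMap.rTensor_tmul, Algebra.linearMap_apply, Bialgebra.comul_algebraMap,
    Algebra.TensorProduct.algebraMap_apply]

theorem mul_key (f : V →ₗ[k] A) (g : W →ₗ[k] A) (x : V ⊗[k] A) (y : W ⊗[k] A) :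
    (LinearMap.mul' k A ∘ₗ TensorProduct.map f g).rTensor A
      (TensorProduct.map LinearMap.id (LinearMap.mul' k A)
        (AlgebraTensorModule.tensorTensorTensorComm k k k k V A W A (x ⊗ₜ[k] y))) =
      f.rTensor A x * g.rTensor A y := by
  induction x using TensorProduct.induction_on with
  | zero => simp
  | add x₁ x₂ h₁ h₂ => simp only [TensorProduct.add_tmul, map_add, h₁, h₂, add_mul]
  | tmul v a =>
    induction y using TensorProduct.induction_on with
    | zero => simp
    | add y₁ y₂ h₁ h₂ => simp only [TensorProduct.tmul_add, map_add, h₁, h₂, mul_add]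
    | tmul w b =>
      simp only [AlgebraTensorModule.tensorTensorTensorComm_tmul, TensorProduct.map_tmul, LinearMap.id_apply,
        LinearMap.mul'_apply, LinearMap.rTensor_tmul, LinearMap.coe_comp, Function.comp_apply,
        Algebra.TensorProduct.tmul_mul_tmul]

/-- the product of two comodule maps into the regular comodule is a comodule map on the tensor product -/
theorem isHom_mul (c : HopfRep.Comod k A V) (d : HopfRep.Comod k A W) (f : V →ₗ[k] A) (g : W →ₗ[k] A)
    (hf : IsHom c (HopfRep.Comod.regular k A) f) (hg : IsHom d (HopfRep.Comod.regular k A) g) :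
    IsHom (ComodTens.Comod.tensor c d) (HopfRep.Comod.regular k A)
      (LinearMap.mul' k A ∘ₗ TensorProduct.map f g) := by
  unfold IsHom
  apply TensorProduct.ext'
  intro v w
  simp only [LinearMap.coe_comp, Function.comp_apply]
  rw [ComodTens.tensor_coact_tmul, mul_key, ← hf.apply v, ← hg.apply w, TensorProduct.map_tmul,
    LinearMap.mul'_apply]
  exact Bialgebra.comul_mul (f v) (g w)

/-- matrix coefficient map for an explicit structure -/
noncomputable def cfE (c : HopfRep.Comod k A V) (φ : V →ₗ[k] k) : V →ₗ[k] A := contractL A φ ∘ₗ c.coact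

theorem cfE_apply (c : HopfRep.Comod k A V) (φ : V →ₗ[k] k) (v : V) :
    cfE c φ v = contractL A φ (c.coact v) := rfl

theorem isHom_cfE (c : HopfRep.Comod k A V) (φ : V →ₗ[k] k) :
    IsHom c (HopfRep.Comod.regular k A) (cfE c φ) := by
  letI := c
  unfold IsHom
  apply LinearMap.ext
  intro v
  exact comul_cf (A := A) φ v

end Bialg

end Groth.Agent.Lib.Helper75.CT
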