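import Groth.Agent.Lib.Helper75.CTWord

/-!
# Monomials in the values of a family of maps `P → A` exhaust `A` (helper75)
-/

set_option autoImplicit false
universe u v w

open TensorProduct

namespace Groth.Agent.Lib.Helper75.CT

section Gen

variable {k : Type u} [CommRing k] {A : Type v} [CommRing A] [Algebra k A]
variable {P : Type w} [AddCommGroup P] [Module k P] {ι : Type} (θ : ι → (P →ₗ[k] A))

/-- monomials of length `≤ s` in the values of the `θ i` -/
def Mon (s : ℕ) : Set A :=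
  {a | ∃ (t : ℕ) (_ : t ≤ s) (f : Fin t → ι) (p : Fin t → P), a = ∏ l, θ (f l) (p l)}

theorem mon_mono {s s' : ℕ} (h : s ≤ s') : Mon θ s ⊆ Mon θ s' := by
  rintro a ⟨t, ht, f, p, rfl⟩
  exact ⟨t, ht.trans h, f, p, rfl⟩

theorem one_mem_mon : (1 : A) ∈ Mon θ 0 :=
  ⟨0, le_rfl, Fin.elim0, Fin.elim0, by simp⟩

theorem apply_mem_mon (i : ι) (p : P) : θ i p ∈ Mon θ 1 :=
  ⟨1, le_rfl, fun _ => i, fun _ => p, by simp⟩

theorem mul_mem_mon {s s' : ℕ} {a b : A} (ha : a ∈ Mon θ s) (hb : b ∈ Mon θ s') : a * b ∈ Mon θ (s + s') := by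
  obtain ⟨t, ht, f, p, rfl⟩ := ha
  obtain ⟨t', ht', f', p', rfl⟩ := hb
  refine ⟨t + t', Nat.add_le_add ht ht', Fin.append f f', Fin.append p p', ?_⟩
  rw [Fin.prod_univ_add]
  simp only [Fin.append_left, Fin.append_right]

theorem span_iUnion_mon_eq_top (hgen : Algebra.adjoin k (⋃ i, Set.range (θ i)) = ⊤) :
    Submodule.span k (⋃ s, Mon θ s) = ⊤ := by
  have hmul : ∀ a ∈ (⋃ s, Mon θ s), ∀ b ∈ (⋃ s, Mon θ s), a * b ∈ (⋃ s, Mon θ s) := by
    intro a ha b hb
    obtain ⟨s, hs⟩ := Set.mem_iUnion.1 ha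
    obtain ⟨s', hs'⟩ := Set.mem_iUnion.1 hb
    exact Set.mem_iUnion.2 ⟨s + s', mul_mem_mon θ hs hs'⟩
  have hS : ∀ a b : A, a ∈ Submodule.span k (⋃ s, Mon θ s) → b ∈ Submodule.span k (⋃ s, Mon θ s) →
      a * b ∈ Submodule.span k (⋃ s, Mon θ s) := by
    intro a b ha hb
    have h := Submodule.mul_mem_mul ha hb
    rw [Submodule.span_mul_span] at h
    refine Submodule.span_mono ?_ h
    rintro _ ⟨x, hx, y, hy, rfl⟩
    exact hmul x hx y hy
  rw [eq_top_iff]
  intro a _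
  have ha : a ∈ Algebra.adjoin k (⋃ i, Set.range (θ i)) := by rw [hgen]; exact Algebra.mem_top
  clear * - ha hS
  induction ha using Algebra.adjoin_induction with
  | mem x hx =>
    obtain ⟨i, hi⟩ := Set.mem_iUnion.1 hx
    obtain ⟨p, rfl⟩ := hi
    exact Submodule.subset_span (Set.mem_iUnion.2 ⟨1, apply_mem_mon θ i p⟩)
  | algebraMap r =>
    rw [Algebra.algebraMap_eq_smul_one]
    exact Submodule.smul_mem _ _ (Submodule.subset_span (Set.mem_iUnion.2 ⟨0, one_mem_mon θ⟩))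
  | add x y _ _ hx hy => exact Submodule.add_mem _ hx hy
  | mul x y _ _ hx hy => exact hS x y hx hy

theorem exists_le_span_mon (hgen : Algebra.adjoin k (⋃ i, Set.range (θ i)) = ⊤) (D : Submodule k A)
    (hD : D.FG) : ∃ s, D ≤ Submodule.span k (Mon θ s) := by
  have htop := span_iUnion_mon_eq_top θ hgen
  rw [Submodule.span_iUnion] at htop
  have hdir : Directed (· ≤ ·) fun s => Submodule.span k (Mon θ s) := by
    intro s s'
    exact ⟨max s s', Submodule.span_mono (mon_mono θ (le_max_left _ _)),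
      Submodule.span_mono (mon_mono θ (le_max_right _ _))⟩
  have hc := (Submodule.fg_iff_compact D).1 hD
  rw [CompleteLattice.isCompactElement_iff_le_of_directed_sSup_le] at hc
  obtain ⟨x, ⟨s, rfl⟩, hx⟩ := hc (Set.range fun s => Submodule.span k (Mon θ s)) (Set.range_nonempty _)
    hdir.directedOn_range (by rw [sSup_range, htop]; exact le_top)
  exact ⟨s, hx⟩

end Gen

section Words

variable {k : Type u} [CommRing k] {A : Type v} [CommRing A] [Bialgebra k A]
variable {P : Type w} [AddCommGroup P] [Module k P] {ι : Type} [Fintype ι] (θ : ι → (P →ₗ[k] A))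

/-- words of length `≤ s` in the alphabet `ι` -/
abbrev Wd (ι : Type) (s : ℕ) : Type := Σ t : Fin (s + 1), (Fin t → ι)

/-- the sum of all word maps of length `≤ s` -/
noncomputable def wordSum (s : ℕ) : (∀ w : Wd ι s, TensorPower k (w.1 : ℕ) P) →ₗ[k] A :=
  ∑ w : Wd ι s, wordMap (w.1 : ℕ) (fun l => θ (w.2 l)) ∘ₗ LinearMap.proj w

theorem wordSum_apply (s : ℕ) (z : ∀ w : Wd ι s, TensorPower k (w.1 : ℕ) P) :
    wordSum θ s z = ∑ w : Wd ι s, wordMap (w.1 : ℕ) (fun l => θ (w.2 l)) (z w) := by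
  unfold wordSum
  rw [LinearMap.sum_apply]
  rfl

theorem span_mon_le_range (s : ℕ) : Submodule.span k (Mon θ s) ≤ LinearMap.range (wordSum θ s) := by
  classical
  rw [Submodule.span_le]
  rintro a ⟨t, ht, f, p, rfl⟩
  let w : Wd ι s := ⟨⟨t, Nat.lt_succ_of_le ht⟩, f⟩
  refine ⟨Pi.single w (PiTensorProduct.tprod k p), ?_⟩
  rw [wordSum_apply, Finset.sum_eq_single w]
  · rw [Pi.single_eq_same]
    exact wordMap_tprod _ _ _
  · intro w' _ hw'
    rw [Pi.single_eq_of_ne hw', map_zero]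
  · intro h; exact absurd (Finset.mem_univ w) h

end Words

end Groth.Agent.Lib.Helper75.CT
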