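import Groth.Agent.Lib.Helper75.ComodRestr

set_option autoImplicit false
universe u v w w'

open TensorProduct

namespace Groth.Agent.Lib.Helper75

section

variable {K : Type u} [Field K] {A : Type v} [AddCommGroup A] [Module K A] [Coalgebra K A]
variable {V : Type w} [AddCommGroup V] [Module K V] [HopfRep.Comod K A V]

attribute [local instance] comodModule

/-- (M') every comodule map into the regular comodule is a matrix coefficient map -/
theorem comodHom_eq_cf (θ : V →ₗ[K] A) (hθ : Hoch.IsComodHom A θ) (v : V) :
    θ v = cf (A := A) (CoalgebraStruct.counit (R := K) (A := A) ∘ₗ θ) v := by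
  have h := LinearMap.congr_fun hθ v
  simp only [LinearMap.coe_comp, Function.comp_apply] at h
  rw [cf_apply, ← contractL_rTensor]
  show θ v = contractL A _ ((LinearMap.rTensor A θ) (HopfRep.Comod.coact (k := K) (A := A) v))
  rw [← h]
  show θ v = contractL A _ (CoalgebraStruct.comul (R := K) (θ v))
  simp only [contractL, LinearMap.coe_comp, Function.comp_apply, LinearEquiv.coe_coe]
  rw [Coalgebra.rTensor_counit_comul]
  simp

theorem range_comodHom_le_coeffSpace (θ : V →ₗ[K] A) (hθ : Hoch.IsComodHom A θ) :
    LinearMap.range θ ≤ coeffSpace A (⊤ : Submodule K V) := by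
  rintro _ ⟨v, rfl⟩
  rw [comodHom_eq_cf θ hθ]
  exact cf_mem_coeffSpace ⊤ _ Submodule.mem_top

/-- (M) a map of comodules from a subcomodule `N` of the regular comodule lying in a subcoalgebra `B`
lands in `B` -/
theorem apply_mem_of_isSubcoalg (N : Submodule (DualAlg K A) A) (θ : N →ₗ[DualAlg K A] A)
    {B : Submodule K A} (hB : IsSubcoalg B) (hNB : N.restrictScalars K ≤ B) (n : N) : θ n ∈ B := by
  obtain ⟨W, hW, hWN⟩ : ∃ (W : Submodule K A) (_ : HopfRep.IsSubcomod (k := K) (A := A) W),
      W = N.restrictScalars K := ⟨_, isSubcomod_restrictScalars N, rfl⟩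
  let _ := restrComod W hW
  have hmem : ∀ w : W, (w : A) ∈ N := fun w => (le_of_eq hWN) w.2
  let θ' : W →ₗ[K] A :=
    { toFun := fun w => θ ⟨w.1, hmem w⟩
      map_add' := fun x y => by
        rw [← map_add]; rfl
      map_smul' := fun c x => by
        simp only [RingHom.id_apply]
        rw [← LinearMap.map_smul_of_tower]; rfl }
  have hθ' : Hoch.IsComodHom A θ' := by
    rw [isComodHom_iff]
    intro f w
    show θ ⟨((act f w : W) : A), _⟩ = act f (θ ⟨w.1, hmem w⟩)
    have h1 : (⟨((act f w : W) : A), hmem _⟩ : N) = (WithConv.toConv f : DualAlg K A) • (⟨w.1, hmem w⟩ : N) := by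
      apply Subtype.ext
      exact act_restr W hW f w
    rw [h1, map_smul]
    rfl
  have hn : (n : A) ∈ W := (le_of_eq hWN.symm) n.2
  have h2 : θ n = θ' ⟨n.1, hn⟩ := rfl
  rw [h2]
  have h3 : θ' ⟨n.1, hn⟩ ∈ coeffSpace A (⊤ : Submodule K W) :=
    range_comodHom_le_coeffSpace θ' hθ' ⟨⟨n.1, hn⟩, rfl⟩
  rw [coeffSpace_restr_top W hW] at h3
  have h4 : coeffSpace A W ≤ B := (coeffSpace_mono (by rw [hWN]; exact hNB)).trans hB.coeffSpace_le
  exact h4 h3

/-- (T1) if the regular comodule is semisimple, the coalgebra is a direct sum of simple subcoalgebras -/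
theorem exists_simple_subcoalg_decomp (hss : IsSemisimpleModule (DualAlg K A) A) :
    ∃ (ι : Type v) (D : ι → Submodule K A), iSupIndep D ∧ iSup D = ⊤ ∧ ∀ i,
      D i ≠ ⊥ ∧ IsSubcoalg (D i) ∧
        ∀ B : Submodule K A, B ≤ D i → IsSubcoalg B → B = ⊥ ∨ B = D i := by
  refine ⟨isotypicComponents (DualAlg K A) A, fun c => c.1.restrictScalars K, ?_, ?_, ?_⟩
  · rw [iSupIndep_restrictScalars_iff]
    exact (sSupIndep_iff _).1 (sSupIndep_isotypicComponents (DualAlg K A) A)
  · rw [← Submodule.restrictScalars_iSup, ← sSup_eq_iSup', sSup_isotypicComponents,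
      Submodule.restrictScalars_top]
  · rintro ⟨c, hc⟩
    have hcsub : IsSubcoalg (c.restrictScalars K) := by
      rw [isSubcoalg_iff]
      constructor
      · intro f b hb
        exact c.smul_mem (WithConv.toConv f : DualAlg K A) hb
      · intro g b hb
        have hfi := Submodule.IsFullyInvariant.of_mem_isotypicComponents hc
        exact hfi (cfR (A := A) g) hb
    refine ⟨?_, hcsub, ?_⟩
    · intro h
      change c.restrictScalars K = ⊥ at h
      have h1 : c = ⊥ := by
        apply Submodule.restrictScalars_injective K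
        rw [h, Submodule.restrictScalars_bot]
      exact (bot_lt_isotypicComponents hc).ne' h1
    · intro B hBc hB
      change B ≤ c.restrictScalars K at hBc
      change B = ⊥ ∨ B = c.restrictScalars K
      by_cases hB0 : B = ⊥
      · left; exact hB0
      right
      apply le_antisymm hBc
      have hBR0 : toDualSubmodule B hB.isSubcomod ≠ ⊥ := by
        intro h
        apply hB0
        rw [← toDualSubmodule_restrictScalars B hB.isSubcomod, h, Submodule.restrictScalars_bot]
      obtain ⟨N, hNB, hNs⟩ := exists_simple_le (toDualSubmodule B hB.isSubcomod) hBR0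
      have hNc : N ≤ c := fun x hx => hBc (hNB hx)
      have hceq : c = isotypicComponent (DualAlg K A) A N := eq_isotypicComponent_of_le hc hNc
      have hle : isotypicComponent (DualAlg K A) A N ≤ toDualSubmodule B hB.isSubcomod := by
        apply sSup_le
        rintro m ⟨e⟩
        intro x hx
        have := apply_mem_of_isSubcoalg N (m.subtype ∘ₗ e.symm.toLinearMap) hB (fun y hy => hNB hy) (e ⟨x, hx⟩)
        simpa using this
      intro x hx
      have hx' : x ∈ c := hx
      rw [hceq] at hx'
      exact hle hx'

end


section T2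

variable {K : Type u} [Field K] {A : Type v} [AddCommGroup A] [Module K A] [Coalgebra K A]
variable {V : Type w} [AddCommGroup V] [Module K V] [HopfRep.Comod K A V]

attribute [local instance] comodModule

/-- (C1) a simple subcoalgebra is a semisimple subcomodule of the regular comodule -/
theorem isSemisimpleModule_of_simple_subcoalg {D : Submodule K A} (hD0 : D ≠ ⊥) (hD : IsSubcoalg D)
    (hDs : ∀ B : Submodule K A, B ≤ D → IsSubcoalg B → B = ⊥ ∨ B = D) :
    IsSemisimpleModule (DualAlg K A) (toDualSubmodule D hD.isSubcomod) := by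
  have hDR0 : toDualSubmodule D hD.isSubcomod ≠ ⊥ := by
    intro h
    apply hD0
    rw [← toDualSubmodule_restrictScalars D hD.isSubcomod, h, Submodule.restrictScalars_bot]
  obtain ⟨W, hW, hWs, hWD⟩ : ∃ (W : Submodule K A) (hW : HopfRep.IsSubcomod (k := K) (A := A) W),
      IsSimpleModule (DualAlg K A) (toDualSubmodule W hW) ∧ W ≤ D := by
    obtain ⟨N, hND, hNs⟩ := exists_simple_le (toDualSubmodule D hD.isSubcomod) hDR0
    refine ⟨N.restrictScalars K, isSubcomod_restrictScalars N, ?_, fun x hx => hND hx⟩
    rw [toDualSubmodule_restrictScalars']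
    exact hNs
  have hW0 : W ≠ ⊥ := by
    intro h
    have hnt : Nontrivial (toDualSubmodule W hW) := IsSimpleModule.nontrivial (DualAlg K A) _
    obtain ⟨⟨x, hx⟩, ⟨y, hy⟩, hxy⟩ := hnt
    apply hxy
    have hx' : x ∈ W := hx
    have hy' : y ∈ W := hy
    rw [h, Submodule.mem_bot] at hx' hy'
    exact Subtype.ext (hx'.trans hy'.symm)
  have hcoeff : coeffSpace A W = D := by
    have h2 : coeffSpace A W ≤ D := (coeffSpace_mono hWD).trans hD.coeffSpace_le
    rcases hDs _ h2 (isSubcoalg_coeffSpace W hW) with h | h
    · exfalso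
      apply hW0
      exact le_bot_iff.mp (h ▸ le_coeffSpace_regular W)
    · exact h
  let _ : HopfRep.Comod K A W := restrComod W hW
  have hEs : HopfRep.IsSimpleComod K A W := isSimpleComod_restr W hW hWs
  have hEsm : IsSimpleModule (DualAlg K A) W := isSimpleComod_iff.1 hEs
  have hcoeff' : coeffSpace A (⊤ : Submodule K W) = D := (coeffSpace_restr_top W hW).trans hcoeff
  exact isSemisimpleModule_of_le_coeffSpace (V := W) _
    (by rw [toDualSubmodule_restrictScalars, hcoeff'])

/-- (C2) a direct sum of simple subcoalgebras is semisimple as a regular comodule -/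
theorem isSemisimpleModule_regular_of_decomp {ι : Type*} (D : ι → Submodule K A) (htop : iSup D = ⊤)
    (hD : ∀ i, D i ≠ ⊥ ∧ IsSubcoalg (D i) ∧
      ∀ B : Submodule K A, B ≤ D i → IsSubcoalg B → B = ⊥ ∨ B = D i) :
    IsSemisimpleModule (DualAlg K A) A := by
  apply isSemisimpleModule_of_isSemisimpleModule_submodule'
    (p := fun i => toDualSubmodule (D i) (hD i).2.1.isSubcomod)
  · intro i
    exact isSemisimpleModule_of_simple_subcoalg (hD i).1 (hD i).2.1 (hD i).2.2
  · apply Submodule.restrictScalars_injective K
    rw [Submodule.restrictScalars_iSup, Submodule.restrictScalars_top]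
    simp_rw [toDualSubmodule_restrictScalars]
    exact htop

omit [HopfRep.Comod K A V] in
theorem act_ind (f : A →ₗ[K] K) (z : V ⊗[K] A) :
    act (A := A) f (Hoch.Ind.equiv K A V z) = Hoch.Ind.equiv K A V ((hitR f).lTensor V z) := by
  induction z using TensorProduct.induction_on with
  | zero => simp
  | tmul p a =>
    rw [act_apply]
    show contractR (Hoch.Ind K A V) f ((TensorProduct.assoc K V A A).symm (p ⊗ₜ Coalgebra.comul (R := K) a)) = _
    have := contractR_assoc_symm (k := K) (A := A) (V := V) f (p ⊗ₜ[K] Coalgebra.comul (R := K) a)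
    rw [LinearMap.lTensor_tmul] at this
    rw [LinearMap.lTensor_tmul]
    exact this
  | add x y hx hy => simp only [map_add, hx, hy]

/-- (C3) if the regular comodule is semisimple then every comodule is semisimple -/
theorem isSemisimpleModule_of_regular (hss : IsSemisimpleModule (DualAlg K A) A) :
    IsSemisimpleModule (DualAlg K A) V := by
  -- the induced comodule is semisimple
  have hInd : IsSemisimpleModule (DualAlg K A) (Hoch.Ind K A V) := by
    let j : V → (A →ₗ[DualAlg K A] Hoch.Ind K A V) := fun p =>
      { toFun := fun a => Hoch.Ind.equiv K A V (p ⊗ₜ[K] a)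
        map_add' := fun a b => by rw [TensorProduct.tmul_add, map_add]
        map_smul' := fun f a => by
          simp only [RingHom.id_apply]
          show Hoch.Ind.equiv K A V (p ⊗ₜ[K] hitR f.ofConv a) = act (A := A) f.ofConv (Hoch.Ind.equiv K A V (p ⊗ₜ[K] a))
          rw [act_ind, LinearMap.lTensor_tmul] }
    apply isSemisimpleModule_of_isSemisimpleModule_submodule' (p := fun p => LinearMap.range (j p))
    · intro p
      exact IsSemisimpleModule.range _
    · rw [eq_top_iff]
      intro z _
      obtain ⟨z', rfl⟩ := (Hoch.Ind.equiv K A V).surjective z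
      induction z' using TensorProduct.induction_on with
      | zero => simp
      | tmul p a =>
        have h1 : LinearMap.range (j p) ≤ ⨆ p, LinearMap.range (j p) := le_iSup (fun p => LinearMap.range (j p)) p
        exact h1 ⟨a, rfl⟩
      | add x y hx hy =>
        rw [map_add]
        exact Submodule.add_mem _ (hx Submodule.mem_top) (hy Submodule.mem_top)
  -- the coaction embeds V into it
  let t : V →ₗ[DualAlg K A] Hoch.Ind K A V :=
    { toFun := fun v => Hoch.toInd K A V v
      map_add' := fun a b => by rw [map_add]
      map_smul' := fun f v => by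
        simp only [RingHom.id_apply]
        show Hoch.Ind.equiv K A V (coactMap K A V (act f.ofConv v)) =
          act (A := A) f.ofConv (Hoch.Ind.equiv K A V (coactMap K A V v))
        rw [act_ind, coact_act] }
  have htinj : Function.Injective t := by
    intro x y hxy
    have h1 : coactMap K A V x = coactMap K A V y := (Hoch.Ind.equiv K A V).injective hxy
    rw [← counit_contract (k := K) (A := A) x, ← counit_contract (k := K) (A := A) y, h1]
  exact IsSemisimpleModule.of_injective t htinj

end T2

end Groth.Agent.Lib.Helper75
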