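import Groth.Agent.Lib.Helper75.CTAssemble
import Groth.Agent.Lib.Helper75.ComodCosemisimple

/-!
# Splitting a comodule off a semisimple comodule through coefficient maps; twists (helper75)
-/

set_option autoImplicit false
universe u v w w'

open TensorProduct

namespace Groth.Agent.Lib.Helper75.CT

section Split

variable {K : Type u} [Field K] {A : Type v} [CommRing A] [Bialgebra K A]
variable {W : Type w} [AddCommGroup W] [Module K W]
variable {E : Type w'} [AddCommGroup E] [Module K E]

attribute [local instance] comodModule

/-- If the coefficient functions of `W` (in a basis) are simultaneously hit by comodule maps `Ψ j : E → A`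
from a semisimple comodule `E`, then `W` is a direct summand of `E`. -/
theorem exists_split (σ : HopfRep.Comod K A W) (cE : HopfRep.Comod K A E)
    (hss : @HopfRep.IsSemisimpleComod K A _ _ _ _ E _ _ cE)
    {r : ℕ} (bas : Module.Basis (Fin r) K W)
    (Ψ : Fin r → (E →ₗ[K] A)) (hΨ : ∀ j, IsHom cE (HopfRep.Comod.regular K A) (Ψ j))
    (hsurj : ∀ w : W, ∃ x : E, ∀ j, Ψ j x = cfE σ (bas.coord j) w) :
    ∃ (i : W →ₗ[K] E) (p : E →ₗ[K] W), p ∘ₗ i = LinearMap.id ∧ IsHom σ cE i ∧ IsHom cE σ p := by
  letI := σ
  letI := cE
  haveI : IsSemisimpleModule (DualAlg K A) E := isSemisimpleComod_iff.1 hss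
  -- the two maps into `Fin r → A`
  let ιW : W →ₗ[DualAlg K A] (Fin r → A) := LinearMap.pi fun j => cfR (A := A) (bas.coord j)
  let Ψall : E →ₗ[DualAlg K A] (Fin r → A) :=
    LinearMap.pi fun j => toDualLinearMap (Ψ j) ((isHom_iff_isComodHom _ _ _).1 (hΨ j))
  have hinj : Function.Injective ιW := by
    rw [← LinearMap.ker_eq_bot, LinearMap.ker_eq_bot']
    intro w hw
    apply bas.ext_elem
    intro j
    have h1 : cf (A := A) (bas.coord j) w = 0 := congrFun hw j
    have h2 : CoalgebraStruct.counit (R := K) (cf (A := A) (bas.coord j) w) = bas.coord j w :=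
      counit_cf (A := A) (bas.coord j) w
    rw [h1, map_zero] at h2
    rw [map_zero, Finsupp.zero_apply]
    exact h2.symm
  have hmem : ∀ w, ιW w ∈ LinearMap.range Ψall := by
    intro w
    obtain ⟨x, hx⟩ := hsurj w
    refine ⟨x, ?_⟩
    funext j
    exact hx j
  let f : E →ₗ[DualAlg K A] LinearMap.range Ψall := Ψall.rangeRestrict
  let g : W →ₗ[DualAlg K A] LinearMap.range Ψall := ιW.codRestrict _ hmem
  obtain ⟨h, hh⟩ := IsSemisimpleModule.lifting_property (R := DualAlg K A) (M := E) (N := LinearMap.range Ψall) (P := W) f Ψall.surjective_rangeRestrict g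
  have hhinj : Function.Injective h := by
    intro w w' hww
    apply hinj
    have h1 := LinearMap.congr_fun hh w
    have h2 := LinearMap.congr_fun hh w'
    simp only [LinearMap.coe_comp, Function.comp_apply] at h1 h2
    have h3 : g w = g w' := by rw [← h1, ← h2, hww]
    exact congrArg Subtype.val h3
  obtain ⟨p, hp⟩ := IsSemisimpleModule.extension_property (R := DualAlg K A) (M := E) (N := W) (P := W) h hhinj (LinearMap.id : W →ₗ[DualAlg K A] W)
  refine ⟨h.restrictScalars K, p.restrictScalars K, ?_, ?_, ?_⟩
  · apply LinearMap.ext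
    intro w
    exact LinearMap.congr_fun hp w
  · exact (isHom_iff_isComodHom _ _ _).2 (isComodHom_restrictScalars h)
  · exact (isHom_iff_isComodHom _ _ _).2 (isComodHom_restrictScalars p)

end Split

section Twist

variable {k : Type u} [CommRing k] {A : Type v} [CommRing A] [Bialgebra k A]
variable {V : Type w} [AddCommGroup V] [Module k V]
variable {W : Type w'} [AddCommGroup W] [Module k W]

theorem isHom_twist {c : HopfRep.Comod k A V} {d : HopfRep.Comod k A W} {f : V →ₗ[k] W}
    (hf : IsHom c d f) (g : A) (hg : IsGroupLikeElem k g) :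
    IsHom (ComodTens.Comod.twist c g hg) (ComodTens.Comod.twist d g hg) f := by
  apply LinearMap.ext
  intro v
  simp only [LinearMap.coe_comp, Function.comp_apply]
  rw [ComodTens.twist_coact, ComodTens.twist_coact, hf.apply]
  generalize c.coact v = z
  induction z using TensorProduct.induction_on with
  | zero => simp
  | tmul x a => simp
  | add x y hx hy => simp only [map_add, hx, hy]

theorem cfE_twist (c : HopfRep.Comod k A V) (g : A) (hg : IsGroupLikeElem k g) (φ : V →ₗ[k] k) (v : V) :
    cfE (ComodTens.Comod.twist c g hg) φ v = cfE c φ v * g := by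
  rw [cfE_apply, cfE_apply, ComodTens.twist_coact]
  generalize c.coact v = z
  induction z using TensorProduct.induction_on with
  | zero => simp
  | tmul x a => simp [contractL_tmul]
  | add x y hx hy => simp only [map_add, hx, hy, add_mul]

theorem twist_twist_coact (c : HopfRep.Comod k A V) (g g' : A) (hg : IsGroupLikeElem k g)
    (hg' : IsGroupLikeElem k g') (h : g * g' = 1) :
    (ComodTens.Comod.twist (ComodTens.Comod.twist c g hg) g' hg').coact = c.coact := by
  apply LinearMap.ext
  intro v
  rw [ComodTens.twist_coact, ComodTens.twist_coact]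
  generalize c.coact v = z
  induction z using TensorProduct.induction_on with
  | zero => simp
  | tmul x a => simp [mul_assoc, h]
  | add x y hx hy => simp only [map_add, hx, hy]

end Twist

end Groth.Agent.Lib.Helper75.CT
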