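import Groth.Agent.Lib.Helper75.CTBasic

/-!
# Word maps: products of comodule maps `P → A` on tensor powers of `P` (helper75)
-/

set_option autoImplicit false
universe u v w

open TensorProduct

namespace Groth.Agent.Lib.Helper75.CT

section Word

variable {k : Type u} [CommRing k] {A : Type v} [CommRing A] [Bialgebra k A]
variable {P : Type w} [AddCommGroup P] [Module k P]

/-- `p₁ ⊗ ⋯ ⊗ p_m ↦ θ₁ p₁ ⋯ θ_m p_m` -/
noncomputable def wordMap (m : ℕ) (θ : Fin m → (P →ₗ[k] A)) : TensorPower k m P →ₗ[k] A :=
  PiTensorProduct.lift ((MultilinearMap.mkPiAlgebra k (Fin m) A).compLinearMap θ)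

theorem wordMap_tprod (m : ℕ) (θ : Fin m → (P →ₗ[k] A)) (p : Fin m → P) :
    wordMap m θ (PiTensorProduct.tprod k p) = ∏ l, θ l (p l) := by
  unfold wordMap
  rw [PiTensorProduct.lift.tprod]
  simp

theorem wordMap_succ (m : ℕ) (θ : Fin (m + 1) → (P →ₗ[k] A)) :
    wordMap (m + 1) θ ∘ₗ (TensorPower.mulEquiv (R := k) (M := P) (n := m) (m := 1)).toLinearMap =
      LinearMap.mul' k A ∘ₗ TensorProduct.map (wordMap m (fun l => θ (Fin.castSucc l)))
        (θ (Fin.last m) ∘ₗ
          (PiTensorProduct.subsingletonEquiv (R := k) (s := fun _ : Fin 1 => P) (0 : Fin 1)).toLinearMap) := by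
  apply TensorProduct.ext
  apply PiTensorProduct.ext
  apply MultilinearMap.ext
  intro a
  apply PiTensorProduct.ext
  apply MultilinearMap.ext
  intro b
  show wordMap (m + 1) θ (TensorPower.mulEquiv (PiTensorProduct.tprod k a ⊗ₜ[k] PiTensorProduct.tprod k b)) =
    wordMap m (fun l => θ (Fin.castSucc l)) (PiTensorProduct.tprod k a) *
      θ (Fin.last m) (PiTensorProduct.subsingletonEquiv (R := k) (s := fun _ : Fin 1 => P) (0 : Fin 1)
        (PiTensorProduct.tprod k b))
  rw [wordMap_tprod, PiTensorProduct.subsingletonEquiv_apply_tprod]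
  rw [← TensorPower.gMul_def, TensorPower.tprod_mul_tprod, wordMap_tprod, Fin.prod_univ_castSucc]
  congr 1
  · apply Finset.prod_congr rfl
    intro l _
    have : Fin.castSucc l = Fin.castAdd 1 l := rfl
    rw [this, Fin.append_left]
  · have : Fin.last m = Fin.natAdd m (0 : Fin 1) := by
      ext; simp
    rw [this, Fin.append_right]

theorem isHom_wordMap (c : HopfRep.Comod k A P) : ∀ (m : ℕ) (θ : Fin m → (P →ₗ[k] A)),
    (∀ l, IsHom c (HopfRep.Comod.regular k A) (θ l)) →
      IsHom (ComodTens.Comod.tpow c m) (HopfRep.Comod.regular k A) (wordMap m θ) := by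
  intro m
  induction m with
  | zero =>
    intro θ _
    rw [ComodTens.tpow_zero]
    apply isHom_ofEquiv_left
    have : wordMap 0 θ ∘ₗ
        ((PiTensorProduct.isEmptyEquiv (Fin 0) (R := k) (s := fun _ : Fin 0 => P)).symm : k →ₗ[k] _) =
        Algebra.linearMap k A := by
      apply LinearMap.ext_ring
      simp only [LinearMap.coe_comp, Function.comp_apply, LinearEquiv.coe_coe,
        PiTensorProduct.isEmptyEquiv_symm_apply, one_smul, Algebra.linearMap_apply, map_one]
      rw [wordMap_tprod]
      simp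
    rw [this]
    exact isHom_unit
  | succ m ih =>
    intro θ hθ
    rw [ComodTens.tpow_succ]
    apply isHom_ofEquiv_left
    rw [wordMap_succ]
    apply isHom_mul
    · exact ih _ (fun l => hθ _)
    · apply isHom_ofEquiv_left
      have : (θ (Fin.last m) ∘ₗ
          (PiTensorProduct.subsingletonEquiv (R := k) (s := fun _ : Fin 1 => P) (0 : Fin 1)).toLinearMap) ∘ₗ
          ((PiTensorProduct.subsingletonEquiv (R := k) (s := fun _ : Fin 1 => P) (0 : Fin 1)).symm :
            P →ₗ[k] _) = θ (Fin.last m) := by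
        apply LinearMap.ext
        intro x
        simp
      rw [this]
      exact hθ _

end Word

end Groth.Agent.Lib.Helper75.CT
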