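import Groth.Agent.Lib.Helper75.ChevalleyPID

/-!
# Chevalley's theorem over a principal ideal domain: a flat closed subgroup is the stabilizer of a line in a
faithful representation (helper75)
-/

set_option autoImplicit false
universe u

open TensorProduct Matrix

namespace Groth.Agent.Lib.Helper75.ChevalleyPID

open Groth.Agent.Lib.Helper75 Groth.Agent.Lib.Helper75.LineStab Groth.Agent.Lib.Helper84
  Groth.Agent.Lib.Helper75.TrigDVR

section General

variable {R : Type u} [CommRing R] {A : Type u} [CommRing A] [HopfAlgebra R A]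

/-- semi-invariance of `omega` is the vanishing of the block -/
theorem omega_semiinv_iff {ι : Type} [Fintype ι] [DecidableEq ι] {ι₁ : Type} [Fintype ι₁] [DecidableEq ι₁]
    (m : Matrix ι ι A) (hm : IsCorep R m) (emb : ι₁ → ι) (hemb : Function.Injective emb)
    (Q : Type u) [CommRing Q] [Algebra R Q] (g : A →ₐ[R] Q) :
    (∃ c : Q, ∀ S, ∑ T, omega R emb T • g (tupMat m S T) = omega R emb S • c) ↔
      ∀ s, s ∉ Set.range emb → ∀ j, g (m s (emb j)) = 0 := by
  rw [← stabilizesLine_omega_iff m hm emb hemb Q g, stabilizesLine_iff]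

/-- block diagonal sums of corepresentation matrices -/
theorem isCorep_fromBlocks {κ₁ κ₂ : Type} [Fintype κ₁] [DecidableEq κ₁] [Fintype κ₂] [DecidableEq κ₂]
    (M₁ : Matrix κ₁ κ₁ A) (h₁ : IsCorep R M₁) (M₂ : Matrix κ₂ κ₂ A) (h₂ : IsCorep R M₂) :
    IsCorep R (Matrix.fromBlocks M₁ 0 0 M₂) where
  comul s t := by
    rcases s with s | s <;> rcases t with t | t <;>
      simp [Fintype.sum_sum_type, h₁.comul, h₂.comul]
  counit s t := by
    rcases s with s | s <;> rcases t with t | t <;>
      simp [h₁.counit, h₂.counit]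

/-- reindexing a corepresentation matrix -/
theorem isCorep_submatrix_equiv {κ κ' : Type} [Fintype κ] [DecidableEq κ] [Fintype κ'] [DecidableEq κ']
    (M : Matrix κ κ A) (hM : IsCorep R M) (e : κ' ≃ κ) : IsCorep R (M.submatrix e e) where
  comul s t := by
    simp only [Matrix.submatrix_apply]
    rw [hM.comul]
    exact (Equiv.sum_comp e (fun l => M (e s) l ⊗ₜ[R] M l (e t))).symm
  counit s t := by
    simp only [Matrix.submatrix_apply]
    rw [hM.counit]
    simp [e.injective.eq_iff]

/-- the column criterion: the off-diagonal entries of the column `i₀` of `P⁻¹ M P` vanish under `g` iff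
`g` makes the `i₀`-th column of `P` semi-invariant -/
theorem col_vanish_iff {κ : Type} [Fintype κ] [DecidableEq κ] (M : Matrix κ κ A) (P P' : Matrix κ κ R)
    (h1 : P * P' = 1) (h2 : P' * P = 1) (i₀ : κ) (x : κ → R) (hx : ∀ i, P i i₀ = x i)
    (Q : Type u) [CommRing Q] [Algebra R Q] (g : A →ₐ[R] Q) :
    (∀ j, j ≠ i₀ → g ((P'.map (algebraMap R A) * M * P.map (algebraMap R A)) j i₀) = 0) ↔
      ∃ c : Q, (M.map g) *ᵥ (fun i => algebraMap R Q (x i)) = c • (fun i => algebraMap R Q (x i)) := by
  have hmap : (P'.map (algebraMap R A) * M * P.map (algebraMap R A)).map g =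
      P'.map (algebraMap R Q) * M.map g * P.map (algebraMap R Q) := map_conj g M P P'
  have hPQ : P.map (algebraMap R Q) * P'.map (algebraMap R Q) = 1 := by
    have := Matrix.map_mul (L := P) (M := P') (f := algebraMap R Q)
    rw [← this, h1]
    simp
  have hP'Q : P'.map (algebraMap R Q) * P.map (algebraMap R Q) = 1 := by
    have := Matrix.map_mul (L := P') (M := P) (f := algebraMap R Q)
    rw [← this, h2]
    simp
  have hcol : (P.map (algebraMap R Q)) *ᵥ (Pi.single i₀ 1) = fun i => algebraMap R Q (x i) := by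
    rw [Matrix.mulVec_single_one]
    funext i
    simp [hx]
  set a'g := (P'.map (algebraMap R A) * M * P.map (algebraMap R A)).map g with ha'g
  have hentry : ∀ j, g ((P'.map (algebraMap R A) * M * P.map (algebraMap R A)) j i₀) =
      (a'g *ᵥ (Pi.single i₀ 1)) j := by
    intro j
    rw [Matrix.mulVec_single_one]
    rfl
  constructor
  · intro h
    refine ⟨a'g i₀ i₀, ?_⟩
    have hv : a'g *ᵥ (Pi.single i₀ 1) = a'g i₀ i₀ • Pi.single i₀ 1 := by
      funext j
      by_cases hj : j = i₀
      · subst hj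
        rw [Matrix.mulVec_single_one]
        simp
      · rw [← hentry j, h j hj]
        simp [hj]
    rw [hmap] at hv
    have := congrArg (fun v => (P.map (algebraMap R Q)) *ᵥ v) hv
    rw [Matrix.mulVec_mulVec, ← Matrix.mul_assoc, ← Matrix.mul_assoc, hPQ, Matrix.one_mul,
      ← Matrix.mulVec_mulVec, hcol, Matrix.mulVec_smul, hcol] at this
    rw [hmap]
    exact this
  · rintro ⟨c, hc⟩ j hj
    rw [hentry j, hmap, ← Matrix.mulVec_mulVec, ← Matrix.mulVec_mulVec, hcol, hc, Matrix.mulVec_smul, ← hcol,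
      Matrix.mulVec_mulVec, hP'Q, Matrix.one_mulVec]
    simp [hj]

/-- a vector with a unit coordinate is a column of an invertible matrix (general index type) -/
theorem exists_invertible_with_col' {S : Type*} [CommRing S] {κ : Type*} [Fintype κ] [DecidableEq κ] (z : κ → S)
    (i₀ : κ) (hz : IsUnit (z i₀)) :
    ∃ P P' : Matrix κ κ S, P * P' = 1 ∧ P' * P = 1 ∧ (∀ i, P i i₀ = z i) := by
  let P : Matrix κ κ S := (1 : Matrix κ κ S).updateCol i₀ z
  have hdet : P.det = z i₀ := by
    rw [← Matrix.cramer_apply, Matrix.cramer_one]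
    rfl
  have hu : IsUnit P.det := by rw [hdet]; exact hz
  refine ⟨P, P⁻¹, Matrix.mul_nonsing_inv P hu, Matrix.nonsing_inv_mul P hu, ?_⟩
  intro i
  exact Matrix.updateCol_self

end General

section Main

variable {R : Type u} [CommRing R] [IsDomain R] [IsPrincipalIdealRing R]
variable {A : Type u} [CommRing A] [HopfAlgebra R A] [Module.Flat R A]
variable {B : Type u} [CommRing B] [HopfAlgebra R B] [Module.Flat R B]

/-- **Chevalley over a PID**: a flat closed subgroup scheme is the stabilizer of a line spanned by a basis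
vector in a faithful representation on a free module. -/
theorem exists_line_corep [Algebra.FiniteType R A] (π : A →ₐc[R] B) :
    ∃ (d : ℕ) (hd : 0 < d) (a : Matrix (Fin d) (Fin d) A),
      (∀ i j, CoalgebraStruct.comul (R := R) (a i j) = ∑ l, a i l ⊗ₜ[R] a l j) ∧
      (∀ i j, CoalgebraStruct.counit (R := R) (a i j) = if i = j then 1 else 0) ∧
      (∃ u : A, u * a.det = 1 ∧
        Algebra.adjoin R (Set.range (fun p : Fin d × Fin d => a p.1 p.2) ∪ {u}) = ⊤) ∧
      RingHom.ker π = Ideal.span (Set.range (fun i : {i : Fin d // i ≠ ⟨0, hd⟩} => a i.1 ⟨0, hd⟩)) := by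
  classical
  obtain ⟨d₁, e, m, hm, hI, hgen⟩ := exists_corep_block π
  set emb : Fin d₁ → Fin (d₁ + e) := Fin.castAdd e with hembdef
  have hemb : Function.Injective emb := Fin.castAdd_injective d₁ e
  let Mt : Matrix ((Fin d₁ → Fin (d₁ + e)) ⊕ Fin (d₁ + e)) ((Fin d₁ → Fin (d₁ + e)) ⊕ Fin (d₁ + e)) A :=
    Matrix.fromBlocks (tupMat m) 0 0 m
  have hMt : IsCorep R Mt := isCorep_fromBlocks _ (isCorep_tupMat m hm) m hm
  let om : ((Fin d₁ → Fin (d₁ + e)) ⊕ Fin (d₁ + e)) → R := Sum.elim (omega R emb) 0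
  let i₀ : (Fin d₁ → Fin (d₁ + e)) ⊕ Fin (d₁ + e) := Sum.inl emb
  have hom : om i₀ = 1 := by
    have := omega_perm (k := R) emb hemb 1
    simpa [om, i₀] using this
  obtain ⟨P, P', hPP', hP'P, hcol⟩ := exists_invertible_with_col' om i₀ (by rw [hom]; exact isUnit_one)
  set a' := P'.map (algebraMap R A) * Mt * P.map (algebraMap R A) with ha'def
  have ha' : IsCorep R a' := isCorep_conj Mt hMt P P' hPP'
  -- the key equivalence
  have key : ∀ (Q : Type u) [CommRing Q] [Algebra R Q] (g : A →ₐ[R] Q),
      (∀ j, j ≠ i₀ → g (a' j i₀) = 0) ↔ ∀ s, s ∉ Set.range emb → ∀ j, g (m s (emb j)) = 0 := by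
    intro Q _ _ g
    rw [col_vanish_iff Mt P P' hPP' hP'P i₀ om hcol Q g, ← omega_semiinv_iff m hm emb hemb Q g]
    have hMg : Mt.map g = Matrix.fromBlocks ((tupMat m).map g) 0 0 (m.map g) := by
      simp only [Mt, Matrix.fromBlocks_map]
      congr <;> ext <;> simp
    have homQ : (fun i => algebraMap R Q (om i)) =
        Sum.elim (fun T => algebraMap R Q (omega R emb T)) (0 : Fin (d₁ + e) → Q) := by
      funext i
      rcases i with T | t
      · rfl
      · simp [om]
    rw [hMg, homQ, Matrix.fromBlocks_mulVec]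
    simp only [Matrix.zero_mulVec, add_zero]
    apply exists_congr
    intro c
    have hsm : c • Sum.elim (fun T => algebraMap R Q (omega R emb T)) (0 : Fin (d₁ + e) → Q) =
        Sum.elim (fun T => c * algebraMap R Q (omega R emb T)) (0 : Fin (d₁ + e) → Q) := by
      funext i
      rcases i with T | t <;> simp
    rw [hsm]
    constructor
    · intro h S
      have := congrFun h (Sum.inl S)
      simp only [Sum.elim_inl, Matrix.mulVec, dotProduct, Matrix.map_apply] at this
      rw [Algebra.smul_def, mul_comm, ← this]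
      apply Finset.sum_congr rfl
      intro T _
      rw [Algebra.smul_def, mul_comm]
      rfl
    · intro h
      funext i
      rcases i with S | t
      · simp only [Sum.elim_inl, Matrix.mulVec, dotProduct, Matrix.map_apply]
        have := h S
        rw [Algebra.smul_def, mul_comm] at this
        rw [← this]
        apply Finset.sum_congr rfl
        intro T _
        rw [Algebra.smul_def, mul_comm]
        rfl
      · simp
  -- the ideal of the column is the kernel
  set J' : Ideal A := Ideal.span {x : A | ∃ j, j ≠ i₀ ∧ x = a' j i₀} with hJ'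
  set I0 : Ideal A := Ideal.span {x : A | ∃ s j, s ∉ Set.range emb ∧ x = m s (emb j)} with hI0
  have hJI : J' = I0 := by
    apply le_antisymm
    · rw [hJ', Ideal.span_le]
      rintro _ ⟨j, hj, rfl⟩
      have h1 := (key (A ⧸ I0) (Ideal.Quotient.mkₐ R I0)).2 (by
        intro s hs j'
        rw [Ideal.Quotient.mkₐ_eq_mk, Ideal.Quotient.eq_zero_iff_mem]
        exact Ideal.subset_span ⟨s, j', hs, rfl⟩)
      have := h1 j hj
      rwa [Ideal.Quotient.mkₐ_eq_mk, Ideal.Quotient.eq_zero_iff_mem] at this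
    · rw [hI0, Ideal.span_le]
      rintro _ ⟨s, j, hs, rfl⟩
      have h1 := (key (A ⧸ J') (Ideal.Quotient.mkₐ R J')).1 (by
        intro j' hj'
        rw [Ideal.Quotient.mkₐ_eq_mk, Ideal.Quotient.eq_zero_iff_mem]
        exact Ideal.subset_span ⟨j', hj', rfl⟩)
      have := h1 s hs j
      rwa [Ideal.Quotient.mkₐ_eq_mk, Ideal.Quotient.eq_zero_iff_mem] at this
  -- reindexing
  let d := Fintype.card ((Fin d₁ → Fin (d₁ + e)) ⊕ Fin (d₁ + e))
  have hd : 0 < d := Fintype.card_pos_iff.2 ⟨i₀⟩
  let e₀ : ((Fin d₁ → Fin (d₁ + e)) ⊕ Fin (d₁ + e)) ≃ Fin d := Fintype.equivFin _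
  let e₁ : ((Fin d₁ → Fin (d₁ + e)) ⊕ Fin (d₁ + e)) ≃ Fin d := e₀.trans (Equiv.swap (e₀ i₀) ⟨0, hd⟩)
  have he₁ : e₁ i₀ = ⟨0, hd⟩ := by
    simp [e₁]
  have he₁' : e₁.symm ⟨0, hd⟩ = i₀ := by
    rw [← he₁, Equiv.symm_apply_apply]
  let a : Matrix (Fin d) (Fin d) A := a'.submatrix e₁.symm e₁.symm
  have ha : IsCorep R a := isCorep_submatrix_equiv a' ha' e₁.symm
  have haM : IsCorepMatrix R a := ⟨ha.comul, ha.counit⟩
  refine ⟨d, hd, a, ha.comul, ha.counit, ⟨(a.map (HopfAlgebraStruct.antipode (R := R) (A := A))).det, ?_, ?_⟩, ?_⟩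
  · rw [mul_comm]
    exact haM.det_mul_det
  · rw [eq_top_iff, ← hgen]
    apply Algebra.adjoin_le
    rintro _ ⟨⟨s, t⟩, rfl⟩
    set Sa := Algebra.adjoin R (Set.range (fun p : Fin d × Fin d => a p.1 p.2) ∪
      {(a.map (HopfAlgebraStruct.antipode (R := R) (A := A))).det}) with hSa
    have hent : ∀ l l', a' l l' ∈ Sa := by
      intro l l'
      apply Algebra.subset_adjoin
      left
      refine ⟨(e₁ l, e₁ l'), ?_⟩
      simp [a]
    have hPPH : P.map (algebraMap R A) * P'.map (algebraMap R A) = 1 := by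
      have := Matrix.map_mul (L := P) (M := P') (f := algebraMap R A)
      rw [← this, hPP']
      simp
    have hMt' : Mt = P.map (algebraMap R A) * a' * P'.map (algebraMap R A) := by
      rw [ha'def]
      calc Mt = (P.map (algebraMap R A) * P'.map (algebraMap R A)) * Mt *
            (P.map (algebraMap R A) * P'.map (algebraMap R A)) := by rw [hPPH, Matrix.one_mul, Matrix.mul_one]
        _ = _ := by simp only [Matrix.mul_assoc]
    have hms : m s t = Mt (Sum.inr s) (Sum.inr t) := by simp [Mt]
    show m s t ∈ Sa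
    rw [hms, hMt']
    simp only [Matrix.mul_apply, Matrix.map_apply]
    apply Subalgebra.sum_mem
    intro l' _
    apply Subalgebra.mul_mem
    · apply Subalgebra.sum_mem
      intro l _
      exact Subalgebra.mul_mem _ (Subalgebra.algebraMap_mem _ _) (hent l l')
    · exact Subalgebra.algebraMap_mem _ _
  · have hker : RingHom.ker π = I0 := by
      rw [hI]
      rfl
    rw [hker, ← hJI, hJ']
    congr 1
    ext x
    constructor
    · rintro ⟨j, hj, rfl⟩
      refine ⟨⟨e₁ j, ?_⟩, ?_⟩
      · intro h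
        apply hj
        rw [← he₁] at h
        exact e₁.injective h
      · simp [a, he₁']
    · rintro ⟨⟨i, hi⟩, rfl⟩
      refine ⟨e₁.symm i, ?_, ?_⟩
      · intro h
        apply hi
        rw [← he₁, ← h, Equiv.apply_symm_apply]
      · simp [a, he₁']

end Main

end Groth.Agent.Lib.Helper75.ChevalleyPID
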