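import Groth.Agent.Lib.Helper75.TrigDVRMain

/-!
# Chevalley's block corepresentation over a principal ideal domain (helper75)

For a flat finite-type Hopf algebra `A` over a PID and a surjective bialgebra map `π : A → B` with `B` flat,
there is a corepresentation matrix of `A` whose entries generate `A` and whose lower-left block generates `ker π`.
-/

set_option autoImplicit false
universe u

open TensorProduct Matrix

namespace Groth.Agent.Lib.Helper75.ChevalleyPID

open Groth.Agent.Lib.Helper75 Groth.Agent.Lib.Helper75.LineStab Groth.Agent.Lib.Helper84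
  Groth.Agent.Lib.Helper75.TrigDVR

variable {R : Type u} [CommRing R] [IsDomain R] [IsPrincipalIdealRing R]
variable {A : Type u} [CommRing A] [HopfAlgebra R A] [Module.Flat R A]
variable {B : Type u} [CommRing B] [HopfAlgebra R B] [Module.Flat R B]

omit [IsDomain R] [IsPrincipalIdealRing R] in
/-- a basis vector of a subcomodule of the regular comodule in terms of the coefficient matrix -/
theorem basis_eq_sum_counit_smul' (E : Submodule R A) (hE : HopfRep.IsSubcomod (k := R) (A := A) (V := A) E) {n : ℕ}
    (b : Module.Basis (Fin n) R E) (j : Fin n) :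
    ((b j : E) : A) = ∑ i : Fin n, CoalgebraStruct.counit (R := R) ((b i : E) : A) •
      @coeffMatrix R _ A _ _ E _ _ n (ComodSub.Comod.restr (HopfRep.Comod.regular R A) E hE) b i j := by
  have h1 := comul_basis' E hE b j
  have h4 := Coalgebra.rTensor_counit_comul (R := R) ((b j : E) : A)
  rw [h1, map_sum] at h4
  simp only [LinearMap.rTensor_tmul] at h4
  have h5 := congrArg (TensorProduct.lid R A) h4
  rw [map_sum] at h5
  simp only [TensorProduct.lid_tmul, one_smul] at h5
  exact h5.symm

/-- a submodule with projective quotient has a complement -/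
theorem exists_isCompl_of_projective_quotient {M : Type*} [AddCommGroup M] [Module R M] (W : Submodule R M)
    [Module.Projective R (M ⧸ W)] : ∃ C : Submodule R M, IsCompl W C := by
  obtain ⟨g, hg⟩ := Module.projective_lifting_property W.mkQ LinearMap.id (Submodule.mkQ_surjective W)
  let f : M →ₗ[R] W := LinearMap.codRestrict W (LinearMap.id - g ∘ₗ W.mkQ) (by
    intro x
    rw [← Submodule.Quotient.mk_eq_zero W]
    have := LinearMap.congr_fun hg (W.mkQ x)
    simp only [LinearMap.comp_apply, LinearMap.id_apply, Submodule.mkQ_apply] at this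
    simp only [LinearMap.sub_apply, LinearMap.id_apply, LinearMap.comp_apply, Submodule.mkQ_apply,
      Submodule.Quotient.mk_sub, this, sub_self])
  refine ⟨LinearMap.ker f, LinearMap.isCompl_of_proj (f := f) ?_⟩
  intro x
  apply Subtype.ext
  simp only [f, LinearMap.codRestrict_apply, LinearMap.sub_apply, LinearMap.id_apply, LinearMap.comp_apply,
    Submodule.mkQ_apply]
  rw [(Submodule.Quotient.mk_eq_zero W).2 x.2, map_zero, sub_zero]

theorem exists_corep_block [Algebra.FiniteType R A] (π : A →ₐc[R] B) :
    ∃ (d e : ℕ) (a : Matrix (Fin (d + e)) (Fin (d + e)) A), IsCorep R a ∧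
      Ideal.span {x : A | ∃ s j, s ∉ Set.range (Fin.castAdd e : Fin d → Fin (d + e)) ∧
        x = a s (Fin.castAdd e j)} = RingHom.ker (π : A →ₐ[R] B) ∧
      Algebra.adjoin R (Set.range (fun p : Fin (d + e) × Fin (d + e) => a p.1 p.2)) = ⊤ := by
  classical
  set I : Ideal A := RingHom.ker (π : A →ₐ[R] B) with hI
  haveI : IsNoetherianRing A := Algebra.FiniteType.isNoetherianRing R A
  obtain ⟨gens, hgens⟩ : I.FG := IsNoetherian.noetherian I
  obtain ⟨tgen, htgen⟩ := (Algebra.FiniteType.out : (⊤ : Subalgebra R A).FG)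
  obtain ⟨E, hE, hEfg, hsE⟩ := SerreFin.exists_fg_subcomod (R := R) (C := A) (gens ∪ tgen)
  haveI : Module.Finite R E := Module.Finite.iff_fg.2 hEfg
  letI cE : HopfRep.Comod R A E := ComodSub.Comod.restr (HopfRep.Comod.regular R A) E hE
  let Ik : Submodule R A := I.restrictScalars R
  let Wsub : Submodule R E := Ik.comap E.subtype
  -- the quotient E/Wsub embeds in B, hence is torsion free and free
  let q : E →ₗ[R] B := (π : A →ₐ[R] B).toLinearMap ∘ₗ E.subtype
  have hkerq : LinearMap.ker q = Wsub := by
    ext x
    rfl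
  let qbar : (E ⧸ Wsub) →ₗ[R] B := Wsub.liftQ q (le_of_eq hkerq.symm)
  have hqbar : Function.Injective qbar := by
    rw [← LinearMap.ker_eq_bot]
    exact Submodule.ker_liftQ_eq_bot _ _ _ (le_of_eq hkerq)
  haveI : Module.IsTorsionFree R (E ⧸ Wsub) := hqbar.moduleIsTorsionFree qbar (fun c x => map_smul _ c x)
  haveI : Module.Free R (E ⧸ Wsub) := inferInstance
  obtain ⟨W', hW'⟩ := exists_isCompl_of_projective_quotient Wsub
  obtain ⟨d, ⟨b₁⟩⟩ := Submodule.nonempty_basis_of_pid (Module.finBasis R E) Wsub
  obtain ⟨e, ⟨b₂⟩⟩ := Submodule.nonempty_basis_of_pid (Module.finBasis R E) W'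
  let bas0 : Module.Basis (Fin d ⊕ Fin e) R E :=
    (b₁.prod b₂).map (Submodule.prodEquivOfIsCompl Wsub W' hW')
  let bas : Module.Basis (Fin (d + e)) R E := bas0.reindex finSumFinEquiv
  have hbas1 : ∀ j : Fin d, bas (Fin.castAdd e j) = (b₁ j : E) := by
    intro j
    simp [bas, bas0, Module.Basis.reindex_apply]
  have hbas2 : ∀ i : Fin e, bas (Fin.natAdd d i) = (b₂ i : E) := by
    intro i
    simp [bas, bas0, Module.Basis.reindex_apply]
  have hI1 : ∀ j : Fin d, ((bas (Fin.castAdd e j) : E) : A) ∈ I := by
    intro j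
    rw [hbas1]
    exact (b₁ j).2
  let a : Matrix (Fin (d + e)) (Fin (d + e)) A := coeffMatrix (A := A) bas
  have hcorep := isCorepMatrix_coeffMatrix (A := A) bas
  have hΔ : ∀ j, CoalgebraStruct.comul (R := R) ((bas j : E) : A) =
      ∑ i, ((bas i : E) : A) ⊗ₜ[R] a i j := fun j => comul_basis' E hE bas j
  have hbε : ∀ j, ((bas j : E) : A) = ∑ i, CoalgebraStruct.counit (R := R) ((bas i : E) : A) • a i j :=
    fun j => basis_eq_sum_counit_smul' E hE bas j
  have hεI : ∀ x ∈ I, CoalgebraStruct.counit (R := R) x = 0 := by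
    intro x hx
    have h1 : π x = 0 := hx
    have h2 := CoalgHomClass.counit_comp_apply π x
    rw [h1, map_zero] at h2
    exact h2.symm
  refine ⟨d, e, a, ⟨hcorep.comul, hcorep.counit⟩, ?_, ?_⟩
  · apply le_antisymm
    · rw [Ideal.span_le]
      rintro _ ⟨s, j, hs, rfl⟩
      obtain ⟨i, rfl⟩ : ∃ i, s = Fin.natAdd d i := by
        induction s using Fin.addCases with
        | left j' => exact absurd ⟨j', rfl⟩ hs
        | right i => exact ⟨i, rfl⟩
      -- the injective map W' → B
      let p' : W' →ₗ[R] B := q ∘ₗ W'.subtype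
      have hp' : Function.Injective p' := by
        intro x y hxy
        have h1 : q ((x : E) - (y : E)) = 0 := by
          rw [map_sub]
          exact sub_eq_zero.2 hxy
        have hx2 : ((x : E) - (y : E)) ∈ Wsub ⊓ W' := ⟨h1, W'.sub_mem x.2 y.2⟩
        rw [hW'.inf_eq_bot] at hx2
        exact Subtype.ext (sub_eq_zero.1 ((Submodule.mem_bot R).1 hx2))
      have hp'B : Function.Injective (p'.rTensor B) :=
        Module.Flat.rTensor_preserves_injective_linearMap p' hp'
      have h0 : TensorProduct.map (π : A →ₐ[R] B).toLinearMap (π : A →ₐ[R] B).toLinearMap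
          (CoalgebraStruct.comul (R := R) ((bas (Fin.castAdd e j) : E) : A)) = 0 := by
        have h1 := CoalgHomClass.map_comp_comul_apply π ((bas (Fin.castAdd e j) : E) : A)
        have h2 : π ((bas (Fin.castAdd e j) : E) : A) = 0 := hI1 j
        rw [h2, map_zero] at h1
        exact h1
      rw [hΔ, map_sum] at h0
      simp only [TensorProduct.map_tmul] at h0
      rw [Fin.sum_univ_add] at h0
      have hz : ∀ l : Fin d, (π : A →ₐ[R] B).toLinearMap ((bas (Fin.castAdd e l) : E) : A) = 0 := fun l => hI1 l
      simp only [hz, TensorProduct.zero_tmul, Finset.sum_const_zero, zero_add] at h0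
      have h1 : p'.rTensor B (∑ x : Fin e, b₂ x ⊗ₜ[R] (π : A →ₐ[R] B).toLinearMap
          (a (Fin.natAdd d x) (Fin.castAdd e j))) = 0 := by
        rw [map_sum, ← h0]
        apply Finset.sum_congr rfl
        intro x _
        rw [LinearMap.rTensor_tmul, hbas2]
        rfl
      have h2 := hp'B (h1.trans (map_zero _).symm)
      have h3 := congrArg (fun z => TensorProduct.lid R B ((b₂.coord i).rTensor B z)) h2
      simp only [map_sum, map_zero, LinearMap.rTensor_tmul, TensorProduct.lid_tmul, Module.Basis.coord_apply,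
        Module.Basis.repr_self] at h3
      rw [Finset.sum_eq_single i] at h3
      · rw [Finsupp.single_eq_same, one_smul] at h3
        exact h3
      · intro i' _ hi'
        rw [Finsupp.single_apply, if_neg hi', zero_smul]
      · intro h; exact absurd (Finset.mem_univ i) h
    · rw [← hgens, Ideal.span_le]
      intro f hf
      have hfV : f ∈ E := hsE (by simp [hf])
      have hfI : f ∈ I := by rw [← hgens]; exact Ideal.subset_span hf
      set J := Ideal.span {x : A | ∃ s j, s ∉ Set.range (Fin.castAdd e : Fin d → Fin (d + e)) ∧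
          x = a s (Fin.castAdd e j)} with hJ
      have hbJ : ∀ j : Fin d, ((b₁ j : E) : A) ∈ J := by
        intro j
        rw [← hbas1, hbε (Fin.castAdd e j)]
        apply Ideal.sum_mem
        intro s _
        by_cases hs : s ∈ Set.range (Fin.castAdd e : Fin d → Fin (d + e))
        · obtain ⟨l, rfl⟩ := hs
          rw [hεI _ (hI1 l), zero_smul]
          exact J.zero_mem
        · rw [Algebra.smul_def]
          exact J.mul_mem_left _ (Ideal.subset_span ⟨s, j, hs, rfl⟩)
      have hfW : (⟨f, hfV⟩ : E) ∈ Wsub := hfI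
      have hrepr := b₁.sum_repr ⟨⟨f, hfV⟩, hfW⟩
      have hf' : f = ∑ j : Fin d, (b₁.repr ⟨⟨f, hfV⟩, hfW⟩ j) • ((b₁ j : E) : A) := by
        have := congrArg (fun x : Wsub => ((x : E) : A)) hrepr
        simp only [Submodule.coe_sum, Submodule.coe_smul] at this
        exact this.symm
      show f ∈ J
      rw [hf']
      apply Ideal.sum_mem
      intro j _
      rw [Algebra.smul_def]
      exact J.mul_mem_left _ (hbJ j)
  · -- generation
    rw [eq_top_iff, ← htgen]
    apply Algebra.adjoin_le
    intro x hx
    have hxE : x ∈ E := hsE (by simp [hx])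
    have hbmem : ∀ j, ((bas j : E) : A) ∈
        Algebra.adjoin R (Set.range (fun p : Fin (d + e) × Fin (d + e) => a p.1 p.2)) := by
      intro j
      rw [hbε j]
      apply Subalgebra.sum_mem
      intro i _
      apply Subalgebra.smul_mem
      exact Algebra.subset_adjoin ⟨(i, j), rfl⟩
    have hrepr := bas.sum_repr ⟨x, hxE⟩
    have hx' : x = ∑ j, (bas.repr ⟨x, hxE⟩ j) • ((bas j : E) : A) := by
      have := congrArg (fun y : E => (y : A)) hrepr
      simp only [Submodule.coe_sum, Submodule.coe_smul] at this
      exact this.symm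
    rw [SetLike.mem_coe, hx']
    apply Subalgebra.sum_mem
    intro j _
    exact Subalgebra.smul_mem _ (hbmem j) _

end Groth.Agent.Lib.Helper75.ChevalleyPID
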