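import Groth.Prelude.Def_GLin
import Groth.Prelude.Def_ComodTens
import Mathlib

/-!
# Tensor product of two comodule algebras is a comodule algebra (helper75, for S19406)
-/

set_option autoImplicit false
open TensorProduct

namespace Groth.Agent.Lib.Helper75.ChiStab

universe u
variable {k : Type u} [Field k] {A : Type u} [CommRing A] [Bialgebra k A]
variable {V : Type u} [CommRing V] [Algebra k V] [HopfRep.Comod k A V] [GLin.IsCoactAlg k A V]
variable {W : Type u} [CommRing W] [Algebra k W] [HopfRep.Comod k A W] [GLin.IsCoactAlg k A W]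

variable (k A V W) in
/-- The tensor coaction as an algebra map. -/
noncomputable def tensorCoactAlg : V ⊗[k] W →ₐ[k] (V ⊗[k] W) ⊗[k] A :=
  (Algebra.TensorProduct.map (AlgHom.id k (V ⊗[k] W)) (Algebra.TensorProduct.lmul' k (S := A))).comp
    ((Algebra.TensorProduct.tensorTensorTensorComm k k k k V A W A).toAlgHom.comp
      (Algebra.TensorProduct.map (GLin.coactAlgHom k A V) (GLin.coactAlgHom k A W)))

/-- tensor comodule structure (local instance) -/
@[reducible] noncomputable def tensorComod : HopfRep.Comod k A (V ⊗[k] W) :=
  ComodTens.Comod.tensor (inferInstance : HopfRep.Comod k A V) (inferInstance : HopfRep.Comod k A W)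

attribute [local instance] tensorComod

theorem tensor_coact_eq (F : V ⊗[k] W) :
    HopfRep.Comod.coact (k := k) (A := A) F = tensorCoactAlg k A V W F := by
  induction F using TensorProduct.induction_on with
  | zero => simp
  | add x y hx hy => rw [map_add, map_add, hx, hy]
  | tmul v w =>
    rw [show HopfRep.Comod.coact (k := k) (A := A) (v ⊗ₜ[k] w) = _ from
      ComodTens.tensor_coact_tmul _ _ v w]
    rfl

instance tensorIsCoactAlg : GLin.IsCoactAlg k A (V ⊗[k] W) where
  coact_one := by rw [tensor_coact_eq, map_one]
  coact_mul f g := by rw [tensor_coact_eq, tensor_coact_eq, tensor_coact_eq, map_mul]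

theorem coactAlgHom_tensor : GLin.coactAlgHom k A (V ⊗[k] W) = tensorCoactAlg k A V W := by
  apply AlgHom.ext; intro F; exact tensor_coact_eq F

theorem tensorCoactAlg_tmul_one (v : V) :
    tensorCoactAlg k A V W (v ⊗ₜ[k] 1) =
      Algebra.TensorProduct.map (Algebra.TensorProduct.includeLeft : V →ₐ[k] V ⊗[k] W) (AlgHom.id k A)
        (HopfRep.Comod.coact (k := k) (A := A) v) := by
  unfold tensorCoactAlg
  simp only [AlgHom.coe_comp, Function.comp_apply, Algebra.TensorProduct.map_tmul, map_one,
    GLin.coactAlgHom_apply]
  generalize HopfRep.Comod.coact (k := k) (A := A) v = t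
  induction t using TensorProduct.induction_on with
  | zero => simp
  | add x y hx hy => simp only [add_tmul, map_add, hx, hy]
  | tmul a b =>
    rw [Algebra.TensorProduct.one_def]
    erw [Algebra.TensorProduct.tensorTensorTensorComm_tmul]
    simp

theorem tensorCoactAlg_one_tmul (w : W) :
    tensorCoactAlg k A V W (1 ⊗ₜ[k] w) =
      Algebra.TensorProduct.map (Algebra.TensorProduct.includeRight : W →ₐ[k] V ⊗[k] W) (AlgHom.id k A)
        (HopfRep.Comod.coact (k := k) (A := A) w) := by
  unfold tensorCoactAlg
  simp only [AlgHom.coe_comp, Function.comp_apply, Algebra.TensorProduct.map_tmul, map_one,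
    GLin.coactAlgHom_apply]
  generalize HopfRep.Comod.coact (k := k) (A := A) w = t
  induction t using TensorProduct.induction_on with
  | zero => simp
  | add x y hx hy => simp only [tmul_add, map_add, hx, hy]
  | tmul a b =>
    rw [Algebra.TensorProduct.one_def]
    erw [Algebra.TensorProduct.tensorTensorTensorComm_tmul]
    simp

/-- equivariance of `includeLeft` -/
theorem includeLeft_equiv (v : V) :
    HopfRep.Comod.coact (k := k) (A := A) ((Algebra.TensorProduct.includeLeft : V →ₐ[k] V ⊗[k] W) v) =
      Algebra.TensorProduct.map (Algebra.TensorProduct.includeLeft : V →ₐ[k] V ⊗[k] W) (AlgHom.id k A)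
        (HopfRep.Comod.coact (k := k) (A := A) v) := by
  rw [tensor_coact_eq]; exact tensorCoactAlg_tmul_one v

theorem includeRight_equiv (w : W) :
    HopfRep.Comod.coact (k := k) (A := A) ((Algebra.TensorProduct.includeRight : W →ₐ[k] V ⊗[k] W) w) =
      Algebra.TensorProduct.map (Algebra.TensorProduct.includeRight : W →ₐ[k] V ⊗[k] W) (AlgHom.id k A)
        (HopfRep.Comod.coact (k := k) (A := A) w) := by
  rw [tensor_coact_eq]; exact tensorCoactAlg_one_tmul w

end Groth.Agent.Lib.Helper75.ChiStab
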