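import Groth.Agent.Lib.Helper75.ChiStabA

/-!
# The Laurent polynomial ring as a comodule algebra of weight `g` (helper75, for S19406)
-/

set_option autoImplicit false
open TensorProduct LaurentPolynomial

namespace Groth.Agent.Lib.Helper75.ChiStab

universe u
variable {k : Type u} [Field k] {A : Type u} [CommRing A] [HopfAlgebra k A]

/-- integral powers of the group-like `g`, as elements of `A` -/
noncomputable def cz (g : GroupLike k A) (n : ℤ) : A := ((g ^ n : GroupLike k A) : A)

variable (g : GroupLike k A)

theorem cz_isGroupLike (n : ℤ) : IsGroupLikeElem k (cz g n) := (g ^ n).2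

@[simp] theorem cz_zero : cz g 0 = 1 := by simp [cz]

theorem cz_add (n m : ℤ) : cz g (n + m) = cz g n * cz g m := by simp [cz, zpow_add]

@[simp] theorem cz_one : cz g 1 = (g : A) := by simp [cz]

theorem cz_neg_mul (n : ℤ) : cz g (-n) * cz g n = 1 := by
  rw [← cz_add, neg_add_cancel, cz_zero]

theorem cz_mul_neg (n : ℤ) : cz g n * cz g (-n) = 1 := by
  rw [← cz_add, add_neg_cancel, cz_zero]

theorem comul_cz (n : ℤ) : CoalgebraStruct.comul (R := k) (cz g n) = cz g n ⊗ₜ[k] cz g n :=
  (cz_isGroupLike g n).comul_eq_tmul_self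

theorem counit_cz (n : ℤ) : CoalgebraStruct.counit (R := k) (cz g n) = 1 :=
  (cz_isGroupLike g n).counit_eq_one

/-- Laurent polynomial ring carrying the coaction of weight `g` -/
def LG (_g : GroupLike k A) : Type u := k[T;T⁻¹]

noncomputable instance : CommRing (LG g) := inferInstanceAs (CommRing k[T;T⁻¹])
noncomputable instance : Algebra k (LG g) := inferInstanceAs (Algebra k k[T;T⁻¹])

/-- the monomial `T^n` in `LG g` -/
noncomputable def tg (n : ℤ) : LG g := (T n : k[T;T⁻¹])

theorem tg_add (n m : ℤ) : tg g (n + m) = tg g n * tg g m := T_add n m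
@[simp] theorem tg_zero : tg g 0 = 1 := T_zero

theorem lg_induction {motive : LG g → Prop} (p : LG g)
    (add : ∀ p q, motive p → motive q → motive (p + q))
    (smul_tg : ∀ (n : ℤ) (a : k), motive (a • tg g n)) : motive p := by
  induction (show k[T;T⁻¹] from p) using LaurentPolynomial.induction_on' with
  | add p q hp hq => exact add p q hp hq
  | C_mul_T i a =>
    have e : (C a * T i : k[T;T⁻¹]) = a • T i := by
      rw [Algebra.smul_def]; rfl
    rw [e]; exact smul_tg i a

theorem lg_lhom_ext {M : Type*} [AddCommMonoid M] [Module k M] (f f' : LG g →ₗ[k] M)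
    (h : ∀ n, f (tg g n) = f' (tg g n)) : f = f' := by
  apply LinearMap.ext; intro p
  induction p using lg_induction with
  | add p q hp hq => rw [map_add, map_add, hp, hq]
  | smul_tg n a => rw [map_smul, map_smul, h]

theorem lg_algHom_ext {B : Type*} [Semiring B] [Algebra k B] (f f' : LG g →ₐ[k] B)
    (h : ∀ n, f (tg g n) = f' (tg g n)) : f = f' := by
  have := lg_lhom_ext g f.toLinearMap f'.toLinearMap (fun n => h n)
  apply AlgHom.ext; intro p; exact LinearMap.congr_fun this p

/-- the monoid hom `n ↦ T^n ⊗ g^n` -/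
noncomputable def czHom : Multiplicative ℤ →* (LG g) ⊗[k] A where
  toFun n := tg g n.toAdd ⊗ₜ[k] cz g n.toAdd
  map_one' := by simp [Algebra.TensorProduct.one_def]
  map_mul' a b := by simp [cz_add, tg_add, Algebra.TensorProduct.tmul_mul_tmul]

/-- the coaction of weight `g` on Laurent polynomials, as an algebra map -/
noncomputable def coactLG : LG g →ₐ[k] LG g ⊗[k] A :=
  AddMonoidAlgebra.lift k (LG g ⊗[k] A) ℤ (czHom g)

theorem coactLG_tg (n : ℤ) : coactLG g (tg g n) = tg g n ⊗ₜ[k] cz g n := by
  show (AddMonoidAlgebra.lift k (LG g ⊗[k] A) ℤ (czHom g)) (AddMonoidAlgebra.single n (1 : k)) = _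
  rw [AddMonoidAlgebra.lift_single, one_smul]
  rfl

noncomputable instance comodLG : HopfRep.Comod k A (LG g) where
  coact := (coactLG g).toLinearMap
  coassoc := by
    apply lg_lhom_ext; intro n
    simp only [LinearMap.coe_comp, Function.comp_apply, AlgHom.toLinearMap_apply, coactLG_tg,
      LinearMap.rTensor_tmul, LinearEquiv.coe_coe, TensorProduct.assoc_tmul, LinearMap.lTensor_tmul,
      comul_cz]
  counit_comp := by
    apply lg_lhom_ext; intro n
    simp only [LinearMap.coe_comp, Function.comp_apply, AlgHom.toLinearMap_apply, coactLG_tg,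
      LinearMap.lTensor_tmul, counit_cz, LinearMap.flip_apply, TensorProduct.mk_apply]

theorem coact_tg (n : ℤ) :
    HopfRep.Comod.coact (k := k) (A := A) (tg g n) = tg g n ⊗ₜ[k] cz g n := coactLG_tg g n

instance isCoactAlgLG : GLin.IsCoactAlg k A (LG g) where
  coact_one := map_one (coactLG g)
  coact_mul f h := map_mul (coactLG g) f h

end Groth.Agent.Lib.Helper75.ChiStab
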