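import Groth.Agent.Lib.Helper75.ChiStabB
import Groth.Agent.Lib.Helper23.StabOpen

/-!
# Points of `Spec R × G_m` and their orbits (helper75, for S19406)
-/

set_option autoImplicit false
open TensorProduct LaurentPolynomial
open Groth.Agent.Lib.Helper75 Groth.Agent.Lib.Helper23.Reynolds
open Groth.Agent.Lib.Helper23.GITAffine Groth.Agent.Lib.Helper23.ClosedOrbit
open Groth.Agent.Lib.Helper23.OrbitDim Groth.Agent.Lib.Helper23.StabOpen

namespace Groth.Agent.Lib.Helper75.ChiStab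

attribute [local instance] comodModule
attribute [local instance] tensorComod

universe u
variable {k : Type u} [Field k] {A : Type u} [CommRing A] [HopfAlgebra k A]
variable {R : Type u} [CommRing R] [Algebra k R] [HopfRep.Comod k A R] [GLin.IsCoactAlg k A R]
variable (g : GroupLike k A)

/-- evaluation of Laurent polynomials at a unit -/
noncomputable def evL (c : kˣ) : LG g →ₐ[k] k :=
  (AddMonoidAlgebra.lift k k ℤ ((Units.coeHom k).comp (zpowersHom kˣ c)) : k[T;T⁻¹] →ₐ[k] k)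

theorem evL_tg (c : kˣ) (n : ℤ) : evL g c (tg g n) = ((c ^ n : kˣ) : k) := by
  show (AddMonoidAlgebra.lift k k ℤ ((Units.coeHom k).comp (zpowersHom kˣ c)))
    (AddMonoidAlgebra.single n (1 : k)) = _
  rw [AddMonoidAlgebra.lift_single, one_smul]
  rfl

/-- every point of `G_m` is an evaluation -/
theorem exists_evL (φ : LG g →ₐ[k] k) : ∃ c : kˣ, φ = evL g c := by
  have h1 : φ (tg g 1) * φ (tg g (-1)) = 1 := by
    rw [← map_mul, ← tg_add, add_neg_cancel, tg_zero, map_one]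
  have h2 : φ (tg g (-1)) * φ (tg g 1) = 1 := by rw [mul_comm, h1]
  refine ⟨⟨φ (tg g 1), φ (tg g (-1)), h1, h2⟩, ?_⟩
  apply lg_algHom_ext; intro n
  rw [evL_tg]
  let F1 : Multiplicative ℤ →* k :=
    { toFun := fun n => φ (tg g n.toAdd)
      map_one' := by simp
      map_mul' := fun a b => by simp [tg_add] }
  let F2 : Multiplicative ℤ →* k :=
    (Units.coeHom k).comp (zpowersHom kˣ ⟨φ (tg g 1), φ (tg g (-1)), h1, h2⟩)
  have : F1 = F2 := by
    apply MonoidHom.ext_mint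
    simp [F1, F2]
  exact DFunLike.congr_fun this (Multiplicative.ofAdd n)

/-- the point `(x, c)` of `Spec R × G_m` -/
noncomputable def pt (x : R →ₐ[k] k) (c : kˣ) : R ⊗[k] LG g →ₐ[k] k :=
  Algebra.TensorProduct.productMap x (evL g c)

theorem pt_tmul (x : R →ₐ[k] k) (c : kˣ) (r : R) (p : LG g) :
    pt g x c (r ⊗ₜ[k] p) = x r * evL g c p := by
  simp [pt]

theorem pt_comp_includeLeft (x : R →ₐ[k] k) (c : kˣ) :
    (pt g x c).comp (Algebra.TensorProduct.includeLeft : R →ₐ[k] R ⊗[k] LG g) = x := by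
  apply AlgHom.ext; intro r
  simp [pt_tmul]

theorem pt_comp_includeRight (x : R →ₐ[k] k) (c : kˣ) :
    (pt g x c).comp (Algebra.TensorProduct.includeRight : LG g →ₐ[k] R ⊗[k] LG g) = evL g c := by
  apply AlgHom.ext; intro r
  simp [pt_tmul]

omit [HopfRep.Comod k A R] [GLin.IsCoactAlg k A R] in
theorem tp_algHom_ext {B : Type*} [CommSemiring B] [Algebra k B] (f f' : R ⊗[k] LG g →ₐ[k] B)
    (h1 : ∀ r : R, f (r ⊗ₜ[k] 1) = f' (r ⊗ₜ[k] 1))
    (h2 : ∀ n : ℤ, f (1 ⊗ₜ[k] tg g n) = f' (1 ⊗ₜ[k] tg g n)) : f = f' := by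
  apply Algebra.TensorProduct.ext'
  intro r p
  have e : r ⊗ₜ[k] p = (r ⊗ₜ[k] (1 : LG g)) * ((1 : R) ⊗ₜ[k] p) := by
    rw [Algebra.TensorProduct.tmul_mul_tmul, mul_one, one_mul]
  have h3 : f.comp (Algebra.TensorProduct.includeRight : LG g →ₐ[k] R ⊗[k] LG g) =
      f'.comp (Algebra.TensorProduct.includeRight : LG g →ₐ[k] R ⊗[k] LG g) :=
    lg_algHom_ext g _ _ (fun n => h2 n)
  have h4 : f (1 ⊗ₜ[k] p) = f' (1 ⊗ₜ[k] p) := AlgHom.congr_fun h3 p
  rw [e, map_mul, map_mul, h1, h4]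

theorem eq_pt (z : R ⊗[k] LG g →ₐ[k] k) :
    ∃ c : kˣ, z = pt g (z.comp (Algebra.TensorProduct.includeLeft : R →ₐ[k] R ⊗[k] LG g)) c := by
  obtain ⟨c, hc⟩ := exists_evL g (z.comp (Algebra.TensorProduct.includeRight : LG g →ₐ[k] R ⊗[k] LG g))
  refine ⟨c, ?_⟩
  apply tp_algHom_ext
  · intro r
    rw [pt_tmul, map_one, mul_one]; rfl
  · intro n
    rw [pt_tmul, map_one, one_mul, ← hc]; rfl

theorem pt_injective {x y : R →ₐ[k] k} {c d : kˣ} (h : pt g x c = pt g y d) : x = y ∧ c = d := by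
  constructor
  · rw [← pt_comp_includeLeft g x c, h, pt_comp_includeLeft]
  · have := congrArg (fun φ => φ ((1 : R) ⊗ₜ[k] tg g 1)) h
    simp only [pt_tmul, map_one, one_mul, evL_tg, zpow_one] at this
    exact Units.ext this

/-- value of a character at `g` as a unit -/
noncomputable def chiU (h : A →ₐ[k] k) : kˣ := Units.map (h : A →* k) (GroupLike.toUnits k g)

theorem chiU_val (h : A →ₐ[k] k) : (chiU g h : k) = h (g : A) := rfl

theorem apply_cz (h : A →ₐ[k] k) (n : ℤ) : h (cz g n) = ((chiU g h ^ n : kˣ) : k) := by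
  have : chiU g h ^ n = Units.map (h : A →* k) (GroupLike.toUnits k (g ^ n)) := by
    rw [chiU, map_zpow, map_zpow]
  rw [this]
  rfl

theorem orbitHom_evL_tg (c : kˣ) (n : ℤ) :
    GLin.orbitHom k A (evL g c) (tg g n) = ((c ^ n : kˣ) : k) • cz g n := by
  simp only [GLin.orbitHom, AlgHom.coe_comp, Function.comp_apply, GLin.coactAlgHom_apply, coact_tg,
    Algebra.TensorProduct.map_tmul, evL_tg, AlgHom.coe_id, id_eq]
  simp

theorem orbitHom_pt_tmul_one (x : R →ₐ[k] k) (c : kˣ) (r : R) :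
    GLin.orbitHom k A (pt g x c) (r ⊗ₜ[k] 1) = GLin.orbitHom k A x r := by
  have := orbitHom_comp (Algebra.TensorProduct.includeLeft : R →ₐ[k] R ⊗[k] LG g)
    (includeLeft_equiv (k := k) (A := A) (V := R) (W := LG g)) (pt g x c)
  rw [pt_comp_includeLeft] at this
  rw [this]
  rfl

theorem orbitHom_pt_one_tmul (x : R →ₐ[k] k) (c : kˣ) (n : ℤ) :
    GLin.orbitHom k A (pt g x c) (1 ⊗ₜ[k] tg g n) = ((c ^ n : kˣ) : k) • cz g n := by
  have := orbitHom_comp (Algebra.TensorProduct.includeRight : LG g →ₐ[k] R ⊗[k] LG g)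
    (includeRight_equiv (k := k) (A := A) (V := R) (W := LG g)) (pt g x c)
  rw [pt_comp_includeRight] at this
  rw [← orbitHom_evL_tg, this]
  rfl

theorem actPt_pt (h : A →ₐ[k] k) (x : R →ₐ[k] k) (c : kˣ) :
    GLin.actPt k h (pt g x c) = pt g (GLin.actPt k h x) (c * chiU g h) := by
  apply tp_algHom_ext
  · intro r
    simp only [AlgHom.coe_comp, Function.comp_apply,
      GLin.actPt, orbitHom_pt_tmul_one, pt_tmul, map_one, mul_one]
  · intro n
    simp only [AlgHom.coe_comp, Function.comp_apply,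
      GLin.actPt, orbitHom_pt_one_tmul, pt_tmul, map_one, one_mul, evL_tg, map_smul, apply_cz,
      smul_eq_mul, mul_zpow, Units.val_mul]

end Groth.Agent.Lib.Helper75.ChiStab
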