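import Groth.Agent.Lib.Helper75.ChiStabC

/-!
# Closed orbits in `Spec R × G_m` and separation (helper75, for S19406)
-/

set_option autoImplicit false
open TensorProduct LaurentPolynomial
open Groth.Agent.Lib.Helper75 Groth.Agent.Lib.Helper23.Reynolds
open Groth.Agent.Lib.Helper23.GITAffine Groth.Agent.Lib.Helper23.ClosedOrbit
open Groth.Agent.Lib.Helper23.OrbitDim Groth.Agent.Lib.Helper23.StabOpen

namespace Groth.Agent.Lib.Helper75.ChiStab

attribute [local instance] comodModule
attribute [local instance] tensorComod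

universe u
variable {k : Type u} [Field k] {A : Type u} [CommRing A] [HopfAlgebra k A]
variable {R : Type u} [CommRing R] [Algebra k R] [HopfRep.Comod k A R] [GLin.IsCoactAlg k A R]
variable (g : GroupLike k A)

instance finiteTypeLG : Algebra.FiniteType k (LG g) :=
  inferInstanceAs (Algebra.FiniteType k k[T;T⁻¹])

instance finiteTypeRP [Algebra.FiniteType k R] : Algebra.FiniteType k (R ⊗[k] LG g) :=
  Algebra.FiniteType.trans (inferInstance : Algebra.FiniteType k R) inferInstance

theorem coact_tmul_one (r : R) :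
    HopfRep.Comod.coact (k := k) (A := A) (r ⊗ₜ[k] (1 : LG g)) =
      Algebra.TensorProduct.map (Algebra.TensorProduct.includeLeft : R →ₐ[k] R ⊗[k] LG g) (AlgHom.id k A)
        (HopfRep.Comod.coact (k := k) (A := A) r) :=
  includeLeft_equiv (k := k) (A := A) (V := R) (W := LG g) r

theorem coact_one_tmul_tg (n : ℤ) :
    HopfRep.Comod.coact (k := k) (A := A) ((1 : R) ⊗ₜ[k] tg g n) =
      ((1 : R) ⊗ₜ[k] tg g n) ⊗ₜ[k] cz g n := by
  have := includeRight_equiv (k := k) (A := A) (V := R) (W := LG g) (tg g n)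
  rw [coact_tg] at this
  simpa using this

/-- scaling monoid hom -/
noncomputable def scHom (a : kˣ) : Multiplicative ℤ →* LG g where
  toFun n := ((a ^ n.toAdd : kˣ) : k) • tg g n.toAdd
  map_one' := by simp
  map_mul' m n := by
    simp only [toAdd_mul, zpow_add, Units.val_mul, tg_add]
    rw [smul_mul_smul_comm]

/-- scaling automorphism of `G_m` -/
noncomputable def scaleL (a : kˣ) : LG g →ₐ[k] LG g :=
  (AddMonoidAlgebra.lift k (LG g) ℤ (scHom g a) : k[T;T⁻¹] →ₐ[k] LG g)

theorem scaleL_tg (a : kˣ) (n : ℤ) : scaleL g a (tg g n) = ((a ^ n : kˣ) : k) • tg g n := by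
  show (AddMonoidAlgebra.lift k (LG g) ℤ (scHom g a)) (AddMonoidAlgebra.single n (1 : k)) = _
  rw [AddMonoidAlgebra.lift_single, one_smul]
  rfl

/-- scaling automorphism of `Spec R × G_m` -/
noncomputable def sig (a : kˣ) : R ⊗[k] LG g →ₐ[k] R ⊗[k] LG g :=
  Algebra.TensorProduct.map (AlgHom.id k R) (scaleL g a)

omit [HopfRep.Comod k A R] [GLin.IsCoactAlg k A R] in
theorem sig_tmul_one (a : kˣ) (r : R) : sig g a (r ⊗ₜ[k] (1 : LG g)) = r ⊗ₜ[k] 1 := by
  simp [sig]

omit [HopfRep.Comod k A R] [GLin.IsCoactAlg k A R] in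
theorem sig_one_tmul (a : kˣ) (n : ℤ) :
    sig g a ((1 : R) ⊗ₜ[k] tg g n) = ((a ^ n : kˣ) : k) • ((1 : R) ⊗ₜ[k] tg g n) := by
  simp [sig, scaleL_tg]

theorem pt_comp_sig (x : R →ₐ[k] k) (c a : kˣ) : (pt g x c).comp (sig g a) = pt g x (c * a) := by
  apply tp_algHom_ext
  · intro r
    simp only [AlgHom.coe_comp, Function.comp_apply, sig_tmul_one, pt_tmul, map_one]
  · intro n
    simp only [AlgHom.coe_comp, Function.comp_apply, sig_one_tmul, map_smul, pt_tmul, map_one, one_mul,
      evL_tg, smul_eq_mul, mul_zpow, Units.val_mul]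
    ring

omit [HopfRep.Comod k A R] [GLin.IsCoactAlg k A R] in
theorem sig_comp_sig (a b : kˣ) :
    (sig (R := R) g a).comp (sig g b) = sig g (a * b) := by
  apply tp_algHom_ext
  · intro r
    simp only [AlgHom.coe_comp, Function.comp_apply, sig_tmul_one]
  · intro n
    simp only [AlgHom.coe_comp, Function.comp_apply, sig_one_tmul, map_smul, smul_smul, mul_zpow,
      Units.val_mul]
    rw [mul_comm]

omit [HopfRep.Comod k A R] [GLin.IsCoactAlg k A R] in
theorem sig_one : sig (R := R) g 1 = AlgHom.id k _ := by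
  apply tp_algHom_ext
  · intro r
    simp only [sig_tmul_one, AlgHom.coe_id, id_eq]
  · intro n
    simp only [sig_one_tmul, one_zpow, Units.val_one, one_smul, AlgHom.coe_id, id_eq]

omit [HopfRep.Comod k A R] [GLin.IsCoactAlg k A R] in
theorem sig_surjective (a : kˣ) : Function.Surjective (sig (R := R) g a) := by
  intro F
  refine ⟨sig g a⁻¹ F, ?_⟩
  have := AlgHom.congr_fun (sig_comp_sig (R := R) g a a⁻¹) F
  rw [mul_inv_cancel, sig_one] at this
  exact this

theorem sig_equiv (a : kˣ) (s : R ⊗[k] LG g) :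
    HopfRep.Comod.coact (k := k) (A := A) (sig g a s) =
      Algebra.TensorProduct.map (sig g a) (AlgHom.id k A)
        (HopfRep.Comod.coact (k := k) (A := A) s) := by
  have key : (GLin.coactAlgHom k A (R ⊗[k] LG g)).comp (sig g a) =
      (Algebra.TensorProduct.map (sig g a) (AlgHom.id k A)).comp
        (GLin.coactAlgHom k A (R ⊗[k] LG g)) := by
    apply tp_algHom_ext
    · intro r
      simp only [AlgHom.coe_comp, Function.comp_apply, sig_tmul_one, GLin.coactAlgHom_apply,
        coact_tmul_one]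
      generalize HopfRep.Comod.coact (k := k) (A := A) r = t
      induction t using TensorProduct.induction_on with
      | zero => simp
      | add x y hx hy => rw [map_add, map_add, ← hx, ← hy]
      | tmul x y => simp [sig_tmul_one]
    · intro n
      simp only [AlgHom.coe_comp, Function.comp_apply, GLin.coactAlgHom_apply]
      rw [sig_one_tmul, map_smul, coact_one_tmul_tg, Algebra.TensorProduct.map_tmul, sig_one_tmul,
        TensorProduct.smul_tmul']
      rfl
  exact AlgHom.congr_fun key s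

section Closed

variable [IsAlgClosed k] [Algebra.FiniteType k A] [Algebra.FiniteType k R]

/-- all orbits `G·(x,c)` are closed when `G·x` is -/
theorem isClosedOrbit_pt (x : R →ₐ[k] k) (hx : GLin.IsClosedOrbit k A x) (c : kˣ) :
    GLin.IsClosedOrbit k A (pt g x c) := by
  obtain ⟨y, hy, hycl⟩ := exists_closedOrbit_point (A := A) (pt g x 1)
  obtain ⟨c₁, hc₁⟩ := eq_pt g y
  set z := y.comp (Algebra.TensorProduct.includeLeft : R →ₐ[k] R ⊗[k] LG g) with hz
  have hzx : RingHom.ker (GLin.orbitHom k A x : R →+* A) ≤ RingHom.ker (z : R →+* k) := by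
    intro r hr
    rw [RingHom.mem_ker] at hr ⊢
    have h1 : (r ⊗ₜ[k] (1 : LG g)) ∈
        RingHom.ker (GLin.orbitHom k A (pt g x 1) : R ⊗[k] LG g →+* A) := by
      rw [RingHom.mem_ker]
      change GLin.orbitHom k A (pt g x 1) (r ⊗ₜ[k] 1) = 0
      rw [orbitHom_pt_tmul_one]; exact hr
    have := hy h1
    rw [RingHom.mem_ker] at this
    exact this
  obtain ⟨h, hh⟩ := exists_actPt_eq_of_isClosedOrbit hx hzx
  -- `y = h • (x, c₂)`
  set c₂ := c₁ * (chiU g h)⁻¹ with hc₂
  have hy2 : y = GLin.actPt k h (pt g x c₂) := by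
    rw [actPt_pt, hc₂, inv_mul_cancel_right, ← hh]; exact hc₁
  have hcl2 : GLin.IsClosedOrbit k A (pt g x c₂) := by
    apply isClosedOrbit_of_forall_point
    intro z' hz'
    have hker : RingHom.ker (GLin.orbitHom k A y : R ⊗[k] LG g →+* A) =
        RingHom.ker (GLin.orbitHom k A (pt g x c₂) : R ⊗[k] LG g →+* A) := by
      rw [hy2]; exact ker_orbitHom_actPt h _
    obtain ⟨h', hh'⟩ := hycl z' (hker ▸ hz')
    refine ⟨(WithConv.toConv h * WithConv.toConv h').ofConv, ?_⟩
    rw [hh', hy2, actPt_actPt]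
  have hint : ((sig (R := R) g (c₂⁻¹ * c) : R ⊗[k] LG g →ₐ[k] R ⊗[k] LG g) :
      R ⊗[k] LG g →+* R ⊗[k] LG g).IsIntegral :=
    RingHom.isIntegral_of_surjective _ (sig_surjective g _)
  have := (isClosedOrbit_comp_iff (A := A) (sig (R := R) g (c₂⁻¹ * c)) hint (sig_equiv g _)
    (pt g x c₂)).mp hcl2
  rwa [pt_comp_sig, mul_inv_cancel_left] at this

/-- separation: if `g - 1` lies in the stabiliser ideal of `x`, the points `(x,1)` and `(x,c)`,
`c ≠ 1`, are separated by an invariant -/
theorem exists_invariant_separating [IsSemisimpleModule (DualAlg k A) (R ⊗[k] LG g)]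
    (x : R →ₐ[k] k) (hx : GLin.IsClosedOrbit k A x)
    (hstab : (g : A) - 1 ∈ GLin.stabIdeal k A x) (c : kˣ) (hc : c ≠ 1) :
    ∃ F ∈ HopfRep.fixedPts k A (R ⊗[k] LG g), pt g x 1 F ≠ pt g x c F := by
  by_contra hno
  push Not at hno
  obtain ⟨z, hz1, hzc⟩ := exists_common_point (A := A) (pt g x 1) (pt g x c) hno
  obtain ⟨h₁, hh₁⟩ := exists_actPt_eq_of_isClosedOrbit (isClosedOrbit_pt g x hx 1) hz1
  obtain ⟨h₂, hh₂⟩ := exists_actPt_eq_of_isClosedOrbit (isClosedOrbit_pt g x hx c) hzc
  have e1 : pt g x c = GLin.actPt k ((WithConv.toConv h₂)⁻¹).ofConv z := by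
    rw [hh₂, actPt_inv_actPt]
  rw [hh₁, actPt_actPt] at e1
  set h := (WithConv.toConv h₁ * WithConv.toConv ((WithConv.toConv h₂)⁻¹).ofConv).ofConv with hh
  rw [actPt_pt] at e1
  obtain ⟨e2, e3⟩ := pt_injective g e1
  have hle := (stabIdeal_le_ker_iff (A := A) x h).mpr e2.symm
  have := hle hstab
  rw [RingHom.mem_ker, map_sub, map_one, sub_eq_zero] at this
  apply hc
  rw [e3, one_mul]
  apply Units.ext
  rw [chiU_val]; exact this

end Closed

end Groth.Agent.Lib.Helper75.ChiStab
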