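import Groth.Agent.Lib.Helper75.ChiStabD
import Groth.Agent.Lib.Helper75.RayTypeB

/-!
# Graded components of invariants on `Spec R × G_m`; the weight group of a closed orbit
(helper75, for S19406)
-/

set_option autoImplicit false
open TensorProduct LaurentPolynomial
open Groth.Agent.Lib.Helper75 Groth.Agent.Lib.Helper23.Reynolds
open Groth.Agent.Lib.Helper23.GITAffine Groth.Agent.Lib.Helper23.ClosedOrbit
open Groth.Agent.Lib.Helper23.OrbitDim Groth.Agent.Lib.Helper23.StabOpen

namespace Groth.Agent.Lib.Helper75.ChiStab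

attribute [local instance] comodModule
attribute [local instance] tensorComod

universe u
variable {k : Type u} [Field k] {A : Type u} [CommRing A] [HopfAlgebra k A]
variable {R : Type u} [CommRing R] [Algebra k R] [HopfRep.Comod k A R] [GLin.IsCoactAlg k A R]
variable (g : GroupLike k A)

/-- coefficient functional on `LG g` -/
noncomputable def cjg (n : ℤ) : LG g →ₗ[k] k := (RayType.cj n : k[T;T⁻¹] →ₗ[k] k)

theorem cjg_tg (n m : ℤ) : cjg g n (tg g m) = if m = n then 1 else 0 := RayType.cj_T m n

/-- the `n`-th graded component -/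
noncomputable def En (n : ℤ) : R ⊗[k] LG g →ₗ[k] R := contractR R (cjg g n)

omit [HopfRep.Comod k A R] [GLin.IsCoactAlg k A R] in
theorem En_tmul (n : ℤ) (r : R) (p : LG g) : En g n (r ⊗ₜ[k] p) = cjg g n p • r :=
  contractR_tmul _ _ _

theorem coact_tmul_tg (r : R) (m : ℤ) :
    HopfRep.Comod.coact (k := k) (A := A) (r ⊗ₜ[k] tg g m) =
      Algebra.TensorProduct.map (Algebra.TensorProduct.includeLeft : R →ₐ[k] R ⊗[k] LG g) (AlgHom.id k A)
        (HopfRep.Comod.coact (k := k) (A := A) r) * (((1 : R) ⊗ₜ[k] tg g m) ⊗ₜ[k] cz g m) := by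
  have e : r ⊗ₜ[k] tg g m = (r ⊗ₜ[k] (1 : LG g)) * ((1 : R) ⊗ₜ[k] tg g m) := by
    rw [Algebra.TensorProduct.tmul_mul_tmul, mul_one, one_mul]
  rw [e, GLin.IsCoactAlg.coact_mul, coact_tmul_one, coact_one_tmul_tg]

omit [HopfRep.Comod k A R] [GLin.IsCoactAlg k A R] in
theorem En_core (n m : ℤ) (t : R ⊗[k] A) :
    (En g n).rTensor A
      (Algebra.TensorProduct.map (Algebra.TensorProduct.includeLeft : R →ₐ[k] R ⊗[k] LG g)
        (AlgHom.id k A) t * (((1 : R) ⊗ₜ[k] tg g m) ⊗ₜ[k] cz g m)) =
      (if m = n then (1 : k) else 0) • (LinearMap.mulRight k (cz g n)).lTensor R t := by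
  induction t using TensorProduct.induction_on with
  | zero => simp
  | add x y hx hy => rw [map_add, add_mul, map_add, hx, hy, map_add, smul_add]
  | tmul a b =>
    rw [Algebra.TensorProduct.map_tmul, Algebra.TensorProduct.includeLeft_apply,
      Algebra.TensorProduct.tmul_mul_tmul, Algebra.TensorProduct.tmul_mul_tmul, mul_one, one_mul,
      LinearMap.rTensor_tmul, En_tmul, cjg_tg, LinearMap.lTensor_tmul, LinearMap.mulRight_apply,
      AlgHom.id_apply]
    by_cases h : m = n
    · subst h; simp
    · simp [h]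

theorem En_coact (n : ℤ) (F : R ⊗[k] LG g) :
    (En g n).rTensor A (HopfRep.Comod.coact (k := k) (A := A) F) =
      (LinearMap.mulRight k (cz g n)).lTensor R
        (HopfRep.Comod.coact (k := k) (A := A) (En g n F)) := by
  induction F using TensorProduct.induction_on with
  | zero => simp
  | add x y hx hy => simp only [map_add, hx, hy]
  | tmul r p =>
    induction p using lg_induction with
    | add p q hp hq => simp only [TensorProduct.tmul_add, map_add, hp, hq]
    | smul_tg m a =>
      rw [TensorProduct.tmul_smul, map_smul, map_smul, map_smul, map_smul, map_smul]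
      congr 1
      rw [coact_tmul_tg, En_core, En_tmul, cjg_tg, map_smul, map_smul]

/-- graded components of invariants are eigenvectors -/
theorem coact_En_of_fixed (n : ℤ) (F : R ⊗[k] LG g)
    (hF : F ∈ HopfRep.fixedPts k A (R ⊗[k] LG g)) :
    HopfRep.Comod.coact (k := k) (A := A) (En g n F) = En g n F ⊗ₜ[k] cz g (-n) := by
  have hF' : HopfRep.Comod.coact (k := k) (A := A) F = F ⊗ₜ[k] (1 : A) := hF
  have h := En_coact (A := A) g n F
  rw [hF', LinearMap.rTensor_tmul] at h
  have h2 := congrArg ((LinearMap.mulRight k (cz g (-n))).lTensor R) h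
  rw [LinearMap.lTensor_tmul, LinearMap.mulRight_apply, one_mul, ← LinearMap.comp_apply,
    ← LinearMap.lTensor_comp, ← LinearMap.mulRight_mul, cz_mul_neg, LinearMap.mulRight_one,
    LinearMap.lTensor_id, LinearMap.id_apply] at h2
  exact h2.symm

/-- evaluation in the first factor -/
noncomputable def PhiX (x : R →ₐ[k] k) : R ⊗[k] LG g →ₗ[k] LG g := contractL (LG g) x.toLinearMap

omit [HopfRep.Comod k A R] [GLin.IsCoactAlg k A R] in
theorem pt_eq_evL_PhiX (x : R →ₐ[k] k) (c : kˣ) (F : R ⊗[k] LG g) :
    pt g x c F = evL g c (PhiX g x F) := by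
  induction F using TensorProduct.induction_on with
  | zero => simp
  | add x y hx hy => rw [map_add, map_add, map_add, hx, hy]
  | tmul r p =>
    rw [pt, Algebra.TensorProduct.productMap_apply_tmul, PhiX, contractL_tmul, map_smul, smul_eq_mul]
    rfl

omit [HopfRep.Comod k A R] [GLin.IsCoactAlg k A R] in
theorem cjg_PhiX (x : R →ₐ[k] k) (n : ℤ) (F : R ⊗[k] LG g) :
    cjg g n (PhiX g x F) = x (En g n F) := by
  induction F using TensorProduct.induction_on with
  | zero => simp
  | add x y hx hy => rw [map_add, map_add, map_add, map_add, hx, hy]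
  | tmul r p =>
    rw [PhiX, contractL_tmul, En_tmul, map_smul, map_smul, smul_eq_mul, smul_eq_mul, mul_comm]
    rfl

theorem evL_eq_of (c : kˣ) (p : LG g) (h : ∀ n, cjg g n p ≠ 0 → ((c ^ n : kˣ) : k) = 1) :
    evL g c p = evL g 1 p := by
  have key : ∀ q : k[T;T⁻¹], (∀ n, RayType.cj n q ≠ 0 → ((c ^ n : kˣ) : k) = 1) →
      (AddMonoidAlgebra.lift k k ℤ ((Units.coeHom k).comp (zpowersHom kˣ c))) q =
        (AddMonoidAlgebra.lift k k ℤ ((Units.coeHom k).comp (zpowersHom kˣ 1))) q := by
    intro q hq
    rw [AddMonoidAlgebra.lift_apply, AddMonoidAlgebra.lift_apply]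
    apply Finsupp.sum_congr
    intro n hn
    have hn' : RayType.cj n q ≠ 0 := Finsupp.mem_support_iff.mp hn
    have := hq n hn'
    simp only [MonoidHom.coe_comp, Function.comp_apply, zpowersHom_apply, toAdd_ofAdd,
      Units.coeHom_apply, one_zpow, Units.val_one]
    rw [this]
  exact key p h

end Groth.Agent.Lib.Helper75.ChiStab
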