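import Groth.Agent.Lib.Helper75.LinRedKerB
import Groth.Agent.Lib.Helper27.HopfAntipode

/-!
# Kernel of a quotient of a linearly reductive group, part C: coinvariants and integrals (helper75)
-/

set_option autoImplicit false
set_option linter.unusedSectionVars false

namespace Groth.Agent.Lib.Helper75.LinRedKer

open TensorProduct WithConv Groth.Agent.Lib.Helper16.FinHopf Groth.Agent.Lib.Helper23.HopfFlat
  Groth.Agent.Lib.Helper84 Groth.Agent.Lib.Helper75

universe u v w x

section C0

variable {k : Type u} [CommRing k]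
  {H : Type w} [CommRing H] [HopfAlgebra k H] {C : Type x} [CommRing C] [HopfAlgebra k C]
  (ψ : H →ₐc[k] C)

/-- explicit formula for `lamP` -/
theorem lamP_eq (a : H) :
    lamP ψ a = TensorProduct.comm k C H ((ψ : H →ₗ[k] C).rTensor H (CoalgebraStruct.comul (R := k) a)) := by
  have h3 := AlgHom.convMul_apply (ptC ψ) (ptH (k := k) (H := H) (C := C)) a
  refine h3.trans ?_
  generalize CoalgebraStruct.comul (R := k) a = t
  induction t using TensorProduct.induction_on with
  | zero => simp
  | add x y hx hy => rw [map_add, map_add, map_add, hx, hy]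
  | tmul x y =>
    simp [ptC, ptH, Algebra.TensorProduct.tmul_mul_tmul]

/-- `a ↦ a₁ ⊗ ψ a₂` -/
noncomputable def rhoP : H →ₐ[k] H ⊗[k] C := (ptH (k := k) (H := H) (C := C) * ptC ψ).ofConv

theorem rhoP_eq (a : H) :
    rhoP ψ a = (ψ : H →ₗ[k] C).lTensor H (CoalgebraStruct.comul (R := k) a) := by
  have h3 := AlgHom.convMul_apply (ptH (k := k) (H := H) (C := C)) (ptC ψ) a
  refine h3.trans ?_
  generalize CoalgebraStruct.comul (R := k) a = t
  induction t using TensorProduct.induction_on with
  | zero => simp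
  | add x y hx hy => rw [map_add, map_add, hx, hy]
  | tmul x y =>
    simp [ptC, ptH, Algebra.TensorProduct.tmul_mul_tmul]

theorem psi_antipode (a : H) : ψ (HopfAlgebra.antipode k a) = HopfAlgebra.antipode k (ψ a) := by
  have h := preComp_cinv ψ (toConv (AlgHom.id k C))
  have h2 := congrArg (fun f => f.ofConv a) h
  exact h2.symm

/-- `(S ⊗ S) ∘ λ' = ρ ∘ S` -/
theorem map_antipode_lamP (a : H) :
    Algebra.TensorProduct.map (HopfAlgebra.antipodeAlgHom k H) (HopfAlgebra.antipodeAlgHom k C) (lamP ψ a) =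
      rhoP ψ (HopfAlgebra.antipode k a) := by
  have h1 : postComp (Algebra.TensorProduct.map (HopfAlgebra.antipodeAlgHom k H) (HopfAlgebra.antipodeAlgHom k C))
      (ptC ψ * ptH (k := k) (H := H) (C := C)) =
      cinv (ptH (k := k) (H := H) (C := C) * ptC ψ) := by
    rw [map_mul]
    have e1 : postComp (Algebra.TensorProduct.map (HopfAlgebra.antipodeAlgHom k H) (HopfAlgebra.antipodeAlgHom k C))
        (ptC ψ) = cinv (ptC ψ) := by
      apply WithConv.ofConv_injective
      apply AlgHom.ext
      intro b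
      show Algebra.TensorProduct.map (HopfAlgebra.antipodeAlgHom k H) (HopfAlgebra.antipodeAlgHom k C)
        ((1 : H) ⊗ₜ[k] ψ b) = (1 : H) ⊗ₜ[k] ψ (HopfAlgebra.antipode k b)
      rw [psi_antipode]
      simp
    have e2 : postComp (Algebra.TensorProduct.map (HopfAlgebra.antipodeAlgHom k H) (HopfAlgebra.antipodeAlgHom k C))
        (ptH (k := k) (H := H) (C := C)) = cinv (ptH (k := k) (H := H) (C := C)) := by
      apply WithConv.ofConv_injective
      apply AlgHom.ext
      intro b
      show Algebra.TensorProduct.map (HopfAlgebra.antipodeAlgHom k H) (HopfAlgebra.antipodeAlgHom k C)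
        (b ⊗ₜ[k] (1 : C)) = (HopfAlgebra.antipode k b) ⊗ₜ[k] (1 : C)
      simp
    rw [e1, e2]
    exact (mul_inv_rev (G := WithConv (H →ₐ[k] H ⊗[k] C)) _ _).symm
  have h2 := congrArg (fun f => f.ofConv a) h1
  exact h2

end C0

section C1

variable {k : Type u} [Field k] {R : Type v} [CommRing R] [HopfAlgebra k R] [Algebra.FiniteType k R]
  {H : Type w} [CommRing H] [HopfAlgebra k H] [Algebra.FiniteType k H]
  {C : Type x} [CommRing C] [HopfAlgebra k C]
  (φ : R →ₐc[k] H) (hφi : Function.Injective φ) (ψ : H →ₐc[k] C) (hψ : Function.Surjective ψ)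
  (hker : RingHom.ker (ψ : H →ₐ[k] C) = augSpan φ)

include hφi hψ hker in
/-- right coinvariants of `H` under `C` lie in the image of `R` -/
theorem mem_range_of_rhoP (a : H) (ha : rhoP ψ a = a ⊗ₜ[k] (1 : C)) : a ∈ Set.range φ := by
  apply Groth.Agent.Lib.Helper75.HopfCoinv.mem_range_of_coinv φ hφi a
  let e : C →ₐ[k] H ⧸ augSpan φ :=
    AlgHom.liftOfSurjective (ψ : H →ₐ[k] C) hψ (Ideal.Quotient.mkₐ k (augSpan φ)) (by
      intro b hb
      have hb' : b ∈ augSpan φ := by
        rw [← hker]
        exact hb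
      rw [RingHom.mem_ker]
      exact Ideal.Quotient.eq_zero_iff_mem.2 hb')
  have he : ∀ b, e (ψ b) = Ideal.Quotient.mkₐ k (augSpan φ) b :=
    fun b => AlgHom.liftOfSurjective_apply (ψ : H →ₐ[k] C) hψ _ _ b
  rw [rhoP_eq] at ha
  have h2 := congrArg (e.toLinearMap.lTensor H) ha
  rw [← LinearMap.comp_apply, ← LinearMap.lTensor_comp, LinearMap.lTensor_tmul] at h2
  have h3 : e.toLinearMap ∘ₗ (ψ : H →ₗ[k] C) = (Ideal.Quotient.mkₐ k (augSpan φ)).toLinearMap := by
    apply LinearMap.ext
    intro b
    exact he b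
  rw [h3] at h2
  rw [h2]
  congr 1
  exact map_one e

include hφi hψ hker in
/-- left coinvariants of `H` under `C` lie in the image of `R` -/
theorem mem_range_of_lamP (h : H) (hh : lamP ψ h = h ⊗ₜ[k] (1 : C)) : h ∈ Set.range φ := by
  have h1 := map_antipode_lamP ψ h
  rw [hh] at h1
  have h2 : rhoP ψ (HopfAlgebra.antipode k h) = (HopfAlgebra.antipode k h) ⊗ₜ[k] (1 : C) := by
    rw [← h1]
    simp
  obtain ⟨r, hr⟩ := mem_range_of_rhoP φ hφi ψ hψ hker _ h2
  refine ⟨HopfAlgebra.antipode k r, ?_⟩
  rw [psi_antipode φ r, hr, Groth.Agent.Lib.Helper27.HopfAnt.antipode_antipode]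

end C1

section C2

variable {k : Type u} [CommRing k] {H : Type w} [CommRing H] [HopfAlgebra k H]

/-- a left total integral composed with the antipode is a right total integral -/
theorem exists_right_integral (α : H →ₗ[k] k) (hα : ∀ a, hitL α a = α a • (1 : H)) (h1 : α 1 = 1) :
    ∃ β : H →ₗ[k] k, (∀ a, hitR β a = β a • (1 : H)) ∧ β 1 = 1 := by
  refine ⟨α ∘ₗ HopfAlgebraStruct.antipode (R := k) (A := H), ?_, ?_⟩
  · intro a
    have key : HopfAlgebra.antipode k (hitR (α ∘ₗ HopfAlgebraStruct.antipode (R := k) (A := H)) a) =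
        hitL α (HopfAlgebra.antipode k a) := by
      show HopfAlgebra.antipode k (contractR H (α ∘ₗ HopfAlgebraStruct.antipode (R := k) (A := H))
        (CoalgebraStruct.comul (R := k) a)) =
        contractL H α (CoalgebraStruct.comul (R := k) (HopfAlgebra.antipode k a))
      rw [Groth.Agent.Lib.Helper27.HopfAnt.comul_antipode]
      generalize CoalgebraStruct.comul (R := k) a = t
      induction t using TensorProduct.induction_on with
      | zero => simp
      | add x y hx hy => simp only [map_add, hx, hy]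
      | tmul x y => simp
    have h2 := congrArg (HopfAlgebra.antipode k) key
    rw [Groth.Agent.Lib.Helper27.HopfAnt.antipode_antipode, hα, map_smul, HopfAlgebra.antipode_one] at h2
    exact h2
  · rw [LinearMap.comp_apply]
    show α (HopfAlgebra.antipode k (1 : H)) = 1
    rw [HopfAlgebra.antipode_one, h1]

variable {C : Type x} [CommRing C] [HopfAlgebra k C] (ψ : H →ₐc[k] C)

theorem contractL_lamP (β : H →ₗ[k] k) (a : H) :
    contractL C β (lamP ψ a) = ψ (hitR β a) := by
  rw [lamP_eq]
  show _ = ψ (contractR H β (CoalgebraStruct.comul (R := k) a))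
  generalize CoalgebraStruct.comul (R := k) a = t
  induction t using TensorProduct.induction_on with
  | zero => simp
  | add x y hx hy => simp only [map_add, hx, hy]
  | tmul x y => simp

end C2

section C3

variable {k : Type u} [Field k] {R : Type v} [CommRing R] [HopfAlgebra k R] [Algebra.FiniteType k R]
  {H : Type w} [CommRing H] [HopfAlgebra k H] [Algebra.FiniteType k H]
  {C : Type x} [CommRing C] [HopfAlgebra k C]
  (φ : R →ₐc[k] H) (hφi : Function.Injective φ) (ψ : H →ₐc[k] C) (hψ : Function.Surjective ψ)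
  (hker : RingHom.ker (ψ : H →ₐ[k] C) = augSpan φ)

include hker in
theorem psi_phi (r : R) : ψ (φ r) = algebraMap k C (Coalgebra.counit (R := k) r) := by
  have h1 : (φ : R →+* H) (r - algebraMap k R (Coalgebra.counit (R := k) r)) ∈ augSpan φ :=
    Ideal.mem_map_of_mem _ (sub_counit_mem_ker r)
  rw [← hker, RingHom.mem_ker] at h1
  have h2 : ψ (φ (r - algebraMap k R (Coalgebra.counit (R := k) r))) = 0 := h1
  rw [map_sub, map_sub, sub_eq_zero] at h2
  rw [h2]
  have h3 : φ (algebraMap k R (Coalgebra.counit (R := k) r)) =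
      algebraMap k H (Coalgebra.counit (R := k) r) := AlgHomClass.commutes φ _
  rw [h3]
  exact AlgHomClass.commutes ψ _

include hφi hψ hker in
/-- **key lemma**: for a corepresentation matrix `c` of the kernel `C` and a nonzero invariant functional `p`,
there is an invariant vector `ξ` with `p ξ = 1`, provided `H` has a right total integral. -/
theorem exists_invariant {n : ℕ} (c : Matrix (Fin n) (Fin n) C) (hc : IsCorepMatrix k c)
    (p : Fin n → k) (hp : ∀ j, ∑ i, p i • c i j = p j • (1 : C)) (hp0 : p ≠ 0)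
    (β : H →ₗ[k] k) (hβ : ∀ a, hitR β a = β a • (1 : H)) (hβ1 : β 1 = 1) :
    ∃ ξ : Fin n → k, (∀ i, ∑ j, ξ j • c i j = ξ i • (1 : C)) ∧ ∑ j, p j * ξ j = 1 := by
  let algRH : Algebra R H := (φ : R →+* H).toAlgebra
  have : IsScalarTower k R H := IsScalarTower.of_algebraMap_eq fun x => by
    change algebraMap k H x = φ (algebraMap k R x)
    exact ((φ : R →ₐ[k] H).commutes x).symm
  have hff : (φ : R →+* H).FaithfullyFlat := faithfullyFlat_of_injective φ hφi
  have : Module.FaithfullyFlat R H := hff
  have hφ : ∀ r, algebraMap R H r = φ r := fun _ => rfl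
  have hψφ := psi_phi φ ψ hker
  set Sol : Submodule R (Fin n → H) := LinearMap.ker (Dmap φ ψ hφ hψφ c) with hSol
  let P : (Fin n → H) →ₗ[H] H := ∑ i, (algebraMap k H (p i)) • LinearMap.proj i
  have hP : ∀ h : Fin n → H, P h = ∑ i, p i • h i := by
    intro h
    simp only [P, LinearMap.sum_apply, LinearMap.smul_apply, LinearMap.proj_apply]
    apply Finset.sum_congr rfl
    intro i _
    show (algebraMap k H (p i)) * h i = _
    rw [Algebra.smul_def]
  -- Step 1
  have h1 : ∀ s ∈ Sol, P s ∈ Set.range φ := by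
    intro s hs
    have hs' := (mem_ker_Dmap φ ψ hφ hψφ c s).1 hs
    apply mem_range_of_lamP φ hφi ψ hψ hker
    rw [hP, map_sum]
    have e1 : ∀ i, lamP ψ (p i • s i) = ∑ j, s j ⊗ₜ[k] (p i • c i j) := by
      intro i
      rw [map_smul, hs' i, Finset.smul_sum]
      apply Finset.sum_congr rfl
      intro j _
      rw [TensorProduct.tmul_smul]
    rw [Finset.sum_congr rfl (fun i _ => e1 i), Finset.sum_comm, TensorProduct.sum_tmul]
    apply Finset.sum_congr rfl
    intro j _
    rw [← TensorProduct.tmul_sum, hp j, TensorProduct.tmul_smul, TensorProduct.smul_tmul']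
  -- Step 2
  let I : Ideal R := Submodule.comap (Algebra.linearMap R H) (Submodule.map (P.restrictScalars R) Sol)
  have hI : ∀ r, r ∈ I ↔ ∃ s ∈ Sol, P s = φ r := by
    intro r
    show (∃ s, s ∈ Sol ∧ P s = algebraMap R H r) ↔ _
    rfl
  -- Step 3
  have hmap : Ideal.map (algebraMap R H) I = ⊤ := by
    obtain ⟨l, hl⟩ : ∃ l, p l ≠ 0 := by
      by_contra hcon
      push Not at hcon
      exact hp0 (funext hcon)
    have hsp := single_mem_span_ker φ ψ hφ hψφ hψ hker c hc l
    have hall : ∀ x ∈ Submodule.span H (Sol : Set (Fin n → H)), P x ∈ Ideal.map (algebraMap R H) I := by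
      intro x hx
      induction hx using Submodule.span_induction with
      | mem s hs =>
        obtain ⟨r, hr⟩ := h1 s hs
        rw [← hr]
        exact Ideal.mem_map_of_mem _ ((hI r).2 ⟨s, hs, hr.symm⟩)
      | zero => rw [map_zero]; exact Ideal.zero_mem _
      | add x y _ _ hx hy => rw [map_add]; exact Ideal.add_mem _ hx hy
      | smul g x _ hx => rw [map_smul]; exact Ideal.mul_mem_left _ g hx
    have h2 := hall _ hsp
    rw [hP] at h2
    have h3 : ∑ i, p i • (Pi.single l (1 : H) : Fin n → H) i = algebraMap k H (p l) := by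
      rw [Finset.sum_eq_single l]
      · rw [Pi.single_eq_same, Algebra.algebraMap_eq_smul_one]
      · intro i _ hi
        rw [Pi.single_eq_of_ne hi, smul_zero]
      · intro h
        exact absurd (Finset.mem_univ l) h
    rw [h3] at h2
    rw [Ideal.eq_top_iff_one]
    have h4 := Ideal.mul_mem_left _ (algebraMap k H (p l)⁻¹) h2
    rwa [← map_mul, inv_mul_cancel₀ hl, map_one] at h4
  -- Step 4
  have hItop : I = ⊤ := by
    rw [← Ideal.comap_map_eq_self_of_faithfullyFlat (B := H) I, hmap, Ideal.comap_top]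
  obtain ⟨s, hs, hPs⟩ := (hI 1).1 (by rw [hItop]; trivial)
  rw [map_one] at hPs
  have hs' := (mem_ker_Dmap φ ψ hφ hψφ c s).1 hs
  -- Step 5
  refine ⟨fun j => β (s j), ?_, ?_⟩
  · intro i
    have e1 := congrArg (contractL C β) (hs' i)
    rw [contractL_lamP, hβ, map_sum, map_smul, map_one] at e1
    show ∑ j, β (s j) • c i j = β (s i) • (1 : C)
    rw [e1]
    apply Finset.sum_congr rfl
    intro j _
    rw [contractL_tmul]
  · have e2 := congrArg β hPs
    rw [hP, map_sum, hβ1] at e2
    show ∑ j, p j * β (s j) = 1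
    rw [← e2]
    apply Finset.sum_congr rfl
    intro j _
    rw [map_smul, smul_eq_mul]

end C3

end Groth.Agent.Lib.Helper75.LinRedKer
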