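import Groth.Agent.Lib.Helper75.ChiStabE
import Groth.Agent.Lib.Helper75.HopfIntegralBC
import Groth.Agent.Lib.Helper75.LinRedKerC

/-!
# The weight group of a closed orbit and the key lemma (helper75, for S19406)
-/

set_option autoImplicit false
open TensorProduct LaurentPolynomial
open Groth.Agent.Lib.Helper75 Groth.Agent.Lib.Helper23.Reynolds
open Groth.Agent.Lib.Helper23.GITAffine Groth.Agent.Lib.Helper23.ClosedOrbit
open Groth.Agent.Lib.Helper23.OrbitDim Groth.Agent.Lib.Helper23.StabOpen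

namespace Groth.Agent.Lib.Helper75.ChiStab

attribute [local instance] comodModule
attribute [local instance] tensorComod

universe u
variable {k : Type u} [Field k] {A : Type u} [CommRing A] [HopfAlgebra k A]
variable {R : Type u} [CommRing R] [Algebra k R] [HopfRep.Comod k A R] [GLin.IsCoactAlg k A R]
variable (g : GroupLike k A)

section Twist

variable (β : A →ₗ[k] k) (hβ : ∀ a, hitR β a = β a • (1 : A))

include hβ in
/-- the twisted integral `β(g^n ·)` -/
theorem hitR_twist (n : ℤ) (a : A) :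
    hitR (β ∘ₗ LinearMap.mulLeft k (cz g n)) a = β (cz g n * a) • cz g (-n) := by
  have h1 := hβ (cz g n * a)
  have h2 : hitR β (cz g n * a) = cz g n * hitR (β ∘ₗ LinearMap.mulLeft k (cz g n)) a := by
    simp only [hitR, LinearMap.comp_apply]
    rw [Bialgebra.comul_mul, comul_cz]
    generalize CoalgebraStruct.comul (R := k) a = t
    induction t using TensorProduct.induction_on with
    | zero => simp
    | add x y hx hy => rw [mul_add, map_add, map_add, hx, hy, mul_add]
    | tmul b b' =>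
      rw [Algebra.TensorProduct.tmul_mul_tmul, contractR_tmul, contractR_tmul, LinearMap.comp_apply,
        LinearMap.mulLeft_apply, mul_smul_comm]
  rw [h2] at h1
  have h3 := congrArg (fun y => cz g (-n) * y) h1
  simp only [← mul_assoc, cz_neg_mul, one_mul, mul_smul_comm, mul_one] at h3
  exact h3

theorem lTensor_smul_elt {V : Type*} [AddCommGroup V] [Module k V] (ψ : A →ₗ[k] k) (c : A)
    (f : A →ₗ[k] A) (hf : ∀ a, f a = ψ a • c) (t : V ⊗[k] A) :
    f.lTensor V t = contractR V ψ t ⊗ₜ[k] c := by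
  induction t using TensorProduct.induction_on with
  | zero => simp
  | tmul v a => rw [LinearMap.lTensor_tmul, hf, contractR_tmul, TensorProduct.tmul_smul,
      TensorProduct.smul_tmul']
  | add x y hx hy => rw [map_add, map_add, hx, hy, TensorProduct.add_tmul]

include hβ in
theorem coact_act_twist (n : ℤ) (v : R) :
    HopfRep.Comod.coact (k := k) (A := A) (act (β ∘ₗ LinearMap.mulLeft k (cz g n)) v) =
      act (β ∘ₗ LinearMap.mulLeft k (cz g n)) v ⊗ₜ[k] cz g (-n) := by
  have := coact_act (A := A) (β ∘ₗ LinearMap.mulLeft k (cz g n)) v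
  rw [lTensor_smul_elt (β ∘ₗ LinearMap.mulLeft k (cz g n)) (cz g (-n)) _
    (fun a => by rw [hitR_twist g β hβ]; rfl)] at this
  exact this

end Twist

/-- the weights `n` for which some `g^n`-eigenfunction does not vanish at `x` -/
def Gam (x : R →ₐ[k] k) : Set ℤ :=
  {n | ∃ f : R, HopfRep.Comod.coact (k := k) (A := A) f = f ⊗ₜ[k] cz g n ∧ x f ≠ 0}

theorem zero_mem_Gam (x : R →ₐ[k] k) : (0 : ℤ) ∈ Gam g x := by
  refine ⟨1, ?_, by simp⟩
  rw [GLin.IsCoactAlg.coact_one (k := k) (A := A) (R := R), cz_zero, Algebra.TensorProduct.one_def]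

theorem add_mem_Gam (x : R →ₐ[k] k) {n m : ℤ} (hn : n ∈ Gam g x) (hm : m ∈ Gam g x) :
    n + m ∈ Gam g x := by
  obtain ⟨f, hf, hxf⟩ := hn
  obtain ⟨f', hf', hxf'⟩ := hm
  refine ⟨f * f', ?_, ?_⟩
  · rw [GLin.IsCoactAlg.coact_mul, hf, hf', Algebra.TensorProduct.tmul_mul_tmul, cz_add]
  · rw [map_mul]; exact mul_ne_zero hxf hxf'

theorem orbitHom_of_eigen (x : R →ₐ[k] k) (f : R) (n : ℤ)
    (hf : HopfRep.Comod.coact (k := k) (A := A) f = f ⊗ₜ[k] cz g n) :
    GLin.orbitHom k A x f = x f • cz g n := by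
  rw [orbitHom_eq_cf, cf_apply]
  show contractL A x.toLinearMap (HopfRep.Comod.coact (k := k) (A := A) f) = _
  rw [hf, contractL_tmul]
  rfl

theorem neg_mem_Gam (β : A →ₗ[k] k) (hβ : ∀ a, hitR β a = β a • (1 : A)) (hβ1 : β 1 = 1)
    (x : R →ₐ[k] k) (hx : GLin.IsClosedOrbit k A x) {n : ℤ} (hn : n ∈ Gam g x) :
    -n ∈ Gam g x := by
  obtain ⟨f, hf, hxf⟩ := hn
  have hφf := orbitHom_of_eigen g x f n hf
  -- `f` is a unit modulo the ideal of the orbit
  have htop : Ideal.span {f} ⊔ RingHom.ker (GLin.orbitHom k A x : R →+* A) = ⊤ := by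
    by_contra hne
    obtain ⟨M, hM, hle⟩ := Ideal.exists_le_maximal _ hne
    have hcl : Set.range (PrimeSpectrum.comap (GLin.orbitHom k A x).toRingHom) =
        PrimeSpectrum.zeroLocus (RingHom.ker (GLin.orbitHom k A x).toRingHom : Set R) := by
      rw [← PrimeSpectrum.closure_range_comap]
      exact (IsClosed.closure_eq hx).symm
    have hmem : (⟨M, hM.isPrime⟩ : PrimeSpectrum R) ∈
        Set.range (PrimeSpectrum.comap (GLin.orbitHom k A x).toRingHom) := by
      rw [hcl, PrimeSpectrum.mem_zeroLocus]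
      exact fun r hr => hle (Ideal.mem_sup_right hr)
    obtain ⟨q, hq⟩ := hmem
    have hfM : f ∈ M := hle (Ideal.mem_sup_left (Ideal.subset_span rfl))
    have hfq : (GLin.orbitHom k A x) f ∈ q.asIdeal := by
      have : f ∈ (PrimeSpectrum.comap (GLin.orbitHom k A x).toRingHom q).asIdeal := by
        rw [hq]; exact hfM
      exact this
    rw [hφf] at hfq
    have hu : IsUnit (x f • cz g n) := by
      refine IsUnit.of_mul_eq_one ((x f)⁻¹ • cz g (-n)) ?_
      rw [smul_mul_smul_comm, mul_inv_cancel₀ hxf, cz_mul_neg, one_smul]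
    exact q.2.ne_top (Ideal.eq_top_of_isUnit_mem _ hfq hu)
  have h1 : (1 : R) ∈ Ideal.span {f} ⊔ RingHom.ker (GLin.orbitHom k A x : R →+* A) := by
    rw [htop]; trivial
  obtain ⟨y, hy, z, hz, hyz⟩ := Submodule.mem_sup.mp h1
  obtain ⟨a, rfl⟩ := Ideal.mem_span_singleton'.mp hy
  have hφ1 : GLin.orbitHom k A x a * (x f • cz g n) = 1 := by
    have := congrArg (GLin.orbitHom k A x) hyz
    rw [map_add, map_mul, map_one, hφf] at this
    rw [RingHom.mem_ker] at hz
    have hz' : GLin.orbitHom k A x z = 0 := hz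
    rw [hz', add_zero] at this
    exact this
  have hφa : GLin.orbitHom k A x a = (x f)⁻¹ • cz g (-n) := by
    have := congrArg (fun y => y * ((x f)⁻¹ • cz g (-n))) hφ1
    simp only [one_mul, mul_assoc, smul_mul_smul_comm, mul_inv_cancel₀ hxf, cz_mul_neg, one_smul,
      mul_one] at this
    exact this
  refine ⟨act (β ∘ₗ LinearMap.mulLeft k (cz g n)) a, coact_act_twist g β hβ n a, ?_⟩
  rw [apply_eq_counit_orbitHom (A := A), orbitHom_eq_cf, RayType.cf_act, ← orbitHom_eq_cf, hφa,
    map_smul, hitR_twist g β hβ, cz_mul_neg, hβ1, one_smul, map_smul, counit_cz, smul_eq_mul, mul_one]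
  exact inv_ne_zero hxf

end Groth.Agent.Lib.Helper75.ChiStab
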