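import Groth.Agent.Lib.Helper75.ChiStabF

/-!
# Key lemma: a character trivial on the stabiliser of a closed orbit is the weight of an
eigenfunction not vanishing on the orbit (helper75, for S19406)
-/

set_option autoImplicit false
open TensorProduct LaurentPolynomial
open Groth.Agent.Lib.Helper75 Groth.Agent.Lib.Helper23.Reynolds
open Groth.Agent.Lib.Helper23.GITAffine Groth.Agent.Lib.Helper23.ClosedOrbit
open Groth.Agent.Lib.Helper23.OrbitDim Groth.Agent.Lib.Helper23.StabOpen

namespace Groth.Agent.Lib.Helper75.ChiStab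

attribute [local instance] comodModule
attribute [local instance] tensorComod

universe u
variable {k : Type u} [Field k] [IsAlgClosed k] [CharZero k]
variable {A : Type u} [CommRing A] [HopfAlgebra k A] [Algebra.FiniteType k A]
variable {R : Type u} [CommRing R] [Algebra k R] [Algebra.FiniteType k R]
  [HopfRep.Comod k A R] [GLin.IsCoactAlg k A R]
variable (g : GroupLike k A)

omit [IsAlgClosed k] [CharZero k] [Algebra.FiniteType k A] [Algebra.FiniteType k R]
  [HopfRep.Comod k A R] [GLin.IsCoactAlg k A R] in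
/-- a nontrivial unit killed by `d`-th power, when `d ≠ ±1` -/
theorem exists_unit_zpow_eq_one [IsAlgClosed k] [CharZero k] (d : ℤ) (hd : d.natAbs ≠ 1) :
    ∃ c : kˣ, c ≠ 1 ∧ c ^ d = 1 := by
  by_cases h0 : d = 0
  · subst h0
    refine ⟨Units.mk0 (2 : k) two_ne_zero, ?_, zpow_zero _⟩
    intro h
    have := congrArg Units.val h
    simp only [Units.val_mk0, Units.val_one] at this
    have h21 : (2 : k) ≠ 1 := by norm_num
    exact h21 this
  · set m := d.natAbs with hm
    have hm0 : m ≠ 0 := Int.natAbs_ne_zero.mpr h0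
    have hm1 : 1 < m := by omega
    haveI : NeZero m := ⟨hm0⟩
    obtain ⟨ζ, hζ⟩ := HasEnoughRootsOfUnity.exists_primitiveRoot k m
    have hζ0 : ζ ≠ 0 := hζ.ne_zero hm0
    refine ⟨Units.mk0 ζ hζ0, ?_, ?_⟩
    · intro h
      have := congrArg Units.val h
      simp only [Units.val_mk0, Units.val_one] at this
      exact hζ.ne_one hm1 this
    · have hpow : (Units.mk0 ζ hζ0) ^ m = 1 := by
        apply Units.ext
        simp only [Units.val_pow_eq_pow_val, Units.val_mk0, Units.val_one]
        exact hζ.pow_eq_one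
      rcases Int.natAbs_eq d with h | h
      · rw [h, zpow_natCast]; exact hpow
      · rw [h, zpow_neg, zpow_natCast, hpow, inv_one]

/-- **Key lemma.**  If the orbit of `x` is closed and `g - 1` lies in the stabiliser ideal of `x`
then some `g`-eigenfunction does not vanish at `x`. -/
theorem one_mem_Gam (hG : HopfRep.IsLinearlyReductive k A) (x : R →ₐ[k] k)
    (hx : GLin.IsClosedOrbit k A x) (hstab : (g : A) - 1 ∈ GLin.stabIdeal k A x) :
    (1 : ℤ) ∈ Gam g x ∧ (-1 : ℤ) ∈ Gam g x := by
  obtain ⟨α, hα, hα1⟩ := exists_total_integral_of_isLinearlyReductive hG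
  obtain ⟨β, hβ, hβ1⟩ := LinRedKer.exists_right_integral α hα hα1
  let H : AddSubgroup ℤ :=
    { carrier := Gam g x
      add_mem' := fun hn hm => add_mem_Gam g x hn hm
      zero_mem' := zero_mem_Gam g x
      neg_mem' := fun hn => neg_mem_Gam g β hβ hβ1 x hx hn }
  suffices h1 : (1 : ℤ) ∈ H from ⟨h1, H.neg_mem h1⟩
  obtain ⟨d, hd⟩ := Int.subgroup_cyclic H
  by_contra h1
  have hd1 : d.natAbs ≠ 1 := by
    intro h
    apply h1
    rw [hd]
    rcases Int.natAbs_eq d with h' | h'
    · rw [h] at h'
      rw [h']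
      exact AddSubgroup.subset_closure rfl
    · rw [h] at h'
      have : (1 : ℤ) = -d := by rw [h']; simp
      rw [this]
      exact (AddSubgroup.closure {d}).neg_mem (AddSubgroup.subset_closure rfl)
  obtain ⟨c, hc1, hcd⟩ := exists_unit_zpow_eq_one (k := k) d hd1
  have hcn : ∀ n ∈ H, c ^ n = 1 := by
    intro n hn
    rw [hd] at hn
    obtain ⟨j, rfl⟩ := AddSubgroup.mem_closure_singleton.mp hn
    rw [smul_eq_mul, mul_comm, zpow_mul, hcd, one_zpow]
  haveI := isSemisimpleModule_of_isLinearlyReductive hG (R ⊗[k] LG g)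
  obtain ⟨F, hF, hne⟩ := exists_invariant_separating g x hx hstab c hc1
  apply hne
  rw [pt_eq_evL_PhiX, pt_eq_evL_PhiX]
  symm
  apply evL_eq_of
  intro n hn
  rw [cjg_PhiX] at hn
  have hmem : -n ∈ H := ⟨En g n F, coact_En_of_fixed g n F hF, hn⟩
  have := hcn _ hmem
  rw [zpow_neg, inv_eq_one] at this
  rw [this]; rfl

end Groth.Agent.Lib.Helper75.ChiStab
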