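import Groth.Prelude.Def_CoactBr
import Mathlib

/-!
# Class functions on an affine group scheme: scheme-valued points vs. cocommutativity (helper75)

`f ∈ A` satisfies `f(x g x⁻¹) = f(g)` for all points `x, g` with values in any scheme over `Spec R`
if and only if `Δ f = τ (Δ f)`.
-/

set_option autoImplicit false
universe u

noncomputable section

open CategoryTheory MonoidalCategory CartesianMonoidalCategory MonObj AlgebraicGeometry Opposite
open scoped TensorProduct

namespace Groth.Agent.Lib.Helper75.ClassFn

local instance braidedAlgSpecOf' (R : Type u) [CommRing R] : (algSpec (CommRingCat.of R)).Braided :=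
  braidedAlgSpec

open CoactBr

section Ev

variable {R : Type u} [CommRing R] {A : Type u} [CommRing A] [Algebra R A]

/-- the value of the function `f` at the point `x` -/
def ev {T : Over (Spec (CommRingCat.of R))} (x : T ⟶ sp R A) (f : A) : Γ(T.left, ⊤) :=
  x.left.appTop ((Scheme.ΓSpecIso (CommRingCat.of A)).inv f)

theorem ev_comp {T T' : Over (Spec (CommRingCat.of R))} (u : T' ⟶ T) (x : T ⟶ sp R A) (f : A) :
    ev (u ≫ x) f = u.left.appTop (ev x f) := rfl

theorem ev_pt {K : Type u} [CommRing K] [Algebra R K] (φ : A →ₐ[R] K) (f : A) :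
    ev (pt φ) f = (Scheme.ΓSpecIso (CommRingCat.of K)).inv (φ f) := by
  have h := Scheme.ΓSpecIso_inv_naturality (CommRingCat.ofHom φ.toRingHom)
  have h2 := congrArg (fun g => g f) (congrArg (fun g => (CommRingCat.Hom.hom g : _ → _)) h)
  exact h2.symm

theorem ev_pt_injective {K : Type u} [CommRing K] [Algebra R K] (φ ψ : A →ₐ[R] K) (f : A)
    (h : ev (pt φ) f = ev (pt ψ) f) : φ f = ψ f := by
  rw [ev_pt, ev_pt] at h
  have h2 := congrArg (fun z => (Scheme.ΓSpecIso (CommRingCat.of K)).hom z) h
  simpa using h2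

end Ev

section Univ

variable {R : Type u} [CommRing R] {A : Type u} [CommRing A] [HopfAlgebra R A]

/-- the universal pair of points -/
def univPair (R A : Type u) [CommRing R] [CommRing A] [HopfAlgebra R A] :
    sp R (A ⊗[R] A) ⟶ sp R A ⊗ sp R A :=
  lift (pt (Algebra.TensorProduct.includeLeft : A →ₐ[R] A ⊗[R] A))
    (pt (Algebra.TensorProduct.includeRight : A →ₐ[R] A ⊗[R] A))

theorem univPair_comp_μ :
    univPair R A ≫ Functor.LaxMonoidal.μ (algSpec (CommRingCat.of R)) (op (.of R A)) (op (.of R A)) =
      𝟙 (sp R (A ⊗[R] A)) := by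
  rw [univPair, lift_pt_pt]
  have : (Algebra.TensorProduct.lift (Algebra.TensorProduct.includeLeft : A →ₐ[R] A ⊗[R] A)
      (Algebra.TensorProduct.includeRight : A →ₐ[R] A ⊗[R] A) fun _ _ => .all _ _) =
      AlgHom.id R (A ⊗[R] A) := by
    apply Algebra.TensorProduct.ext'
    intro a b
    simp
  rw [this, pt_id]

instance isIso_univPair : IsIso (univPair R A) := by
  obtain ⟨μ', hμ', h⟩ : ∃ μ' : sp R A ⊗ sp R A ⟶ sp R (A ⊗[R] A), IsIso μ' ∧ univPair R A ≫ μ' = 𝟙 _ :=
    ⟨Functor.LaxMonoidal.μ (algSpec (CommRingCat.of R)) (op (.of R A)) (op (.of R A)),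
      (inferInstance : IsIso (Functor.LaxMonoidal.μ (algSpec (CommRingCat.of R)) (op (.of R A)) (op (.of R A)))),
      univPair_comp_μ⟩
  refine ⟨⟨μ', h, ?_⟩⟩
  rw [← cancel_mono μ', Category.assoc, h, Category.comp_id, Category.id_comp]

theorem univPair_fst : univPair R A ≫ fst _ _ = pt (Algebra.TensorProduct.includeLeft : A →ₐ[R] A ⊗[R] A) :=
  lift_fst _ _

theorem univPair_snd : univPair R A ≫ snd _ _ = pt (Algebra.TensorProduct.includeRight : A →ₐ[R] A ⊗[R] A) :=
  lift_snd _ _

theorem appTop_univPair_injective : Function.Injective ((univPair R A).left.appTop) := by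
  have h1 : inv (univPair R A) ≫ univPair R A = 𝟙 _ := IsIso.inv_hom_id _
  have h2 : (inv (univPair R A)).left ≫ (univPair R A).left = 𝟙 _ := by
    rw [← Over.comp_left, h1]
    rfl
  have h3 : (univPair R A).left.appTop ≫ (inv (univPair R A)).left.appTop = 𝟙 _ := by
    rw [← Scheme.Hom.comp_appTop, h2]
    rfl
  intro a b hab
  have := congrArg (fun z => (inv (univPair R A)).left.appTop z) hab
  have h4 : ∀ z, (inv (univPair R A)).left.appTop ((univPair R A).left.appTop z) = z := by
    intro z
    have := congrArg (fun g => (CommRingCat.Hom.hom g : _ → _) z) h3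
    exact this
  simpa [h4] using this

end Univ

section Main

variable {R : Type u} [CommRing R] {A : Type u} [CommRing A] [HopfAlgebra R A]

theorem pt_inl_mul_pt_inr :
    pt (Algebra.TensorProduct.includeLeft : A →ₐ[R] A ⊗[R] A) *
      pt (Algebra.TensorProduct.includeRight : A →ₐ[R] A ⊗[R] A) =
      pt (Bialgebra.comulAlgHom R A) := by
  rw [pt_mul_pt]
  congr 1
  apply AlgHom.ext
  intro a
  rw [AlgHom.comp_apply]
  generalize (Bialgebra.comulAlgHom R A) a = t
  induction t using TensorProduct.induction_on with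
  | zero => simp
  | tmul x y => simp
  | add x y hx hy => rw [map_add, hx, hy]

/-- the flip of `A ⊗ A` as an algebra map -/
def flipHom (R A : Type u) [CommRing R] [CommRing A] [Algebra R A] : A ⊗[R] A →ₐ[R] A ⊗[R] A :=
  Algebra.TensorProduct.lift (Algebra.TensorProduct.includeRight : A →ₐ[R] A ⊗[R] A)
    (Algebra.TensorProduct.includeLeft : A →ₐ[R] A ⊗[R] A) fun _ _ => .all _ _

theorem flipHom_apply (t : A ⊗[R] A) : flipHom R A t = TensorProduct.comm R A A t := by
  induction t using TensorProduct.induction_on with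
  | zero => simp
  | tmul x y => simp [flipHom, mul_comm]
  | add x y hx hy => rw [map_add, map_add, hx, hy]

theorem pt_inr_mul_pt_inl :
    pt (Algebra.TensorProduct.includeRight : A →ₐ[R] A ⊗[R] A) *
      pt (Algebra.TensorProduct.includeLeft : A →ₐ[R] A ⊗[R] A) =
      pt ((flipHom R A).comp (Bialgebra.comulAlgHom R A)) := by
  rw [pt_mul_pt]
  rfl

/-- the universal case -/
theorem ev_fst_mul_snd_iff (f : A) :
    ev (fst (sp R A) (sp R A) * snd (sp R A) (sp R A)) f = ev (snd (sp R A) (sp R A) * fst (sp R A) (sp R A)) f ↔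
      CoalgebraStruct.comul (R := R) f = TensorProduct.comm R A A (CoalgebraStruct.comul (R := R) f) := by
  have h1 : univPair R A ≫ (fst (sp R A) (sp R A) * snd (sp R A) (sp R A)) =
      pt (Bialgebra.comulAlgHom R A) := by
    rw [MonObj.comp_mul, univPair_fst, univPair_snd, pt_inl_mul_pt_inr]
  have h2 : univPair R A ≫ (snd (sp R A) (sp R A) * fst (sp R A) (sp R A)) =
      pt ((flipHom R A).comp (Bialgebra.comulAlgHom R A)) := by
    rw [MonObj.comp_mul, univPair_fst, univPair_snd, pt_inr_mul_pt_inl]
  constructor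
  · intro h
    have h3 := congrArg (fun z => (univPair R A).left.appTop z) h
    simp only [← ev_comp] at h3
    rw [h1, h2] at h3
    have h4 := ev_pt_injective _ _ f h3
    rw [AlgHom.comp_apply, flipHom_apply] at h4
    exact h4
  · intro h
    apply appTop_univPair_injective
    rw [← ev_comp, ← ev_comp, h1, h2, ev_pt, ev_pt, AlgHom.comp_apply, flipHom_apply]
    exact congrArg _ h

/-- `f(y z) = f(z y)` for all points iff `Δ f` is symmetric -/
theorem forall_ev_mul_comm_iff (f : A) :
    (∀ (T : Over (Spec (CommRingCat.of R))) (y z : T ⟶ sp R A), ev (y * z) f = ev (z * y) f) ↔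
      CoalgebraStruct.comul (R := R) f = TensorProduct.comm R A A (CoalgebraStruct.comul (R := R) f) := by
  constructor
  · intro h
    exact (ev_fst_mul_snd_iff f).1 (h _ _ _)
  · intro h T y z
    have h1 := (ev_fst_mul_snd_iff f).2 h
    have hy : lift y z ≫ fst (sp R A) (sp R A) = y := lift_fst _ _
    have hz : lift y z ≫ snd (sp R A) (sp R A) = z := lift_snd _ _
    have e1 : y * z = lift y z ≫ (fst (sp R A) (sp R A) * snd (sp R A) (sp R A)) := by
      rw [MonObj.comp_mul, hy, hz]
    have e2 : z * y = lift y z ≫ (snd (sp R A) (sp R A) * fst (sp R A) (sp R A)) := by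
      rw [MonObj.comp_mul, hy, hz]
    rw [e1, e2, ev_comp, ev_comp, h1]

/-- class functions are the elements with symmetric comultiplication -/
theorem forall_ev_conj_iff (f : A) :
    (∀ (T : Over (Spec (CommRingCat.of R))) (x g : T ⟶ sp R A), ev (x * g * x⁻¹) f = ev g f) ↔
      CoalgebraStruct.comul (R := R) f = TensorProduct.comm R A A (CoalgebraStruct.comul (R := R) f) := by
  rw [← forall_ev_mul_comm_iff]
  constructor
  · intro h T y z
    have := h T y (z * y)
    rw [show y * (z * y) * y⁻¹ = y * z by group] at this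
    exact this
  · intro h T x g
    have := h T (x * g) x⁻¹
    rw [show x⁻¹ * (x * g) = g by group] at this
    exact this

end Main

end Groth.Agent.Lib.Helper75.ClassFn
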