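import Groth.Agent.Lib.Helper75.ComodExtTensor
import Groth.Agent.Lib.Helper75.ComodCosemisimple
import Groth.Agent.Lib.Helper75.ComodDecomp
import Groth.Agent.Lib.Helper84.MatCoeff

/-!
# Characters of comodules and cocommutative elements (helper75)
-/

set_option autoImplicit false
set_option linter.style.haveILetI false
set_option linter.unusedSectionVars false
universe u v w w'

open TensorProduct

namespace Groth.Agent.Lib.Helper75.ClassFn

open Groth.Agent.Lib.Helper75 Groth.Agent.Lib.Helper84

section Transport

variable {K : Type u} [CommRing K] {A : Type v} [AddCommGroup A] [Module K A] [Coalgebra K A]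
variable {V : Type w} [AddCommGroup V] [Module K V] [HopfRep.Comod K A V]
variable {W : Type w'} [AddCommGroup W] [Module K W]

/-- transport of a comodule structure along a linear equivalence -/
@[reducible] noncomputable def comodOfEquiv (e : V ≃ₗ[K] W) : HopfRep.Comod K A W where
  coact := (e.toLinearMap.rTensor A) ∘ₗ (HopfRep.Comod.coact (k := K) (A := A) (V := V)) ∘ₗ e.symm.toLinearMap
  coassoc := by
    apply LinearMap.ext
    intro w
    have h := LinearMap.congr_fun (HopfRep.Comod.coassoc (k := K) (A := A) (V := V)) (e.symm w)
    simp only [LinearMap.coe_comp, Function.comp_apply, LinearEquiv.coe_coe] at h ⊢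
    generalize HopfRep.Comod.coact (k := K) (A := A) (V := V) (e.symm w) = t at h ⊢
    have h1 : ∀ t : V ⊗[K] A, (TensorProduct.assoc K W A A)
        (LinearMap.rTensor A ((e.toLinearMap.rTensor A) ∘ₗ
          (HopfRep.Comod.coact (k := K) (A := A) (V := V)) ∘ₗ e.symm.toLinearMap)
          (e.toLinearMap.rTensor A t)) =
        (e.toLinearMap.rTensor (A ⊗[K] A)) ((TensorProduct.assoc K V A A)
          (LinearMap.rTensor A (HopfRep.Comod.coact (k := K) (A := A) (V := V)) t)) := by
      intro t
      induction t using TensorProduct.induction_on with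
      | zero => simp
      | tmul v a =>
        simp only [LinearMap.rTensor_tmul, LinearMap.coe_comp, Function.comp_apply, LinearEquiv.coe_coe,
          LinearEquiv.symm_apply_apply]
        generalize HopfRep.Comod.coact (k := K) (A := A) (V := V) v = s
        induction s using TensorProduct.induction_on with
        | zero => simp
        | tmul v' a' => simp
        | add x y hx hy => simp only [map_add, TensorProduct.add_tmul, hx, hy]
      | add x y hx hy => simp only [map_add, hx, hy]
    rw [h1, h]
    generalize t = t
    induction t using TensorProduct.induction_on with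
    | zero => simp
    | tmul v a => simp
    | add x y hx hy => simp only [map_add, hx, hy]
  counit_comp := by
    apply LinearMap.ext
    intro w
    have h := LinearMap.congr_fun (HopfRep.Comod.counit_comp (k := K) (A := A) (V := V)) (e.symm w)
    simp only [LinearMap.coe_comp, Function.comp_apply, LinearEquiv.coe_coe, LinearMap.flip_apply,
      TensorProduct.mk_apply] at h ⊢
    generalize HopfRep.Comod.coact (k := K) (A := A) (V := V) (e.symm w) = t at h ⊢
    have h1 : ∀ t : V ⊗[K] A, (LinearMap.lTensor W (CoalgebraStruct.counit (R := K) (A := A)))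
        (e.toLinearMap.rTensor A t) =
        (e.toLinearMap.rTensor K) ((LinearMap.lTensor V (CoalgebraStruct.counit (R := K) (A := A))) t) := by
      intro t
      induction t using TensorProduct.induction_on with
      | zero => simp
      | tmul v a => simp
      | add x y hx hy => simp only [map_add, hx, hy]
    rw [h1, h]
    simp

end Transport

section Chr

variable {K : Type u} [Field K] {A : Type v} [CommRing A] [HopfAlgebra K A]
variable {V : Type w} [AddCommGroup V] [Module K V] [HopfRep.Comod K A V] {n : ℕ}

/-- the character of a comodule in a basis -/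
noncomputable def chrB (b : Module.Basis (Fin n) K V) : A := ∑ i, coeffMatrix (A := A) b i i

theorem comul_chrB (b : Module.Basis (Fin n) K V) :
    CoalgebraStruct.comul (R := K) (chrB (A := A) b) =
      ∑ i, ∑ l, coeffMatrix (A := A) b i l ⊗ₜ[K] coeffMatrix (A := A) b l i := by
  rw [chrB, map_sum]
  exact Finset.sum_congr rfl fun i _ => (isCorepMatrix_coeffMatrix (A := A) b).comul i i

theorem comm_comul_chrB (b : Module.Basis (Fin n) K V) :
    TensorProduct.comm K A A (CoalgebraStruct.comul (R := K) (chrB (A := A) b)) =
      CoalgebraStruct.comul (R := K) (chrB (A := A) b) := by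
  rw [comul_chrB, map_sum]
  simp only [map_sum, TensorProduct.comm_tmul]
  exact Finset.sum_comm

theorem counit_chrB (b : Module.Basis (Fin n) K V) :
    CoalgebraStruct.counit (R := K) (chrB (A := A) b) = (n : K) := by
  rw [chrB, map_sum]
  simp [(isCorepMatrix_coeffMatrix (A := A) b).counit]

/-- the character of a comodule structure on `Fin d → K`, as spelled in the statement -/
noncomputable def chr (d : ℕ) (c : HopfRep.Comod K A (Fin d → K)) : A :=
  ∑ i : Fin d, TensorProduct.lid K A (LinearMap.rTensor A (LinearMap.proj i)
    (@HopfRep.Comod.coact K A _ _ _ _ (Fin d → K) _ _ c (Pi.single i 1)))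

theorem chr_eq_chrB (d : ℕ) (c : HopfRep.Comod K A (Fin d → K)) :
    chr d c = @chrB K _ A _ _ (Fin d → K) _ _ c d (Pi.basisFun K (Fin d)) := by
  letI := c
  rw [chr, chrB]
  refine Finset.sum_congr rfl fun i _ => ?_
  have h1 : (Pi.basisFun K (Fin d)).coord i = LinearMap.proj i := by
    apply LinearMap.ext
    intro v
    simp [Module.Basis.coord_apply]
  show _ = cf (A := A) ((Pi.basisFun K (Fin d)).coord i) ((Pi.basisFun K (Fin d)) i)
  rw [h1, Pi.basisFun_apply]
  rfl

theorem chr_comodOfEquiv (b : Module.Basis (Fin n) K V) :
    chr n (comodOfEquiv (A := A) b.equivFun) = chrB (A := A) b := by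
  rw [chr, chrB]
  refine Finset.sum_congr rfl fun i _ => ?_
  show TensorProduct.lid K A (LinearMap.rTensor A (LinearMap.proj i)
    ((b.equivFun.toLinearMap.rTensor A) (HopfRep.Comod.coact (k := K) (A := A) (V := V)
      (b.equivFun.symm (Pi.single i 1))))) = cf (A := A) (b.coord i) (b i)
  have h1 : b.equivFun.symm (Pi.single i 1) = b i := by
    simp
  rw [h1, cf_apply, contractL]
  generalize HopfRep.Comod.coact (k := K) (A := A) (V := V) (b i) = t
  change _ = (TensorProduct.lid K A) ((b.coord i).rTensor A t)
  induction t using TensorProduct.induction_on with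
  | zero => simp
  | tmul v a => simp [Module.Basis.coord_apply]
  | add x y hx hy => simp only [map_add, hx, hy]

end Chr

section Burnside

variable {K : Type u} [Field K] [IsAlgClosed K] {A : Type v} [CommRing A] [HopfAlgebra K A]
variable {V : Type w} [AddCommGroup V] [Module K V] [HopfRep.Comod K A V] {n : ℕ}

/-- Schur's lemma for comodules over an algebraically closed field -/
theorem schur [FiniteDimensional K V] (hV : HopfRep.IsSimpleComod K A V) (α : V →ₗ[K] V)
    (hα : Hoch.IsComodHom A α) : ∃ a : K, α = a • LinearMap.id := by
  haveI : Nontrivial V := hV.1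
  obtain ⟨a, ha⟩ := Module.End.exists_eigenvalue α
  refine ⟨a, ?_⟩
  have hsub : HopfRep.IsSubcomod (k := K) (A := A) (Module.End.eigenspace α a) := by
    rw [isSubcomod_iff]
    intro f w hw
    rw [Module.End.mem_eigenspace_iff] at hw ⊢
    rw [(isComodHom_iff α).1 hα f w, hw, map_smul]
  rcases hV.2 _ hsub with h | h
  · exact absurd h ha
  · apply LinearMap.ext
    intro v
    have hv : v ∈ Module.End.eigenspace α a := by rw [h]; trivial
    rw [Module.End.mem_eigenspace_iff] at hv
    rw [hv]
    rfl

theorem act_basis (b : Module.Basis (Fin n) K V) (φ : A →ₗ[K] K) (j : Fin n) :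
    act φ (b j) = ∑ i, φ (coeffMatrix (A := A) b i j) • b i := by
  rw [act_apply, coact_basis, map_sum]
  refine Finset.sum_congr rfl fun i _ => ?_
  rw [contractR_tmul]

/-- Burnside: the matrix coefficients of a simple comodule take arbitrary values under functionals -/
theorem exists_functional [FiniteDimensional K V] (hV : HopfRep.IsSimpleComod K A V)
    (b : Module.Basis (Fin n) K V) (N : Matrix (Fin n) (Fin n) K) :
    ∃ φ : A →ₗ[K] K, ∀ i j, φ (coeffMatrix (A := A) b i j) = N i j := by
  classical
  obtain ⟨φ, hφ⟩ := exists_act_eq_on_finset hV (fun α hα => schur hV α hα) (Matrix.toLin b b N)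
    (Finset.univ.image b)
  refine ⟨φ, fun i j => ?_⟩
  have h1 := hφ (b j) (Finset.mem_image_of_mem _ (Finset.mem_univ j))
  rw [Matrix.toLin_self, act_basis] at h1
  have h2 := congrArg (fun v => b.repr v i) h1
  simp only [map_sum, map_smul, Module.Basis.repr_self, Finsupp.coe_finsetSum, Finsupp.coe_smul,
    Finset.sum_apply, Pi.smul_apply, Finsupp.single_apply, smul_eq_mul, mul_ite, mul_one, mul_zero,
    Finset.sum_ite_eq', Finset.mem_univ, if_true] at h2
  exact h2.symm

end Burnside

section Cocomm

variable {K : Type u} [Field K] {A : Type v} [CommRing A] [HopfAlgebra K A] {n : ℕ}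

/-- a cocommutative linear combination of the entries of a corepresentation matrix whose entries take
arbitrary values under functionals is a multiple of the trace -/
theorem exists_smul_trace_of_comm (M : Matrix (Fin n) (Fin n) A) (hM : IsCorepMatrix K M)
    (hB : ∀ N : Matrix (Fin n) (Fin n) K, ∃ φ : A →ₗ[K] K, ∀ i j, φ (M i j) = N i j)
    (m : Fin n → Fin n → K)
    (hf : CoalgebraStruct.comul (R := K) (∑ i, ∑ j, m i j • M i j) =
      TensorProduct.comm K A A (CoalgebraStruct.comul (R := K) (∑ i, ∑ j, m i j • M i j))) :
    ∃ c : K, ∑ i, ∑ j, m i j • M i j = c • ∑ i, M i i := by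
  classical
  -- the functional `L X = Σ m i j X i j` kills commutators
  have hL : ∀ P Q : Matrix (Fin n) (Fin n) K,
      ∑ i, ∑ j, m i j * (P * Q) i j = ∑ i, ∑ j, m i j * (Q * P) i j := by
    intro P Q
    obtain ⟨φ, hφ⟩ := hB P
    obtain ⟨ψ, hψ⟩ := hB Q
    have h1 := congrArg (tensorFun φ ψ) hf
    simp only [map_sum, map_smul, hM.comul, tensorFun_tmul, TensorProduct.comm_tmul, hφ, hψ,
      smul_eq_mul] at h1
    simp only [Matrix.mul_apply]
    rw [h1]
    refine Finset.sum_congr rfl fun i _ => Finset.sum_congr rfl fun j _ => ?_
    congr 1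
    exact Finset.sum_congr rfl fun l _ => mul_comm _ _
  have hsingle : ∀ (a d : Fin n), ∑ i, ∑ j, m i j * (Matrix.single a d (1 : K)) i j = m a d := by
    intro a d
    rw [Finset.sum_eq_single a, Finset.sum_eq_single d]
    · simp
    · intro j _ hj
      simp [Matrix.single_apply, hj.symm]
    · simp
    · intro i _ hi
      apply Finset.sum_eq_zero
      intro j _
      simp [Matrix.single_apply, hi.symm]
    · simp
  have hoff : ∀ a d : Fin n, a ≠ d → m a d = 0 := by
    intro a d had
    have h := hL (Matrix.single a a (1 : K)) (Matrix.single a d (1 : K))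
    rw [Matrix.single_mul_single_same, Matrix.single_mul_single_of_ne _ _ _ _ (Ne.symm had), mul_one,
      hsingle] at h
    simpa using h
  have hdiag : ∀ a b : Fin n, m a a = m b b := by
    intro a b
    have h := hL (Matrix.single a b (1 : K)) (Matrix.single b a (1 : K))
    rw [Matrix.single_mul_single_same, Matrix.single_mul_single_same, mul_one, hsingle, hsingle] at h
    exact h
  have hsum : ∑ i, ∑ j, m i j • M i j = ∑ i, m i i • M i i := by
    refine Finset.sum_congr rfl fun i _ => ?_
    rw [Finset.sum_eq_single i]
    · intro j _ hj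
      rw [hoff i j (Ne.symm hj), zero_smul]
    · simp
  by_cases hn : Nonempty (Fin n)
  · obtain ⟨i0⟩ := hn
    refine ⟨m i0 i0, ?_⟩
    rw [hsum, Finset.smul_sum]
    exact Finset.sum_congr rfl fun i _ => by rw [hdiag i i0]
  · haveI : IsEmpty (Fin n) := not_nonempty_iff.1 hn
    exact ⟨0, by simp⟩

end Cocomm

end Groth.Agent.Lib.Helper75.ClassFn
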