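import Groth.Agent.Lib.Helper75.ComodCosemisimple

set_option autoImplicit false
universe u v w w'

open TensorProduct

namespace Groth.Agent.Lib.Helper75

section Cocomm

variable {K : Type u} [Field K] {A : Type v} [AddCommGroup A] [Module K A] [Coalgebra K A]
variable {V : Type w} [AddCommGroup V] [Module K V] [HopfRep.Comod K A V]

attribute [local instance] comodModule

theorem dualAlg_mul_comm [Coalgebra.IsCocomm K A] (f g : DualAlg K A) : f * g = g * f := by
  let _ : CommSemiring (DualAlg K A) := LinearMap.convCommSemiring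
  exact mul_comm f g

theorem smul_smul_comm [Coalgebra.IsCocomm K A] (f g : DualAlg K A) (v : V) :
    f • g • v = g • f • v := by
  rw [← mul_smul, ← mul_smul, dualAlg_mul_comm]

/-- a simple submodule over the dual algebra is finite-dimensional -/
theorem finite_of_isSimpleModule (S : Submodule (DualAlg K A) V) [IsSimpleModule (DualAlg K A) S] :
    Module.Finite K (S.restrictScalars K) := by
  have hnt : Nontrivial S := IsSimpleModule.nontrivial (DualAlg K A) S
  obtain ⟨⟨s, hs⟩, hs0⟩ := exists_ne (0 : S)
  have hs0' : s ≠ 0 := fun h => hs0 (Subtype.ext h)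
  -- the orbit of `s` is a nonzero submodule of `S`
  have hle : toDualSubmodule (orbit K A s) (isSubcomod_orbit s) ≤ S := by
    intro x hx
    obtain ⟨f, rfl⟩ := (mem_orbit_iff s x).1 hx
    exact S.smul_mem (WithConv.toConv f) hs
  have hatom : IsAtom S := isSimpleModule_iff_isAtom.mp inferInstance
  rcases hatom.le_iff.mp hle with h | h
  · exfalso
    have : s ∈ toDualSubmodule (orbit K A s) (isSubcomod_orbit s) := self_mem_orbit s
    rw [h, Submodule.mem_bot] at this
    exact hs0' this
  · have h1 : S.restrictScalars K = orbit K A s := by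
      rw [← h, toDualSubmodule_restrictScalars]
    rw [h1]
    exact finite_orbit s

/-- over an algebraically closed field, the dual algebra of a cocommutative coalgebra acts by scalars
on every simple submodule -/
theorem exists_scalar_of_isSimpleModule [IsAlgClosed K] [Coalgebra.IsCocomm K A]
    (S : Submodule (DualAlg K A) V) [IsSimpleModule (DualAlg K A) S] (f : DualAlg K A) :
    ∃ c : K, ∀ s ∈ S, f • s = c • s := by
  have hfin : Module.Finite K (S.restrictScalars K) := finite_of_isSimpleModule S
  have hnt : Nontrivial S := IsSimpleModule.nontrivial (DualAlg K A) S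
  have hnt' : Nontrivial (S.restrictScalars K) := by
    obtain ⟨x, y, hxy⟩ := hnt
    exact ⟨⟨⟨x.1, x.2⟩, ⟨y.1, y.2⟩, fun h => hxy (Subtype.ext (congrArg Subtype.val h))⟩⟩
  let T : S.restrictScalars K →ₗ[K] S.restrictScalars K :=
    { toFun := fun s => ⟨f • (s : V), S.smul_mem f s.2⟩
      map_add' := fun a b => Subtype.ext (smul_add f (a : V) (b : V))
      map_smul' := fun c a => Subtype.ext (smul_comm f c (a : V)) }
  obtain ⟨c, hc⟩ := Module.End.exists_eigenvalue T
  obtain ⟨s₀, hs₀⟩ := hc.exists_hasEigenvector
  refine ⟨c, ?_⟩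
  let E : Submodule (DualAlg K A) V :=
    { carrier := {v | v ∈ S ∧ f • v = c • v}
      add_mem' := fun {a b} ha hb => ⟨S.add_mem ha.1 hb.1, by rw [smul_add, smul_add, ha.2, hb.2]⟩
      zero_mem' := ⟨S.zero_mem, by rw [smul_zero, smul_zero]⟩
      smul_mem' := fun g v hv => ⟨S.smul_mem g hv.1, by
        rw [smul_smul_comm, hv.2, smul_comm]⟩ }
  have hle : E ≤ S := fun v hv => hv.1
  have hatom : IsAtom S := isSimpleModule_iff_isAtom.mp inferInstance
  rcases hatom.le_iff.mp hle with h | h
  · exfalso
    have hmem : (s₀ : V) ∈ E := ⟨s₀.2, by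
      have := congrArg Subtype.val (Module.End.HasEigenvector.apply_eq_smul hs₀)
      exact this⟩
    rw [h, Submodule.mem_bot] at hmem
    exact hs₀.2 (Subtype.ext hmem)
  · intro s hs
    have : s ∈ E := by rw [h]; exact hs
    exact this.2

/-- over an algebraically closed field, a simple subcomodule of a comodule over a cocommutative
coalgebra is an eigenspace for a group-like element -/
theorem exists_groupLike_of_isSimpleModule [IsAlgClosed K] [Coalgebra.IsCocomm K A]
    (S : Submodule (DualAlg K A) V) [IsSimpleModule (DualAlg K A) S] :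
    ∃ g : A, IsGroupLikeElem K g ∧ ∀ s ∈ S, coactMap K A V s = s ⊗ₜ[K] g := by
  have hnt : Nontrivial S := IsSimpleModule.nontrivial (DualAlg K A) S
  obtain ⟨⟨s₀, hs₀S⟩, hs0⟩ := exists_ne (0 : S)
  have hs₀ : s₀ ≠ 0 := fun h => hs0 (Subtype.ext h)
  obtain ⟨φ₀, hφ₀⟩ : ∃ φ : V →ₗ[K] K, φ s₀ ≠ 0 := by
    by_contra hcon
    push Not at hcon
    exact hs₀ ((Module.forall_dual_apply_eq_zero_iff K s₀).1 hcon)
  let φ : V →ₗ[K] K := (φ₀ s₀)⁻¹ • φ₀
  have hφ : φ s₀ = 1 := by
    simp only [φ, LinearMap.smul_apply, smul_eq_mul]
    exact inv_mul_cancel₀ hφ₀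
  let g : A := cf (A := A) φ s₀
  have hscalar : ∀ f : A →ₗ[K] K, ∀ s ∈ S, act f s = f g • s := by
    intro f s hs
    obtain ⟨c, hc⟩ := exists_scalar_of_isSimpleModule S (WithConv.toConv f)
    have h1 : act f s₀ = c • s₀ := hc s₀ hs₀S
    have h2 : f g = c := by
      show f (contractL A φ (coactMap K A V s₀)) = c
      rw [← contract_comm, ← act_apply, h1, map_smul, hφ, smul_eq_mul, mul_one]
    rw [h2]
    exact hc s hs
  have hcoact : ∀ s ∈ S, coactMap K A V s = s ⊗ₜ[K] g := by
    intro s hs
    apply eq_of_contractR_eq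
    intro f
    rw [contractR_tmul, ← act_apply]
    exact hscalar f s hs
  refine ⟨g, ⟨?_, ?_⟩, hcoact⟩
  · have h1 := counit_contract (k := K) (A := A) s₀
    rw [hcoact s₀ hs₀S, contractR_tmul] at h1
    have h2 : (CoalgebraStruct.counit (R := K) g - 1) • s₀ = 0 := by
      rw [sub_smul, h1, one_smul, sub_self]
    rcases smul_eq_zero.1 h2 with h | h
    · exact sub_eq_zero.1 h
    · exact absurd h hs₀
  · have h1 := coassoc_apply' (k := K) (A := A) s₀
    rw [hcoact s₀ hs₀S, LinearMap.lTensor_tmul, LinearMap.rTensor_tmul, hcoact s₀ hs₀S,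
      TensorProduct.assoc_tmul] at h1
    have h2 := congrArg (contractL (A ⊗[K] A) φ) h1
    rw [contractL_tmul, contractL_tmul, hφ, one_smul, one_smul] at h2
    exact h2

end Cocomm

section Diag

variable {K : Type u} [Field K] [IsAlgClosed K] {A : Type v} [CommRing A] [Bialgebra K A]
  [Coalgebra.IsCocomm K A]

attribute [local instance] comodModule

/-- a cocommutative bialgebra over an algebraically closed field whose regular comodule is semisimple
is spanned by its group-like elements -/
theorem isDiagonalizable_of_isSemisimpleModule (hss : IsSemisimpleModule (DualAlg K A) A) :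
    HopfRep.IsDiagonalizable K A := by
  unfold HopfRep.IsDiagonalizable
  rw [eq_top_iff]
  intro a _
  have htop : a ∈ sSup { m : Submodule (DualAlg K A) A | IsSimpleModule (DualAlg K A) m } := by
    rw [IsSemisimpleModule.sSup_simples_eq_top]
    exact Submodule.mem_top
  -- the span of group-likes, as a submodule over the dual algebra, contains every simple submodule
  let P : Submodule K A := Submodule.span K {a : A | IsGroupLikeElem K a}
  have key : ∀ S : Submodule (DualAlg K A) A, IsSimpleModule (DualAlg K A) S →
      ∀ s ∈ S, s ∈ P := by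
    intro S hS s hs
    obtain ⟨g, hg, hcoact⟩ := exists_groupLike_of_isSimpleModule S
    have h1 : CoalgebraStruct.comul (R := K) s = s ⊗ₜ[K] g := hcoact s hs
    have h2 : s = CoalgebraStruct.counit (R := K) s • g := by
      have h3 : contractL A (CoalgebraStruct.counit (R := K) (A := A)) (CoalgebraStruct.comul (R := K) s) = s := by
        simp only [contractL, LinearMap.coe_comp, Function.comp_apply, LinearEquiv.coe_coe]
        rw [Coalgebra.rTensor_counit_comul]
        simp
      rw [h1, contractL_tmul] at h3
      exact h3.symm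
    rw [h2]
    exact P.smul_mem _ (Submodule.subset_span hg)
  -- conclude
  rw [sSup_eq_iSup'] at htop
  refine Submodule.iSup_induction (fun S : { m : Submodule (DualAlg K A) A | IsSimpleModule (DualAlg K A) m } => S.1)
    (motive := fun x => x ∈ P) htop ?_ P.zero_mem (fun x y hx hy => P.add_mem hx hy)
  intro S x hx
  exact key S.1 S.2 x hx

end Diag

end Groth.Agent.Lib.Helper75
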