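import Groth.Agent.Lib.Helper75.ClassFnB
import Groth.Agent.Lib.Helper75.ComodCocomm

/-!
# Cocommutative elements of a cosemisimple Hopf algebra are spanned by characters (helper75)
-/

set_option autoImplicit false
set_option linter.style.haveILetI false
set_option linter.unusedSectionVars false
universe u v w w'

open TensorProduct

namespace Groth.Agent.Lib.Helper75.ClassFn

open Groth.Agent.Lib.Helper75 Groth.Agent.Lib.Helper84

section CoeffSpan

variable {K : Type u} [Field K] {A : Type v} [CommRing A] [HopfAlgebra K A]
variable {V : Type w} [AddCommGroup V] [Module K V] [HopfRep.Comod K A V] {n : ℕ}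

theorem cf_basis (b : Module.Basis (Fin n) K V) (φ : V →ₗ[K] K) (j : Fin n) :
    cf (A := A) φ (b j) = ∑ i, φ (b i) • coeffMatrix (A := A) b i j := by
  rw [cf_apply, coact_basis, map_sum]
  refine Finset.sum_congr rfl fun i _ => ?_
  rw [contractL_tmul]

theorem coeffSpace_top_le_span (b : Module.Basis (Fin n) K V) :
    coeffSpace A (⊤ : Submodule K V) ≤
      Submodule.span K (Set.range fun p : Fin n × Fin n => coeffMatrix (A := A) b p.1 p.2) := by
  apply Submodule.span_le.2
  rintro _ ⟨φ, w, -, rfl⟩
  rw [← b.sum_repr w, map_sum]
  refine Submodule.sum_mem _ fun j _ => ?_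
  rw [map_smul, cf_basis]
  refine Submodule.smul_mem _ _ (Submodule.sum_mem _ fun i _ => Submodule.smul_mem _ _ ?_)
  exact Submodule.subset_span ⟨(i, j), rfl⟩

end CoeffSpan

section Assemble

variable {K : Type u} [Field K] [IsAlgClosed K] {A : Type v} [CommRing A] [HopfAlgebra K A]

/-- the span of all characters of comodule structures on coordinate spaces -/
noncomputable def chrSpan (K : Type u) [Field K] (A : Type v) [CommRing A] [HopfAlgebra K A] : Submodule K A :=
  Submodule.span K (Set.range fun p : (Σ d : ℕ, HopfRep.Comod K A (Fin d → K)) => chr p.1 p.2)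

variable {V : Type w} [AddCommGroup V] [Module K V] [HopfRep.Comod K A V]

/-- a cocommutative element of the coefficient space of a simple finite-dimensional comodule is a
multiple of its character -/
theorem mem_chrSpan_of_mem_coeffSpace_top [FiniteDimensional K V] (hV : HopfRep.IsSimpleComod K A V)
    (g : A) (hg : g ∈ coeffSpace A (⊤ : Submodule K V))
    (hcomm : CoalgebraStruct.comul (R := K) g = TensorProduct.comm K A A (CoalgebraStruct.comul (R := K) g)) :
    g ∈ chrSpan K A := by
  classical
  let b := Module.finBasis K V
  have h1 := coeffSpace_top_le_span (A := A) b hg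
  obtain ⟨c, hc⟩ := (Submodule.mem_span_range_iff_exists_fun K).1 h1
  have h2 : g = ∑ i, ∑ j, c (i, j) • coeffMatrix (A := A) b i j := by
    rw [← hc, Fintype.sum_prod_type]
  rw [h2] at hcomm
  obtain ⟨a, ha⟩ := exists_smul_trace_of_comm (coeffMatrix (A := A) b) (isCorepMatrix_coeffMatrix b)
    (fun N => exists_functional hV b N) (fun i j => c (i, j)) hcomm
  rw [h2, ha]
  refine Submodule.smul_mem _ _ (Submodule.subset_span ?_)
  exact ⟨⟨_, comodOfEquiv (A := A) b.equivFun⟩, chr_comodOfEquiv b⟩

end Assemble

section Main

variable {K : Type u} [Field K] [IsAlgClosed K] {A : Type v} [CommRing A] [HopfAlgebra K A]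

attribute [local instance] comodModule

theorem comm_rTensor (p : A →ₗ[K] A) (t : A ⊗[K] A) :
    TensorProduct.comm K A A (p.rTensor A t) = p.lTensor A (TensorProduct.comm K A A t) := by
  induction t using TensorProduct.induction_on with
  | zero => simp
  | tmul x y => simp
  | add x y hx hy => simp only [map_add, hx, hy]

/-- a cocommutative element of a simple subcoalgebra is in the span of the characters -/
theorem mem_chrSpan_of_mem_simple_subcoalg (D : Submodule K A) (hD0 : D ≠ ⊥) (hD : IsSubcoalg D)
    (hDs : ∀ B : Submodule K A, B ≤ D → IsSubcoalg B → B = ⊥ ∨ B = D)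
    (g : A) (hg : g ∈ D)
    (hcomm : CoalgebraStruct.comul (R := K) g = TensorProduct.comm K A A (CoalgebraStruct.comul (R := K) g)) :
    g ∈ chrSpan K A := by
  have hDR0 : toDualSubmodule D hD.isSubcomod ≠ ⊥ := by
    intro h
    apply hD0
    rw [← toDualSubmodule_restrictScalars D hD.isSubcomod, h, Submodule.restrictScalars_bot]
  obtain ⟨N, hND, hNs⟩ := exists_simple_le (toDualSubmodule D hD.isSubcomod) hDR0
  have hN' : HopfRep.IsSubcomod (k := K) (A := A) (N.restrictScalars K) := isSubcomod_restrictScalars N
  have hfin : Module.Finite K (N.restrictScalars K) := finite_of_isSimpleModule N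
  have hNle : N.restrictScalars K ≤ D := fun x hx => hND hx
  have hcs : coeffSpace A (N.restrictScalars K) = D := by
    have hle : coeffSpace A (N.restrictScalars K) ≤ D :=
      (coeffSpace_mono hNle).trans hD.coeffSpace_le
    rcases hDs _ hle (isSubcoalg_coeffSpace _ hN') with h | h
    · exfalso
      have hnt : Nontrivial N := IsSimpleModule.nontrivial (DualAlg K A) N
      obtain ⟨⟨x, hx⟩, hx0⟩ := exists_ne (0 : N)
      have : x ∈ coeffSpace A (N.restrictScalars K) := le_coeffSpace_regular _ hx
      rw [h, Submodule.mem_bot] at this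
      exact hx0 (Subtype.ext this)
    · exact h
  letI := restrComod (N.restrictScalars K) hN'
  have hsimple : HopfRep.IsSimpleComod K A (N.restrictScalars K) := by
    apply isSimpleComod_restr
    rw [toDualSubmodule_restrictScalars']
    exact hNs
  have hg' : g ∈ coeffSpace A (⊤ : Submodule K (N.restrictScalars K)) := by
    rw [coeffSpace_restr_top, hcs]
    exact hg
  exact mem_chrSpan_of_mem_coeffSpace_top hsimple g hg' hcomm

/-- in a cosemisimple commutative Hopf algebra over an algebraically closed field every cocommutative
element is a linear combination of characters -/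
theorem mem_chrSpan_of_comm (hss : IsSemisimpleModule (DualAlg K A) A) (f : A)
    (hf : CoalgebraStruct.comul (R := K) f = TensorProduct.comm K A A (CoalgebraStruct.comul (R := K) f)) :
    f ∈ chrSpan K A := by
  classical
  obtain ⟨ι, D, hind, htop, hD⟩ := exists_simple_subcoalg_decomp hss
  have hint : DirectSum.IsInternal D :=
    DirectSum.isInternal_submodule_of_iSupIndep_of_iSup_eq_top hind htop
  letI : DirectSum.Decomposition D := hint.chooseDecomposition
  have hDsub : ∀ i, ∀ d ∈ D i, CoalgebraStruct.comul (R := K) d ∈
      LinearMap.range (TensorProduct.map (D i).subtype (D i).subtype) := fun i => (hD i).2.1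
  obtain ⟨s, hs⟩ := exists_finset_sum_proj D f
  rw [← hs s (Finset.Subset.refl _)]
  refine Submodule.sum_mem _ fun i _ => ?_
  have hmem : proj D i f ∈ D i := (proj' D i f).2
  refine mem_chrSpan_of_mem_simple_subcoalg (D i) (hD i).1 (hD i).2.1 (hD i).2.2 _ hmem ?_
  have h1 := LinearMap.congr_fun (rTensor_proj_comul D hDsub i) f
  have h2 := LinearMap.congr_fun (lTensor_proj_comul D hDsub i) f
  simp only [LinearMap.coe_comp, Function.comp_apply] at h1 h2
  rw [← h1, comm_rTensor, ← hf, h2, h1]

end Main

end Groth.Agent.Lib.Helper75.ClassFn
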