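import Groth.Agent.Lib.Helper75.ClassFnC

/-!
# Linear independence of the characters of pairwise non-isomorphic simple comodules (helper75)
-/

set_option autoImplicit false
set_option linter.style.haveILetI false
set_option linter.unusedSectionVars false
universe u v w w'

open TensorProduct

namespace Groth.Agent.Lib.Helper75.ClassFn

open Groth.Agent.Lib.Helper75 Groth.Agent.Lib.Helper84

section SimpleSub

variable {K : Type u} [Field K] {A : Type v} [AddCommGroup A] [Module K A] [Coalgebra K A]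
variable {ι : Type w} [DecidableEq ι] (D : ι → Submodule K A) [DirectSum.Decomposition D]
variable (hD : ∀ i, ∀ d ∈ D i, CoalgebraStruct.comul (R := K) d ∈
      LinearMap.range (TensorProduct.map (D i).subtype (D i).subtype))

include hD

/-- a minimal subcoalgebra is one of the summands of a decomposition into minimal subcoalgebras -/
theorem exists_eq_of_minimal
    (hDs : ∀ i, ∀ B : Submodule K A, B ≤ D i → IsSubcoalg B → B = ⊥ ∨ B = D i)
    (B : Submodule K A) (hB0 : B ≠ ⊥) (hB : IsSubcoalg B)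
    (hBs : ∀ B' : Submodule K A, B' ≤ B → IsSubcoalg B' → B' = ⊥ ∨ B' = B) :
    ∃ i, B = D i := by
  obtain ⟨x, hxB, hx0⟩ := Submodule.exists_mem_ne_zero_of_ne_bot hB0
  obtain ⟨s, hs⟩ := exists_finset_sum_proj D x
  have hex : ∃ i, proj D i x ≠ 0 := by
    by_contra hall
    push Not at hall
    apply hx0
    rw [← hs s (Finset.Subset.refl _)]
    exact Finset.sum_eq_zero fun i _ => hall i
  obtain ⟨i, hi⟩ := hex
  refine ⟨i, ?_⟩
  have hmemB : proj D i x ∈ B := by
    rw [← hitR_counitProj D hD i]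
    exact ((isSubcoalg_iff B).1 hB).1 _ x hxB
  have hmemD : proj D i x ∈ D i := (proj' D i x).2
  have hDi : IsSubcoalg (D i) := hD i
  have hinf : IsSubcoalg (B ⊓ D i) := by
    rw [isSubcoalg_iff]
    exact ⟨fun f b hb => ⟨((isSubcoalg_iff B).1 hB).1 f b hb.1, ((isSubcoalg_iff (D i)).1 hDi).1 f b hb.2⟩,
      fun f b hb => ⟨((isSubcoalg_iff B).1 hB).2 f b hb.1, ((isSubcoalg_iff (D i)).1 hDi).2 f b hb.2⟩⟩
  have hne : B ⊓ D i ≠ ⊥ := by
    intro h
    have : proj D i x ∈ B ⊓ D i := ⟨hmemB, hmemD⟩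
    rw [h, Submodule.mem_bot] at this
    exact hi this
  have e1 : B ⊓ D i = B := (hBs _ inf_le_left hinf).resolve_left hne
  have e2 : B ⊓ D i = D i := (hDs i _ inf_le_right hinf).resolve_left hne
  rw [← e1, e2]

end SimpleSub

section Iso

variable {K : Type u} [Field K] {A : Type v} [AddCommGroup A] [Module K A] [Coalgebra K A]
variable {V : Type w} [AddCommGroup V] [Module K V] [HopfRep.Comod K A V]
variable {W : Type w'} [AddCommGroup W] [Module K W] [HopfRep.Comod K A W]

attribute [local instance] comodModule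

/-- simple comodules with the same coefficient space are isomorphic -/
theorem exists_equiv_of_coeffSpace_eq (hV : HopfRep.IsSimpleComod K A V) (hW : HopfRep.IsSimpleComod K A W)
    (h : coeffSpace A (⊤ : Submodule K V) = coeffSpace A (⊤ : Submodule K W)) :
    ∃ P : V ≃ₗ[K] W, LinearMap.rTensor A P.toLinearMap ∘ₗ HopfRep.Comod.coact (k := K) (A := A) (V := V) =
      HopfRep.Comod.coact (k := K) (A := A) (V := W) ∘ₗ P.toLinearMap := by
  haveI : IsSimpleModule (DualAlg K A) V := isSimpleComod_iff.1 hV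
  haveI : IsSimpleModule (DualAlg K A) W := isSimpleComod_iff.1 hW
  haveI : Nontrivial W := hW.1
  -- a nonzero coefficient map `W → A`
  have hex : ∃ φ : W →ₗ[K] K, cfR (A := A) φ ≠ 0 := by
    by_contra hall
    push Not at hall
    apply coeffSpace_top_ne_bot (K := K) (A := A) (V := W)
    rw [eq_bot_iff]
    apply Submodule.span_le.2
    rintro _ ⟨φ, w, -, rfl⟩
    have := LinearMap.congr_fun (hall φ) w
    simpa using this
  obtain ⟨φ, hφ⟩ := hex
  have hinj : Function.Injective (cfR (A := A) φ) :=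
    (cfR (A := A) φ).injective_or_eq_zero.resolve_right hφ
  let e2 : W ≃ₗ[DualAlg K A] LinearMap.range (cfR (A := A) φ) := LinearEquiv.ofInjective _ hinj
  haveI : IsSimpleModule (DualAlg K A) (LinearMap.range (cfR (A := A) φ)) := IsSimpleModule.congr e2.symm
  have hle : (LinearMap.range (cfR (A := A) φ)).restrictScalars K ≤ coeffSpace A (⊤ : Submodule K V) := by
    rw [h]
    rintro _ ⟨w, rfl⟩
    exact cf_mem_coeffSpace ⊤ φ Submodule.mem_top
  obtain ⟨e1⟩ := nonempty_linearEquiv_of_le_coeffSpace (V := V) (LinearMap.range (cfR (A := A) φ)) hle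
  let e : V ≃ₗ[DualAlg K A] W := e1.symm.trans e2.symm
  refine ⟨e.restrictScalars K, ?_⟩
  have := isComodHom_restrictScalars (e : V →ₗ[DualAlg K A] W)
  exact this.symm

end Iso

section LinIndep

variable {K : Type u} [Field K] {A : Type v} [CommRing A] [HopfAlgebra K A]

attribute [local instance] comodModule

/-- the coefficient space of a comodule structure on a coordinate space -/
noncomputable def cSp (d : ℕ) (c : HopfRep.Comod K A (Fin d → K)) : Submodule K A :=
  @coeffSpace K _ A _ _ _ (Fin d → K) _ _ c ⊤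

theorem chr_mem_cSp (d : ℕ) (c : HopfRep.Comod K A (Fin d → K)) : chr d c ∈ cSp d c := by
  letI := c
  rw [chr_eq_chrB, chrB]
  refine Submodule.sum_mem _ fun i _ => ?_
  have h : coeffMatrix (A := A) (Pi.basisFun K (Fin d)) i i =
      cf (A := A) ((Pi.basisFun K (Fin d)).coord i) ((Pi.basisFun K (Fin d)) i) := rfl
  rw [h]
  exact cf_mem_coeffSpace (A := A) ⊤ _ Submodule.mem_top

theorem chr_ne_zero [CharZero K] (d : ℕ) (c : HopfRep.Comod K A (Fin d → K))
    (hs : @HopfRep.IsSimpleComod K A _ _ _ _ (Fin d → K) _ _ c) : chr d c ≠ 0 := by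
  letI := c
  intro h
  have h1 : CoalgebraStruct.counit (R := K) (chr d c) = (d : K) := by
    rw [chr_eq_chrB, counit_chrB]
  rw [h, map_zero] at h1
  have hd : d = 0 := by exact_mod_cast h1.symm
  subst hd
  haveI : Nontrivial (Fin 0 → K) := hs.1
  exact not_subsingleton (Fin 0 → K) inferInstance

theorem cSp_ne_bot (d : ℕ) (c : HopfRep.Comod K A (Fin d → K))
    (hs : @HopfRep.IsSimpleComod K A _ _ _ _ (Fin d → K) _ _ c) : cSp d c ≠ ⊥ := by
  letI := c
  haveI : Nontrivial (Fin d → K) := hs.1
  exact coeffSpace_top_ne_bot (K := K) (A := A) (V := Fin d → K)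

theorem isSubcoalg_cSp (d : ℕ) (c : HopfRep.Comod K A (Fin d → K)) : IsSubcoalg (cSp d c) := by
  letI := c
  exact isSubcoalg_coeffSpace ⊤ isSubcomod_top

theorem cSp_minimal (d : ℕ) (c : HopfRep.Comod K A (Fin d → K))
    (hs : @HopfRep.IsSimpleComod K A _ _ _ _ (Fin d → K) _ _ c) (B : Submodule K A) (hB : B ≤ cSp d c)
    (hBs : IsSubcoalg B) : B = ⊥ ∨ B = cSp d c := by
  letI := c
  haveI : IsSimpleModule (DualAlg K A) (Fin d → K) := isSimpleComod_iff.1 hs
  by_cases h0 : B = ⊥
  · exact Or.inl h0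
  · exact Or.inr (eq_coeffSpace_of_isSubcoalg_le (V := Fin d → K) hBs h0 hB)

/-- the characters of pairwise non-isomorphic simple comodules are linearly independent -/
theorem linearIndependent_chr [CharZero K] (hss : IsSemisimpleModule (DualAlg K A) A)
    (n : ℕ) (d : Fin n → ℕ) (c : (i : Fin n) → HopfRep.Comod K A (Fin (d i) → K))
    (hsimple : ∀ i, @HopfRep.IsSimpleComod K A _ _ _ _ (Fin (d i) → K) _ _ (c i))
    (hne : ∀ i j, i ≠ j → ∀ P : (Fin (d i) → K) ≃ₗ[K] (Fin (d j) → K),
      LinearMap.rTensor A P.toLinearMap ∘ₗ @HopfRep.Comod.coact K A _ _ _ _ (Fin (d i) → K) _ _ (c i) ≠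
        (@HopfRep.Comod.coact K A _ _ _ _ (Fin (d j) → K) _ _ (c j)) ∘ₗ P.toLinearMap) :
    LinearIndependent K (fun i : Fin n => chr (d i) (c i)) := by
  classical
  obtain ⟨ι, D, hind, htop, hD⟩ := exists_simple_subcoalg_decomp hss
  have hint : DirectSum.IsInternal D :=
    DirectSum.isInternal_submodule_of_iSupIndep_of_iSup_eq_top hind htop
  letI : DirectSum.Decomposition D := hint.chooseDecomposition
  have hDsub : ∀ i, ∀ x ∈ D i, CoalgebraStruct.comul (R := K) x ∈
      LinearMap.range (TensorProduct.map (D i).subtype (D i).subtype) := fun i => (hD i).2.1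
  have hκ : ∀ i : Fin n, ∃ j, cSp (d i) (c i) = D j := fun i =>
    exists_eq_of_minimal D hDsub (fun j => (hD j).2.2) _ (cSp_ne_bot _ _ (hsimple i)) (isSubcoalg_cSp _ _)
      (cSp_minimal _ _ (hsimple i))
  choose κ hκ' using hκ
  have hinj : Function.Injective κ := by
    intro i j hij
    by_contra hne'
    have heq : cSp (d i) (c i) = cSp (d j) (c j) := by rw [hκ' i, hκ' j, hij]
    obtain ⟨P, hP⟩ := @exists_equiv_of_coeffSpace_eq K _ A _ _ _ (Fin (d i) → K) _ _ (c i)
      (Fin (d j) → K) _ _ (c j) (hsimple i) (hsimple j) heq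
    exact hne i j hne' P hP
  have hind' : iSupIndep (fun i : Fin n => cSp (d i) (c i)) := by
    have := hind.comp hinj
    convert this using 1
    funext i
    exact hκ' i
  exact hind'.linearIndependent _ (fun i => chr_mem_cSp _ _) (fun i => chr_ne_zero _ _ (hsimple i))

end LinIndep

end Groth.Agent.Lib.Helper75.ClassFn
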