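import Groth.Prelude.Def_HopfRep
import Groth.Prelude.Def_Hoch
import Mathlib

/-!
# Basic comodule calculus (helper75)

Contractions of `V ⊗ A` against functionals, the action of the dual on a comodule,
matrix coefficients, and the bridge to modules over the convolution algebra.
-/

set_option autoImplicit false
universe u v w w'

open TensorProduct

namespace Groth.Agent.Lib.Helper75

section General

variable {k : Type u} [CommRing k] {A : Type v} [AddCommGroup A] [Module k A]
variable {V : Type w} [AddCommGroup V] [Module k V]
variable {W : Type w'} [AddCommGroup W] [Module k W]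

/-- contraction of the right factor of `V ⊗ A` against `f : A → k` -/
noncomputable def contractR (V : Type w) [AddCommGroup V] [Module k V] (f : A →ₗ[k] k) : V ⊗[k] A →ₗ[k] V :=
  (TensorProduct.rid k V).toLinearMap ∘ₗ f.lTensor V

@[simp] theorem contractR_tmul (f : A →ₗ[k] k) (v : V) (a : A) :
    contractR V f (v ⊗ₜ[k] a) = f a • v := by
  simp [contractR]

/-- contraction of the left factor of `V ⊗ A` against `φ : V → k` -/
noncomputable def contractL (A : Type v) [AddCommGroup A] [Module k A] (φ : V →ₗ[k] k) : V ⊗[k] A →ₗ[k] A :=
  (TensorProduct.lid k A).toLinearMap ∘ₗ φ.rTensor A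

@[simp] theorem contractL_tmul (φ : V →ₗ[k] k) (v : V) (a : A) :
    contractL A φ (v ⊗ₜ[k] a) = φ v • a := by
  simp [contractL]

theorem contractR_rTensor (f : A →ₗ[k] k) (g : V →ₗ[k] W) (x : V ⊗[k] A) :
    contractR W f (g.rTensor A x) = g (contractR V f x) := by
  induction x using TensorProduct.induction_on with
  | zero => simp
  | tmul v a => simp
  | add x y hx hy => simp [hx, hy]

theorem contractL_rTensor (φ : W →ₗ[k] k) (g : V →ₗ[k] W) (x : V ⊗[k] A) :
    contractL A φ (g.rTensor A x) = contractL A (φ ∘ₗ g) x := by
  induction x using TensorProduct.induction_on with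
  | zero => simp
  | tmul v a => simp
  | add x y hx hy => simp [hx, hy]

theorem contractL_lTensor {B : Type*} [AddCommGroup B] [Module k B] (φ : V →ₗ[k] k) (g : A →ₗ[k] B)
    (x : V ⊗[k] A) :
    contractL B φ (g.lTensor V x) = g (contractL A φ x) := by
  induction x using TensorProduct.induction_on with
  | zero => simp
  | tmul v a => simp
  | add x y hx hy => simp [hx, hy]

theorem contractR_lTensor {B : Type*} [AddCommGroup B] [Module k B] (f : B →ₗ[k] k) (g : A →ₗ[k] B)
    (x : V ⊗[k] A) :
    contractR V f (g.lTensor V x) = contractR V (f ∘ₗ g) x := by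
  induction x using TensorProduct.induction_on with
  | zero => simp
  | tmul v a => simp
  | add x y hx hy => simp [hx, hy]

theorem contractR_map {B : Type*} [AddCommGroup B] [Module k B] (f : B →ₗ[k] k) (g : V →ₗ[k] W)
    (h : A →ₗ[k] B) (x : V ⊗[k] A) :
    contractR W f (TensorProduct.map g h x) = g (contractR V (f ∘ₗ h) x) := by
  induction x using TensorProduct.induction_on with
  | zero => simp
  | tmul v a => simp
  | add x y hx hy => simp [hx, hy]

theorem contractL_map {B : Type*} [AddCommGroup B] [Module k B] (φ : W →ₗ[k] k) (g : V →ₗ[k] W)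
    (h : A →ₗ[k] B) (x : V ⊗[k] A) :
    contractL B φ (TensorProduct.map g h x) = h (contractL A (φ ∘ₗ g) x) := by
  induction x using TensorProduct.induction_on with
  | zero => simp
  | tmul v a => simp
  | add x y hx hy => simp [hx, hy]

/-- contracting the two factors commutes -/
theorem contract_comm (f : A →ₗ[k] k) (φ : V →ₗ[k] k) (x : V ⊗[k] A) :
    φ (contractR V f x) = f (contractL A φ x) := by
  induction x using TensorProduct.induction_on with
  | zero => simp
  | tmul v a => simp [mul_comm]
  | add x y hx hy => simp [hx, hy]

end General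


section Comod

variable {k : Type u} [CommRing k] {A : Type v} [AddCommGroup A] [Module k A] [Coalgebra k A]
variable {V : Type w} [AddCommGroup V] [Module k V] [HopfRep.Comod k A V]
variable {W : Type w'} [AddCommGroup W] [Module k W] [HopfRep.Comod k A W]

variable (k A V) in
/-- the coaction, with everything explicit -/
noncomputable abbrev coactMap : V →ₗ[k] V ⊗[k] A := HopfRep.Comod.coact (k := k) (A := A) (V := V)

/-- `hitR f a = a₁ f(a₂)` -/
noncomputable def hitR (f : A →ₗ[k] k) : A →ₗ[k] A := contractR A f ∘ₗ CoalgebraStruct.comul (R := k)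

/-- `hitL f a = f(a₁) a₂` -/
noncomputable def hitL (f : A →ₗ[k] k) : A →ₗ[k] A := contractL A f ∘ₗ CoalgebraStruct.comul (R := k)

/-- the action of a functional on a comodule: `f ⇀ v = v₀ f(v₁)` -/
noncomputable def act (f : A →ₗ[k] k) : V →ₗ[k] V := contractR V f ∘ₗ coactMap k A V

/-- matrix coefficient: `cf φ v = φ(v₀) v₁` -/
noncomputable def cf (φ : V →ₗ[k] k) : V →ₗ[k] A := contractL A φ ∘ₗ coactMap k A V

theorem act_apply (f : A →ₗ[k] k) (v : V) : act f v = contractR V f (coactMap k A V v) := rfl

theorem cf_apply (φ : V →ₗ[k] k) (v : V) : cf (A := A) φ v = contractL A φ (coactMap k A V v) := rfl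

omit [Coalgebra k A] in
theorem contractR_assoc_symm (f : A →ₗ[k] k) (y : V ⊗[k] (A ⊗[k] A)) :
    contractR (V ⊗[k] A) f ((TensorProduct.assoc k V A A).symm y) = (contractR A f).lTensor V y := by
  induction y using TensorProduct.induction_on with
  | zero => simp
  | tmul v z =>
    induction z using TensorProduct.induction_on with
    | zero => simp
    | tmul a b => simp [TensorProduct.tmul_smul]
    | add x y hx hy => simp only [TensorProduct.tmul_add, map_add, hx, hy]
  | add x y hx hy => simp only [map_add, hx, hy]

omit [Coalgebra k A] in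
theorem contractL_assoc (φ : V →ₗ[k] k) (z : (V ⊗[k] A) ⊗[k] A) :
    contractL (A ⊗[k] A) φ ((TensorProduct.assoc k V A A) z) = (contractL A φ).rTensor A z := by
  induction z using TensorProduct.induction_on with
  | zero => simp
  | tmul y b =>
    induction y using TensorProduct.induction_on with
    | zero => simp
    | tmul v a => simp [TensorProduct.smul_tmul']
    | add x y hx hy => simp only [TensorProduct.add_tmul, map_add, hx, hy]
  | add x y hx hy => simp only [map_add, hx, hy]

theorem coassoc_apply (v : V) :
    (coactMap k A V).rTensor A (coactMap k A V v) =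
      (TensorProduct.assoc k V A A).symm ((CoalgebraStruct.comul (R := k) (A := A)).lTensor V (coactMap k A V v)) := by
  have h := LinearMap.congr_fun (HopfRep.Comod.coassoc (k := k) (A := A) (V := V)) v
  simp only [LinearMap.coe_comp, Function.comp_apply, LinearEquiv.coe_coe] at h
  rw [← h, LinearEquiv.symm_apply_apply]

theorem coassoc_apply' (v : V) :
    (CoalgebraStruct.comul (R := k) (A := A)).lTensor V (coactMap k A V v) =
      (TensorProduct.assoc k V A A) ((coactMap k A V).rTensor A (coactMap k A V v)) := by
  rw [coassoc_apply, LinearEquiv.apply_symm_apply]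

/-- (I1) `ρ (f ⇀ v) = (id ⊗ hitR f) (ρ v)` -/
theorem coact_act (f : A →ₗ[k] k) (v : V) :
    coactMap k A V (act f v) = (hitR f).lTensor V (coactMap k A V v) := by
  rw [act_apply, ← contractR_rTensor, coassoc_apply, contractR_assoc_symm, hitR, LinearMap.lTensor_comp]
  rfl

/-- (I4) `Δ (cf φ v) = (cf φ ⊗ id) (ρ v)`: matrix coefficients are comodule maps to the regular comodule -/
theorem comul_cf (φ : V →ₗ[k] k) (v : V) :
    CoalgebraStruct.comul (R := k) (cf (A := A) φ v) = (cf (A := A) φ).rTensor A (coactMap k A V v) := by
  rw [cf_apply, ← contractL_lTensor, coassoc_apply', contractL_assoc, cf, LinearMap.rTensor_comp]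
  rfl

theorem counit_contract (v : V) :
    contractR V (CoalgebraStruct.counit (R := k) (A := A)) (coactMap k A V v) = v := by
  have h := LinearMap.congr_fun (HopfRep.Comod.counit_comp (k := k) (A := A) (V := V)) v
  simp only [LinearMap.coe_comp, Function.comp_apply, LinearMap.flip_apply, TensorProduct.mk_apply] at h
  simp only [contractR, LinearMap.coe_comp, Function.comp_apply, LinearEquiv.coe_coe]
  rw [h]
  simp

/-- (I3) the counit acts as the identity -/
theorem act_counit (v : V) : act (CoalgebraStruct.counit (R := k) (A := A)) v = v :=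
  counit_contract v

/-- (I5) `ε (cf φ v) = φ v` -/
theorem counit_cf (φ : V →ₗ[k] k) (v : V) :
    CoalgebraStruct.counit (R := k) (cf (A := A) φ v) = φ v := by
  rw [cf_apply, ← contract_comm, counit_contract]

/-- the convolution product of two functionals, as a plain linear map -/
noncomputable def convMul (f g : A →ₗ[k] k) : A →ₗ[k] k :=
  (WithConv.toConv f * WithConv.toConv g).ofConv

theorem comp_hitR (f g : A →ₗ[k] k) : f ∘ₗ hitR g = convMul f g := by
  apply LinearMap.ext
  intro a
  simp only [hitR, convMul, LinearMap.coe_comp, Function.comp_apply, LinearMap.convMul_apply, WithConv.ofConv_toConv]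
  generalize CoalgebraStruct.comul (R := k) a = x
  induction x using TensorProduct.induction_on with
  | zero => simp
  | tmul a b => simp [mul_comm]
  | add x y hx hy => simp only [map_add, hx, hy]

/-- (I2) `f ⇀ (g ⇀ v) = (f * g) ⇀ v` -/
theorem act_act (f g : A →ₗ[k] k) (v : V) : act f (act g v) = act (convMul f g) v := by
  rw [act_apply, coact_act, contractR_lTensor, comp_hitR]
  rfl

theorem act_add (f g : A →ₗ[k] k) (v : V) : act (f + g) v = act f v + act g v := by
  simp only [act_apply, contractR, LinearMap.lTensor_add, LinearMap.comp_add, LinearMap.add_apply]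

theorem act_smul (c : k) (f : A →ₗ[k] k) (v : V) : act (c • f) v = c • act f v := by
  simp only [act_apply, contractR, LinearMap.lTensor_smul, LinearMap.comp_smul, LinearMap.smul_apply]

theorem act_zero (v : V) : act (0 : A →ₗ[k] k) v = 0 := by
  simp only [act_apply, contractR, LinearMap.lTensor_zero, LinearMap.comp_zero, LinearMap.zero_apply]

end Comod

end Groth.Agent.Lib.Helper75
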