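import Groth.Agent.Lib.Helper75.ComodModule

set_option autoImplicit false
universe u v w w'

open TensorProduct

namespace Groth.Agent.Lib.Helper75

section Coeff

variable {K : Type u} [Field K] {A : Type v} [AddCommGroup A] [Module K A] [Coalgebra K A]
variable {V : Type w} [AddCommGroup V] [Module K V] [HopfRep.Comod K A V]
variable {V' : Type w'} [AddCommGroup V'] [Module K V'] [HopfRep.Comod K A V']

variable (A) in
/-- the coefficient space of a subspace `W` of a comodule: the span of all `φ(w₀) w₁` -/
noncomputable def coeffSpace (W : Submodule K V) : Submodule K A :=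
  Submodule.span K {a | ∃ (φ : V →ₗ[K] K) (w : V), w ∈ W ∧ cf (A := A) φ w = a}

theorem cf_mem_coeffSpace (W : Submodule K V) (φ : V →ₗ[K] K) {w : V} (hw : w ∈ W) :
    cf (A := A) φ w ∈ coeffSpace A W :=
  Submodule.subset_span ⟨φ, w, hw, rfl⟩

theorem coeffSpace_le_iff (W : Submodule K V) (D : Submodule K A) :
    coeffSpace A W ≤ D ↔ ∀ w ∈ W, coactMap K A V w ∈ LinearMap.range (D.subtype.lTensor V) := by
  constructor
  · intro h w hw
    rw [mem_range_lTensor_iff]
    intro φ
    exact h (cf_mem_coeffSpace W φ hw)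
  · intro h
    apply Submodule.span_le.2
    rintro _ ⟨φ, w, hw, rfl⟩
    exact (mem_range_lTensor_iff D _).1 (h w hw) φ

theorem coact_mem_range_coeffSpace (W : Submodule K V) {w : V} (hw : w ∈ W) :
    coactMap K A V w ∈ LinearMap.range ((coeffSpace A W).subtype.lTensor V) :=
  (coeffSpace_le_iff W _).1 le_rfl w hw

theorem coeffSpace_mono {W W' : Submodule K V} (h : W ≤ W') : coeffSpace A W ≤ coeffSpace A W' := by
  apply Submodule.span_mono
  rintro _ ⟨φ, w, hw, rfl⟩
  exact ⟨φ, w, h hw, rfl⟩

theorem hitR_cf (f : A →ₗ[K] K) (φ : V →ₗ[K] K) (w : V) :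
    hitR f (cf (A := A) φ w) = cf (A := A) φ (act f w) := by
  simp only [hitR, LinearMap.coe_comp, Function.comp_apply]
  rw [comul_cf, contractR_rTensor]
  rfl

theorem hitL_cf (g : A →ₗ[K] K) (φ : V →ₗ[K] K) (w : V) :
    hitL g (cf (A := A) φ w) = cf (A := A) (g ∘ₗ cf (A := A) φ) w := by
  simp only [hitL, LinearMap.coe_comp, Function.comp_apply]
  rw [comul_cf, contractL_rTensor]
  rfl

/-- the coefficient space of a subcomodule is a subcoalgebra -/
theorem isSubcoalg_coeffSpace (W : Submodule K V) (hW : HopfRep.IsSubcomod (k := K) (A := A) W) :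
    IsSubcoalg (coeffSpace A W) := by
  rw [isSubcoalg_iff]
  constructor
  · intro f b hb
    have : coeffSpace A W ≤ (coeffSpace A W).comap (hitR f) := by
      apply Submodule.span_le.2
      rintro _ ⟨φ, w, hw, rfl⟩
      show hitR f (cf (A := A) φ w) ∈ coeffSpace A W
      rw [hitR_cf]
      exact cf_mem_coeffSpace W φ ((isSubcomod_iff W).1 hW f w hw)
    exact this hb
  · intro g b hb
    have : coeffSpace A W ≤ (coeffSpace A W).comap (hitL g) := by
      apply Submodule.span_le.2
      rintro _ ⟨φ, w, hw, rfl⟩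
      show hitL g (cf (A := A) φ w) ∈ coeffSpace A W
      rw [hitL_cf]
      exact cf_mem_coeffSpace W _ hw
    exact this hb

theorem cf_eq_sliceL (φ : V →ₗ[K] K) (w : V) : cf (A := A) φ w = sliceL (coactMap K A V w) φ := rfl

/-- the coefficient space of a finite-dimensional subspace is finite-dimensional -/
theorem finite_coeffSpace (W : Submodule K V) [Module.Finite K W] : Module.Finite K (coeffSpace A W) := by
  classical
  obtain ⟨s, hs⟩ : W.FG := (Submodule.fg_top W).1 (Module.Finite.fg_top)
  let T : Submodule K A := s.sup (fun j => LinearMap.range (sliceL (coactMap K A V j)))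
  have hT : Module.Finite K T := by
    have : ∀ j, Module.Finite K (LinearMap.range (sliceL (coactMap K A V j))) := fun j => finite_range_sliceL _
    infer_instance
  have hle : coeffSpace A W ≤ T := by
    apply Submodule.span_le.2
    rintro _ ⟨φ, w, hw, rfl⟩
    have : W ≤ T.comap (cf (A := A) φ) := by
      rw [← hs]
      apply Submodule.span_le.2
      intro j hj
      show cf (A := A) φ j ∈ T
      have h1 : LinearMap.range (sliceL (coactMap K A V j)) ≤ T :=
        Finset.le_sup (f := fun j => LinearMap.range (sliceL (coactMap K A V j))) hj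
      exact h1 ⟨φ, rfl⟩
    exact this hw
  exact Module.Finite.of_injective (Submodule.inclusion hle) (Submodule.inclusion_injective hle)

/-- in the regular comodule every subspace lies in its coefficient space -/
theorem le_coeffSpace_regular (W : Submodule K A) : W ≤ coeffSpace A W := by
  intro w hw
  have : cf (A := A) (CoalgebraStruct.counit (R := K) (A := A)) w = w := by
    rw [cf_apply]
    show contractL A _ (CoalgebraStruct.comul (R := K) w) = w
    simp only [contractL, LinearMap.coe_comp, Function.comp_apply, LinearEquiv.coe_coe]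
    rw [Coalgebra.rTensor_counit_comul]
    simp
  rw [← this]
  exact cf_mem_coeffSpace W _ hw

theorem cf_comodHom (θ : V →ₗ[K] V') (hθ : Hoch.IsComodHom A θ) (φ : V' →ₗ[K] K) (v : V) :
    cf (A := A) φ (θ v) = cf (A := A) (φ ∘ₗ θ) v := by
  have h := LinearMap.congr_fun hθ v
  simp only [LinearMap.coe_comp, Function.comp_apply] at h
  rw [cf_apply]
  show contractL A φ (HopfRep.Comod.coact (k := K) (A := A) (θ v)) = _
  rw [h, contractL_rTensor]
  rfl

theorem coeffSpace_map_le (θ : V →ₗ[K] V') (hθ : Hoch.IsComodHom A θ) (W : Submodule K V) :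
    coeffSpace A (W.map θ) ≤ coeffSpace A W := by
  apply Submodule.span_le.2
  rintro _ ⟨φ, _, ⟨w, hw, rfl⟩, rfl⟩
  rw [cf_comodHom θ hθ]
  exact cf_mem_coeffSpace W _ hw

theorem coeffSpace_map_eq (θ : V →ₗ[K] V') (hθ : Hoch.IsComodHom A θ) (hinj : Function.Injective θ)
    (W : Submodule K V) : coeffSpace A (W.map θ) = coeffSpace A W := by
  apply le_antisymm (coeffSpace_map_le θ hθ W)
  apply Submodule.span_le.2
  rintro _ ⟨ψ, w, hw, rfl⟩
  obtain ⟨φ, hφ⟩ := LinearMap.exists_leftInverse_of_injective θ (LinearMap.ker_eq_bot.2 hinj)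
  have : ψ = (ψ ∘ₗ φ) ∘ₗ θ := by
    rw [LinearMap.comp_assoc, hφ, LinearMap.comp_id]
  rw [this, ← cf_comodHom θ hθ]
  exact cf_mem_coeffSpace _ _ ⟨w, hw, rfl⟩

end Coeff

end Groth.Agent.Lib.Helper75
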