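import Groth.Agent.Lib.Helper75.UnipPoints
import Groth.Agent.Lib.Helper75.DiagSemisimple
import Groth.Agent.Lib.Helper84.MatCoeff
import Groth.Agent.Lib.Helper16.FinHopfCartierFG
import Groth.Prelude.Def_GLin
import Groth.Prelude.Def_ComodSub

/-!
# Equivariant Zariski main theorem, part A: subcomodules tested on rational points (helper75)

For a reduced finitely generated commutative Hopf algebra over an algebraically closed field,
a subspace of a comodule stable under all rational points is a subcomodule.  Consequently the
integral closure of `S` in `R` (for an equivariant map of comodule algebras) is a subcomodule.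
Also: comodule algebra structure on a subalgebra which is a subcomodule.
-/

set_option autoImplicit false
open TensorProduct
open Groth.Agent.Lib.Helper75

namespace Groth.Agent.Lib.Helper75.EqZMT

universe u

section Points

variable {k : Type u} [Field k] [IsAlgClosed k] {A : Type u} [CommRing A] [HopfAlgebra k A]
  [Algebra.FiniteType k A] [IsReduced A]
variable {V : Type u} [AddCommGroup V] [Module k V]

theorem eq_zero_of_forall_point_contractR (t : V ⊗[k] A)
    (h : ∀ g : A →ₐ[k] k, contractR V g.toLinearMap t = 0) : t = 0 := by
  have h2 : ∀ φ : V →ₗ[k] k, contractL A φ t = 0 := by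
    intro φ
    apply eq_of_forall_point_eq (k := k)
    intro g
    have := contract_comm g.toLinearMap φ t
    rw [h g, map_zero] at this
    rw [map_zero]
    exact this.symm
  exact DiagSS.eq_of_contractL_eq' (k := k) t 0 (fun φ => by rw [h2 φ, map_zero])

variable [HopfRep.Comod k A V]

theorem isSubcomod_of_points (W : Submodule k V)
    (h : ∀ g : A →ₐ[k] k, ∀ w ∈ W, act g.toLinearMap w ∈ W) :
    HopfRep.IsSubcomod (k := k) (A := A) W := by
  rw [isSubcomod_iff]
  intro f w hw
  have hy : (W.mkQ.rTensor A) (coactMap k A V w) = 0 := by
    apply eq_zero_of_forall_point_contractR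
    intro g
    rw [contractR_rTensor]
    exact (Submodule.Quotient.mk_eq_zero W).2 (h g w hw)
  have := contractR_rTensor f W.mkQ (coactMap k A V w)
  rw [hy, map_zero] at this
  exact (Submodule.Quotient.mk_eq_zero W).1 this.symm

omit [IsAlgClosed k] [Algebra.FiniteType k A] [IsReduced A] in
theorem isSubcomod_inf {W W' : Submodule k V} (hW : HopfRep.IsSubcomod (k := k) (A := A) W)
    (hW' : HopfRep.IsSubcomod (k := k) (A := A) W') :
    HopfRep.IsSubcomod (k := k) (A := A) (W ⊓ W') := by
  rw [isSubcomod_iff] at hW hW' ⊢
  intro f w hw
  exact ⟨hW f w hw.1, hW' f w hw.2⟩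

end Points

section Alg

variable {k : Type u} [Field k] {A : Type u} [CommRing A] [HopfAlgebra k A]
variable {R : Type u} [CommRing R] [Algebra k R] [HopfRep.Comod k A R] [GLin.IsCoactAlg k A R]

/-- the action of a rational point on a comodule algebra, as an algebra map -/
noncomputable def actAlg (g : A →ₐ[k] k) : R →ₐ[k] R :=
  ((Algebra.TensorProduct.rid k k R).toAlgHom.comp
    (Algebra.TensorProduct.map (AlgHom.id k R) g)).comp (GLin.coactAlgHom k A R)

theorem actAlg_apply (g : A →ₐ[k] k) (r : R) : actAlg g r = act g.toLinearMap r := by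
  rw [act_apply]
  show (Algebra.TensorProduct.rid k k R) (Algebra.TensorProduct.map (AlgHom.id k R) g
    (HopfRep.Comod.coact (k := k) (A := A) r)) = contractR R g.toLinearMap
      (HopfRep.Comod.coact (k := k) (A := A) r)
  generalize HopfRep.Comod.coact (k := k) (A := A) r = t
  induction t using TensorProduct.induction_on with
  | zero => simp
  | add a b ha hb => rw [map_add, map_add, map_add, ha, hb]
  | tmul r a => simp

variable {S : Type u} [CommRing S] [Algebra k S] [HopfRep.Comod k A S] [GLin.IsCoactAlg k A S]
  [Algebra S R] [IsScalarTower k S R]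

theorem actAlg_algebraMap
    (hequiv : ∀ s : S, HopfRep.Comod.coact (k := k) (A := A) (algebraMap S R s) =
      Algebra.TensorProduct.map (IsScalarTower.toAlgHom k S R) (AlgHom.id k A)
        (HopfRep.Comod.coact (k := k) (A := A) s))
    (g : A →ₐ[k] k) (s : S) :
    actAlg g (algebraMap S R s) = algebraMap S R (actAlg g s) := by
  rw [actAlg_apply, actAlg_apply, act_apply, act_apply]
  show contractR R g.toLinearMap (HopfRep.Comod.coact (k := k) (A := A) (algebraMap S R s)) =
    algebraMap S R (contractR S g.toLinearMap (HopfRep.Comod.coact (k := k) (A := A) s))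
  rw [hequiv]
  generalize HopfRep.Comod.coact (k := k) (A := A) s = t
  induction t using TensorProduct.induction_on with
  | zero => simp
  | add a b ha hb => rw [map_add, map_add, map_add, map_add, ha, hb]
  | tmul r a => simp [Algebra.smul_def, IsScalarTower.algebraMap_apply k S R]

theorem isIntegral_actAlg
    (hequiv : ∀ s : S, HopfRep.Comod.coact (k := k) (A := A) (algebraMap S R s) =
      Algebra.TensorProduct.map (IsScalarTower.toAlgHom k S R) (AlgHom.id k A)
        (HopfRep.Comod.coact (k := k) (A := A) s))
    (g : A →ₐ[k] k) {r : R} (hr : IsIntegral S r) : IsIntegral S (actAlg g r) :=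
  IsIntegral.map_of_comp_eq (actAlg (R := S) g).toRingHom (actAlg (R := R) g).toRingHom
    (by ext s; exact (actAlg_algebraMap hequiv g s).symm) hr

theorem isSubcomod_integralClosure [IsAlgClosed k] [Algebra.FiniteType k A] [IsReduced A]
    (hequiv : ∀ s : S, HopfRep.Comod.coact (k := k) (A := A) (algebraMap S R s) =
      Algebra.TensorProduct.map (IsScalarTower.toAlgHom k S R) (AlgHom.id k A)
        (HopfRep.Comod.coact (k := k) (A := A) s)) :
    HopfRep.IsSubcomod (k := k) (A := A)
      ((Subalgebra.toSubmodule (integralClosure S R)).restrictScalars k) := by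
  apply isSubcomod_of_points
  intro g w hw
  rw [← actAlg_apply]
  exact isIntegral_actAlg hequiv g hw

end Alg

section SubAlg

variable {k : Type u} [Field k] {A : Type u} [CommRing A] [HopfAlgebra k A]
variable {R : Type u} [CommRing R] [Algebra k R] [cR : HopfRep.Comod k A R] [GLin.IsCoactAlg k A R]

omit cR [GLin.IsCoactAlg k A R] in
theorem map_val_injective (B : Subalgebra k R) :
    Function.Injective (Algebra.TensorProduct.map B.val (AlgHom.id k A)) := by
  have h : Function.Injective ((Subalgebra.toSubmodule B).subtype.rTensor A) :=
    Module.Flat.rTensor_preserves_injective_linearMap _ (Subalgebra.toSubmodule B).injective_subtype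
  intro x y hxy
  apply h
  exact hxy

/-- a subalgebra which is a subcomodule is a comodule algebra, and the inclusion is equivariant -/
theorem exists_comod_subalgebra (B : Subalgebra k R)
    (hB : HopfRep.IsSubcomod (k := k) (A := A) (Subalgebra.toSubmodule B)) :
    ∃ (c : HopfRep.Comod k A B) (_ : @GLin.IsCoactAlg k _ A _ _ B _ _ c),
      ∀ b : B, HopfRep.Comod.coact (k := k) (A := A) (b : R) =
        Algebra.TensorProduct.map B.val (AlgHom.id k A) (c.coact b) := by
  let c : HopfRep.Comod k A B := ComodSub.Comod.restr cR (Subalgebra.toSubmodule B) hB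
  have hc : ∀ b : B, Algebra.TensorProduct.map B.val (AlgHom.id k A) (c.coact b) =
      HopfRep.Comod.coact (k := k) (A := A) (b : R) := fun b =>
    ComodSub.restr_coact_coe cR (Subalgebra.toSubmodule B) hB b
  refine ⟨c, ⟨?_, ?_⟩, fun b => (hc b).symm⟩
  · apply map_val_injective (A := A) B
    rw [hc, map_one]
    exact GLin.IsCoactAlg.coact_one (k := k)
  · intro f g
    apply map_val_injective (A := A) B
    have h1 := hc (f * g)
    have h2 : Algebra.TensorProduct.map B.val (AlgHom.id k A) (c.coact f * c.coact g) =
        Algebra.TensorProduct.map B.val (AlgHom.id k A) (c.coact f) *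
          Algebra.TensorProduct.map B.val (AlgHom.id k A) (c.coact g) := map_mul _ _ _
    rw [h1, h2, hc f, hc g]
    exact GLin.IsCoactAlg.coact_mul (k := k) (f : R) (g : R)

end SubAlg

end Groth.Agent.Lib.Helper75.EqZMT
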