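import Groth.Agent.Lib.Helper75.EqZMTA
import Mathlib.RingTheory.ZariskisMainTheorem
import Mathlib.AlgebraicGeometry.Morphisms.OpenImmersion

/-!
# Equivariant Zariski main theorem, part B: the algebraic cover and the open immersion (helper75)
-/

set_option autoImplicit false
open TensorProduct AlgebraicGeometry
open Groth.Agent.Lib.Helper75

namespace Groth.Agent.Lib.Helper75.EqZMT

universe u

section Cover

variable {S R : Type u} [CommRing S] [CommRing R] [Algebra S R]

/-- Zariski's main theorem, as a finite cover of `Spec R` -/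
theorem exists_zmt_cover [Algebra.FiniteType S R] [Algebra.QuasiFinite S R] :
    ∃ T : Finset R, Ideal.span (T : Set R) = ⊤ ∧
      ∀ r ∈ T, IsIntegral S r ∧ ∀ x : R, ∃ m : ℕ, IsIntegral S (r ^ m * x) := by
  have H : ∀ p : Ideal R, p.IsPrime →
      ∃ r ∉ p, IsIntegral S r ∧ ∀ x, ∃ m : ℕ, IsIntegral S (r ^ m * x) := by
    intro p hp
    haveI := hp
    exact Algebra.zariskisMainProperty_iff.mp (Algebra.ZariskisMainProperty.of_finiteType p)
  let G : Set R := {r | IsIntegral S r ∧ ∀ x, ∃ m : ℕ, IsIntegral S (r ^ m * x)}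
  have hG : Ideal.span G = ⊤ := by
    by_contra hne
    obtain ⟨m, hm, hle⟩ := Ideal.exists_le_maximal _ hne
    obtain ⟨r, hrm, hr⟩ := H m hm.isPrime
    exact hrm (hle (Ideal.subset_span hr))
  have h1 : (1 : R) ∈ Ideal.span G := by rw [hG]; trivial
  obtain ⟨T, hTG, h1T⟩ := Submodule.mem_span_finite_of_mem_span h1
  exact ⟨T, (Ideal.eq_top_iff_one _).2 h1T, fun r hr => hTG hr⟩

variable {k : Type u} [Field k] [Algebra k S] [Algebra k R] [IsScalarTower k S R]

/-- elements `x` with `r ^ m * x ∈ B` for some `m` -/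
def Esub (B : Subalgebra S R) (r : R) (hr : r ∈ B) : Subalgebra k R where
  carrier := {x | ∃ m : ℕ, r ^ m * x ∈ B}
  mul_mem' := by
    rintro x y ⟨m, hm⟩ ⟨n, hn⟩
    refine ⟨m + n, ?_⟩
    have := B.mul_mem hm hn
    convert this using 1
    ring
  add_mem' := by
    rintro x y ⟨m, hm⟩ ⟨n, hn⟩
    refine ⟨m + n, ?_⟩
    have h1 := B.mul_mem (B.pow_mem hr n) hm
    have h2 := B.mul_mem (B.pow_mem hr m) hn
    have := B.add_mem h1 h2
    convert this using 1
    ring
  algebraMap_mem' := fun c => ⟨0, by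
    rw [pow_zero, one_mul, IsScalarTower.algebraMap_apply k S R]
    exact B.algebraMap_mem _⟩

theorem exists_finset_integral [Algebra.FiniteType k R] (T : Finset R)
    (hTi : ∀ r ∈ T, IsIntegral S r ∧ ∀ x : R, ∃ m : ℕ, IsIntegral S (r ^ m * x)) :
    ∃ F : Finset R, (∀ f ∈ F, IsIntegral S f) ∧ ∀ B : Subalgebra S R, (F : Set R) ⊆ B →
      ∀ r ∈ T, r ∈ B ∧ ∀ x : R, ∃ m : ℕ, r ^ m * x ∈ B := by
  classical
  obtain ⟨X, hX⟩ := (Algebra.FiniteType.out : (⊤ : Subalgebra k R).FG)
  have hm : ∀ r : R, ∀ x : R, ∃ m : ℕ, r ∈ T → IsIntegral S (r ^ m * x) := by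
    intro r x
    by_cases hr : r ∈ T
    · obtain ⟨m, hm⟩ := (hTi r hr).2 x
      exact ⟨m, fun _ => hm⟩
    · exact ⟨0, fun h => absurd h hr⟩
  choose m hm using hm
  refine ⟨T ∪ (T ×ˢ X).image (fun p => p.1 ^ m p.1 p.2 * p.2), ?_, ?_⟩
  · intro f hf
    rcases Finset.mem_union.1 hf with hf | hf
    · exact (hTi f hf).1
    · obtain ⟨p, hp, rfl⟩ := Finset.mem_image.1 hf
      exact hm p.1 p.2 (Finset.mem_product.1 hp).1
  · intro B hB r hr
    have hrB : r ∈ B := hB (by simp [hr])
    refine ⟨hrB, ?_⟩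
    have htop : Esub (k := k) B r hrB = ⊤ := by
      rw [eq_top_iff, ← hX]
      apply Algebra.adjoin_le
      intro x hx
      refine ⟨m r x, hB ?_⟩
      rw [Finset.coe_union, Finset.coe_image]
      right
      exact ⟨(r, x), by simp [hr, hx], rfl⟩
    intro x
    have : x ∈ Esub (k := k) B r hrB := by rw [htop]; trivial
    exact this

end Cover

section OpenImm

variable {B R : Type u} [CommRing B] [CommRing R]

theorem exists_notMem_of_span_eq_top (T : Finset R) (hT : Ideal.span (T : Set R) = ⊤)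
    (p : PrimeSpectrum R) : ∃ r ∈ T, r ∉ p.asIdeal := by
  by_contra hcon
  push Not at hcon
  have : Ideal.span (T : Set R) ≤ p.asIdeal := Ideal.span_le.2 (fun r hr => hcon r hr)
  rw [hT] at this
  exact p.isPrime.ne_top (top_le_iff.mp this)

theorem comap_injective_of_cover (i : B →+* R) (T : Finset R)
    (hT : Ideal.span (T : Set R) = ⊤)
    (h : ∀ r ∈ T, ∃ b : B, i b = r ∧ ∀ x : R, ∃ (m : ℕ) (y : B), i y = r ^ m * x) :
    Function.Injective (PrimeSpectrum.comap i) := by
  have key : ∀ p q : PrimeSpectrum R, PrimeSpectrum.comap i p = PrimeSpectrum.comap i q →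
      p.asIdeal ≤ q.asIdeal := by
    intro p q hpq x hx
    obtain ⟨r, hrT, hrp⟩ := exists_notMem_of_span_eq_top T hT p
    obtain ⟨b, hb, hx'⟩ := h r hrT
    obtain ⟨m, y, hy⟩ := hx' x
    have hmem : ∀ z : B, i z ∈ p.asIdeal ↔ i z ∈ q.asIdeal := by
      intro z
      have := congrArg (fun P : PrimeSpectrum B => z ∈ P.asIdeal) hpq
      simpa using this
    have hrq : r ∉ q.asIdeal := by
      rw [← hb, ← hmem, hb]; exact hrp
    have h1 : r ^ m * x ∈ q.asIdeal := by
      rw [← hy, ← hmem, hy]; exact Ideal.mul_mem_left _ _ hx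
    rcases q.isPrime.mem_or_mem h1 with h2 | h2
    · exact absurd (q.isPrime.mem_of_pow_mem m h2) hrq
    · exact h2
  intro p q hpq
  exact PrimeSpectrum.ext (le_antisymm (key p q hpq) (key q p hpq.symm))

theorem isLocalization_away_of_cover (i : B →+* R) (hi : Function.Injective i) (r : R) (b : B)
    (hb : i b = r) (hx : ∀ x : R, ∃ (m : ℕ) (y : B), i y = r ^ m * x) :
    letI : Algebra B (Localization.Away r) :=
      ((algebraMap R (Localization.Away r)).comp i).toAlgebra
    IsLocalization.Away b (Localization.Away r) := by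
  letI : Algebra B (Localization.Away r) :=
    ((algebraMap R (Localization.Away r)).comp i).toAlgebra
  have hmap : ∀ z : B, algebraMap B (Localization.Away r) z =
      algebraMap R (Localization.Away r) (i z) := fun z => rfl
  show IsLocalization (Submonoid.powers b) (Localization.Away r)
  rw [isLocalization_iff]
  refine ⟨?_, ?_, ?_⟩
  · rintro ⟨_, n, rfl⟩
    show IsUnit (algebraMap B (Localization.Away r) (b ^ n))
    rw [hmap, map_pow, hb, map_pow]
    exact (IsLocalization.Away.algebraMap_isUnit r).pow n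
  · intro z
    obtain ⟨x, ⟨_, n, rfl⟩, rfl⟩ := IsLocalization.exists_mk'_eq (Submonoid.powers r) z
    obtain ⟨m, y, hy⟩ := hx x
    refine ⟨(y, ⟨b ^ (n + m), n + m, rfl⟩), ?_⟩
    show _ * algebraMap B (Localization.Away r) (b ^ (n + m)) = algebraMap B (Localization.Away r) y
    rw [hmap, hmap, map_pow, hb, hy, pow_add, map_mul, map_mul, ← mul_assoc, map_pow, map_pow]
    have := IsLocalization.mk'_spec (Localization.Away r) x (⟨r ^ n, n, rfl⟩ : Submonoid.powers r)
    rw [map_pow] at this
    rw [this]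
    ring
  · intro x y hxy
    rw [hmap, hmap] at hxy
    obtain ⟨⟨_, n, rfl⟩, hc⟩ := (IsLocalization.eq_iff_exists (Submonoid.powers r) _).1 hxy
    refine ⟨⟨b ^ n, n, rfl⟩, ?_⟩
    apply hi
    show i (b ^ n * x) = i (b ^ n * y)
    rw [map_mul, map_mul, map_pow, hb]
    exact hc

theorem isOpenImmersion_of_cover (i : B →+* R) (hi : Function.Injective i) (T : Finset R)
    (hT : Ideal.span (T : Set R) = ⊤)
    (h : ∀ r ∈ T, ∃ b : B, i b = r ∧ ∀ x : R, ∃ (m : ℕ) (y : B), i y = r ^ m * x) :
    IsOpenImmersion (Spec.map (CommRingCat.ofHom i)) := by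
  apply IsOpenImmersion.of_forall_source_exists
  · intro p q hpq
    exact comap_injective_of_cover i T hT h hpq
  · intro x
    obtain ⟨r, hrT, hrx⟩ := exists_notMem_of_span_eq_top T hT x
    obtain ⟨b, hb, hx'⟩ := h r hrT
    refine ⟨Spec (CommRingCat.of (Localization.Away r)),
      Spec.map (CommRingCat.ofHom (algebraMap R (Localization.Away r))), inferInstance, ?_, ?_⟩
    · have := Scheme.Hom.opensRange_localizationAway (R := CommRingCat.of R) r
      rw [this]
      exact hrx
    · rw [← Spec.map_comp, ← CommRingCat.ofHom_comp]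
      letI : Algebra B (Localization.Away r) :=
        ((algebraMap R (Localization.Away r)).comp i).toAlgebra
      haveI : IsLocalization.Away b (Localization.Away r) :=
        isLocalization_away_of_cover i hi r b hb hx'
      exact IsOpenImmersion.of_isLocalization (R := B) (S := Localization.Away r) b

end OpenImm

end Groth.Agent.Lib.Helper75.EqZMT
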