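import Groth.Agent.Lib.Helper75.EqZMTB

/-!
# Equivariant Zariski main theorem, part C: assembly (helper75)
-/

set_option autoImplicit false
open TensorProduct AlgebraicGeometry
open Groth.Agent.Lib.Helper75

namespace Groth.Agent.Lib.Helper75.EqZMT

universe u

section Adjoin

variable {k : Type u} [Field k] {A : Type u} [CommRing A] [HopfAlgebra k A]
variable {R : Type u} [CommRing R] [Algebra k R] [HopfRep.Comod k A R] [GLin.IsCoactAlg k A R]
variable {S : Type u} [CommRing S] [Algebra k S] [HopfRep.Comod k A S] [GLin.IsCoactAlg k A S]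
  [Algebra S R] [IsScalarTower k S R]

omit [HopfRep.Comod k A R] [GLin.IsCoactAlg k A R] [HopfRep.Comod k A S] [GLin.IsCoactAlg k A S] in
theorem contractR_map_algHom (f : A →ₗ[k] k) (t : S ⊗[k] A) :
    contractR R f (Algebra.TensorProduct.map (IsScalarTower.toAlgHom k S R) (AlgHom.id k A) t) =
      algebraMap S R (contractR S f t) := by
  induction t using TensorProduct.induction_on with
  | zero => simp
  | add a b ha hb => rw [map_add, map_add, map_add, map_add, ha, hb]
  | tmul r a => simp [Algebra.smul_def, IsScalarTower.algebraMap_apply k S R]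

omit [GLin.IsCoactAlg k A S] in
theorem isSubcomod_adjoin
    (hequiv : ∀ s : S, HopfRep.Comod.coact (k := k) (A := A) (algebraMap S R s) =
      Algebra.TensorProduct.map (IsScalarTower.toAlgHom k S R) (AlgHom.id k A)
        (HopfRep.Comod.coact (k := k) (A := A) s))
    (V : Submodule k R) (hV : HopfRep.IsSubcomod (k := k) (A := A) V) (F : Set R)
    (hF : Submodule.span k F = V) :
    HopfRep.IsSubcomod (k := k) (A := A)
      (Subalgebra.toSubmodule ((Algebra.adjoin S F).restrictScalars k)) := by
  have hVB : V ≤ Subalgebra.toSubmodule ((Algebra.adjoin S F).restrictScalars k) := by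
    rw [← hF]
    apply Submodule.span_le.2
    intro x hx
    exact Algebra.subset_adjoin hx
  intro b hb
  have hb' : b ∈ Algebra.adjoin S F := hb
  refine Algebra.adjoin_induction (p := fun x _ => HopfRep.Comod.coact (k := k) (A := A) x ∈
    LinearMap.range ((Subalgebra.toSubmodule
      ((Algebra.adjoin S F).restrictScalars k)).subtype.rTensor A)) ?_ ?_ ?_ ?_ hb'
  · intro x hx
    have hxV : x ∈ V := by rw [← hF]; exact Submodule.subset_span hx
    have := hV x hxV
    rw [mem_range_rTensor_iff] at this ⊢
    exact fun f => hVB (this f)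
  · intro s
    rw [mem_range_rTensor_iff]
    intro f
    rw [hequiv, contractR_map_algHom]
    exact (Algebra.adjoin S F).algebraMap_mem _
  · intro x y _ _ ihx ihy
    rw [map_add]
    exact Submodule.add_mem _ ihx ihy
  · intro x y _ _ ihx ihy
    obtain ⟨t1, h1⟩ := ihx
    obtain ⟨t2, h2⟩ := ihy
    let t1' : ↥((Algebra.adjoin S F).restrictScalars k) ⊗[k] A := t1
    let t2' : ↥((Algebra.adjoin S F).restrictScalars k) ⊗[k] A := t2
    have e1 : Algebra.TensorProduct.map ((Algebra.adjoin S F).restrictScalars k).val (AlgHom.id k A)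
        (t1' * t2') =
        Algebra.TensorProduct.map ((Algebra.adjoin S F).restrictScalars k).val (AlgHom.id k A) t1' *
        Algebra.TensorProduct.map ((Algebra.adjoin S F).restrictScalars k).val (AlgHom.id k A) t2' :=
      map_mul _ _ _
    refine ⟨t1' * t2', ?_⟩
    show Algebra.TensorProduct.map ((Algebra.adjoin S F).restrictScalars k).val (AlgHom.id k A)
      (t1' * t2') = _
    rw [e1, GLin.IsCoactAlg.coact_mul (k := k) x y, ← h1, ← h2]
    rfl

end Adjoin

section Main

theorem main (k : Type u) [Field k] [IsAlgClosed k] [CharZero k]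
    (A : Type u) [CommRing A] [HopfAlgebra k A] [Algebra.FiniteType k A]
    (S : Type u) [CommRing S] [Algebra k S] [Algebra.FiniteType k S] [HopfRep.Comod k A S] [GLin.IsCoactAlg k A S]
    (R : Type u) [CommRing R] [Algebra k R] [Algebra.FiniteType k R] [HopfRep.Comod k A R] [GLin.IsCoactAlg k A R]
    [Algebra S R] [IsScalarTower k S R] [Algebra.QuasiFinite S R]
    (hequiv : (∀ s : S, HopfRep.Comod.coact (k := k) (A := A) (algebraMap S R s) =
      Algebra.TensorProduct.map (IsScalarTower.toAlgHom k S R) (AlgHom.id k A) (HopfRep.Comod.coact (k := k) (A := A) s))) :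
    ∃ (B : Type u) (_ : CommRing B) (_ : Algebra k B) (_ : HopfRep.Comod k A B) (_ : GLin.IsCoactAlg k A B),
      Algebra.FiniteType k B ∧
      ∃ (ψ : S →ₐ[k] B) (i : B →ₐ[k] R),
        (∀ s : S, HopfRep.Comod.coact (k := k) (A := A) (ψ s) =
        Algebra.TensorProduct.map ψ (AlgHom.id k A) (HopfRep.Comod.coact (k := k) (A := A) s)) ∧
        (∀ s : B, HopfRep.Comod.coact (k := k) (A := A) (i s) =
        Algebra.TensorProduct.map i (AlgHom.id k A) (HopfRep.Comod.coact (k := k) (A := A) s)) ∧
        i.comp ψ = IsScalarTower.toAlgHom k S R ∧ ψ.toRingHom.Finite ∧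
        AlgebraicGeometry.IsOpenImmersion (AlgebraicGeometry.Spec.map (CommRingCat.ofHom i.toRingHom)) := by
  classical
  haveI : IsReduced A := Groth.Agent.Lib.Helper16.FinHopf.isReduced_of_charZero k A
  haveI : Algebra.FiniteType S R := Algebra.FiniteType.of_restrictScalars_finiteType k S R
  obtain ⟨T, hT, hTi⟩ := exists_zmt_cover (S := S) (R := R)
  obtain ⟨F₀, hF₀i, hF₀⟩ := exists_finset_integral (k := k) T hTi
  have hCsub : HopfRep.IsSubcomod (k := k) (A := A)
      ((Subalgebra.toSubmodule (integralClosure S R)).restrictScalars k) :=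
    isSubcomod_integralClosure hequiv
  obtain ⟨W₀, hW₀, hW₀fin, hW₀F⟩ :=
    Groth.Agent.Lib.Helper84.exists_finite_subcomod_finset (K := k) (A := A) F₀
  have hVsub := isSubcomod_inf hW₀ hCsub
  haveI := hW₀fin
  haveI : IsNoetherian k ↥W₀ := inferInstance
  haveI : IsNoetherian k
      ↥(W₀ ⊓ (Subalgebra.toSubmodule (integralClosure S R)).restrictScalars k) :=
    isNoetherian_of_le inf_le_left
  have hVfg : (W₀ ⊓ (Subalgebra.toSubmodule (integralClosure S R)).restrictScalars k).FG :=
    Module.Finite.iff_fg.1 inferInstance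
  obtain ⟨F', hF'⟩ := hVfg
  have hF'V : ∀ f ∈ (F' : Set R),
      f ∈ W₀ ⊓ (Subalgebra.toSubmodule (integralClosure S R)).restrictScalars k := fun f hf => by
    rw [← hF']; exact Submodule.subset_span hf
  have hF'int : ∀ f ∈ (F' : Set R), IsIntegral S f := fun f hf => (hF'V f hf).2
  have hBSfg : (Subalgebra.toSubmodule (Algebra.adjoin S (F' : Set R))).FG :=
    fg_adjoin_of_finite F'.finite_toSet hF'int
  have hfinS : Module.Finite S (Algebra.adjoin S (F' : Set R)) := ⟨(Submodule.fg_top _).2 hBSfg⟩
  have hF₀B : (F₀ : Set R) ⊆ Algebra.adjoin S (F' : Set R) := by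
    intro f hf
    have h1 : f ∈ W₀ ⊓ (Subalgebra.toSubmodule (integralClosure S R)).restrictScalars k :=
      ⟨hW₀F hf, hF₀i f hf⟩
    rw [← hF'] at h1
    have hle : Submodule.span k (F' : Set R) ≤
        Subalgebra.toSubmodule ((Algebra.adjoin S (F' : Set R)).restrictScalars k) :=
      Submodule.span_le.2 (fun x hx => Algebra.subset_adjoin hx)
    exact hle h1
  have hcov := hF₀ _ hF₀B
  have hB'sub := isSubcomod_adjoin hequiv _ hVsub (F' : Set R) hF'
  obtain ⟨c, hcalg, hc⟩ :=
    exists_comod_subalgebra ((Algebra.adjoin S (F' : Set R)).restrictScalars k) hB'sub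
  let ψ : S →ₐ[k] ↥((Algebra.adjoin S (F' : Set R)).restrictScalars k) :=
    (IsScalarTower.toAlgHom k S R).codRestrict ((Algebra.adjoin S (F' : Set R)).restrictScalars k)
      (fun s => (Algebra.adjoin S (F' : Set R)).algebraMap_mem s)
  have hfin : ψ.toRingHom.Finite := by
    letI : Algebra S ↥((Algebra.adjoin S (F' : Set R)).restrictScalars k) := ψ.toRingHom.toAlgebra
    show Module.Finite S ↥((Algebra.adjoin S (F' : Set R)).restrictScalars k)
    let e : ↥(Algebra.adjoin S (F' : Set R)) →ₗ[S]
        ↥((Algebra.adjoin S (F' : Set R)).restrictScalars k) :=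
      { toFun := fun x => ⟨x.1, x.2⟩
        map_add' := fun _ _ => rfl
        map_smul' := fun s x => by
          apply Subtype.ext
          exact Algebra.smul_def s x.1 }
    exact Module.Finite.of_surjective e (fun y => ⟨⟨y.1, y.2⟩, rfl⟩)
  refine ⟨↥((Algebra.adjoin S (F' : Set R)).restrictScalars k), inferInstance, inferInstance, c,
    hcalg, ?_, ψ, ((Algebra.adjoin S (F' : Set R)).restrictScalars k).val, ?_, ?_, ?_, hfin, ?_⟩
  · have h1 : (algebraMap k S).FiniteType := RingHom.finiteType_algebraMap.2 inferInstance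
    have h2 := hfin.finiteType.comp h1
    have h3 : ψ.toRingHom.comp (algebraMap k S) =
        algebraMap k ↥((Algebra.adjoin S (F' : Set R)).restrictScalars k) := by
      apply RingHom.ext
      intro x
      exact ψ.commutes x
    rw [h3] at h2
    exact RingHom.finiteType_algebraMap.1 h2
  · intro s
    apply map_val_injective (A := A) ((Algebra.adjoin S (F' : Set R)).restrictScalars k)
    rw [← hc (ψ s)]
    show HopfRep.Comod.coact (k := k) (A := A) (algebraMap S R s) = _
    rw [hequiv, ← AlgHom.comp_apply, ← Algebra.TensorProduct.map_comp]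
    rfl
  · intro b
    exact hc b
  · exact AlgHom.ext fun s => rfl
  · refine isOpenImmersion_of_cover _ Subtype.val_injective T hT (fun r hr => ?_)
    refine ⟨⟨r, (hcov r hr).1⟩, rfl, fun x => ?_⟩
    obtain ⟨m, hm⟩ := (hcov r hr).2 x
    exact ⟨m, ⟨_, hm⟩, rfl⟩

end Main

end Groth.Agent.Lib.Helper75.EqZMT
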