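import Groth.Agent.Lib.Helper75.ComodBasic
import Groth.Prelude.Def_GLin

/-!
# Invariants of a finite group scheme acting on an affine scheme (helper75)

`R` is integral over `R^G` (characteristic polynomial of the coaction), hence finite when `R` is of finite type, and
`R^G` is then of finite type (Artin–Tate).
-/

set_option autoImplicit false
universe u v w w'

open TensorProduct

namespace Groth.Agent.Lib.Helper75.FinInv

open Algebra.TensorProduct WithConv

section Translate

variable {k : Type u} [CommRing k] {A : Type v} [CommRing A] [HopfAlgebra k A]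
  {S : Type w} [CommRing S] [Algebra k S]

/-- `a ↦ g(a₁) ⊗ a₂` -/
noncomputable def trPt (g : A →ₐ[k] S) : A →ₐ[k] S ⊗[k] A :=
  (toConv ((includeLeft : S →ₐ[k] S ⊗[k] A).comp g) * toConv (includeRight : A →ₐ[k] S ⊗[k] A)).ofConv

/-- translation by an `S`-point `g` of the group: `s ⊗ a ↦ s g(a₁) ⊗ a₂`, an `S`-algebra endomorphism -/
noncomputable def trans (g : A →ₐ[k] S) : S ⊗[k] A →ₐ[S] S ⊗[k] A :=
  lift (includeLeft : S →ₐ[S] S ⊗[k] A) (trPt g) (fun _ _ => Commute.all _ _)

theorem trans_comp_includeRight (g : A →ₐ[k] S) :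
    ((trans g).restrictScalars k).comp (includeRight : A →ₐ[k] S ⊗[k] A) = trPt g := by
  apply AlgHom.ext
  intro a
  simp [trans]

theorem trans_comp_includeLeft (g : A →ₐ[k] S) :
    ((trans g).restrictScalars k).comp (includeLeft : S →ₐ[k] S ⊗[k] A) = includeLeft := by
  apply AlgHom.ext
  intro a
  simp [trans]

theorem trans_comp_trPt (g h : A →ₐ[k] S) :
    ((trans g).restrictScalars k).comp (trPt h) = trPt ((toConv h * toConv g).ofConv) := by
  unfold trPt
  rw [AlgHom.comp_convMul_distrib]
  rw [← AlgHom.comp_assoc, trans_comp_includeLeft, trans_comp_includeRight]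
  unfold trPt
  simp only [toConv_ofConv]
  rw [← mul_assoc]
  congr 2
  have := AlgHom.comp_convMul_distrib (includeLeft : S →ₐ[k] S ⊗[k] A) (toConv h) (toConv g)
  rw [this]

theorem trPt_one : trPt (1 : WithConv (A →ₐ[k] S)).ofConv = (includeRight : A →ₐ[k] S ⊗[k] A) := by
  unfold trPt
  have h1 : toConv ((includeLeft : S →ₐ[k] S ⊗[k] A).comp (1 : WithConv (A →ₐ[k] S)).ofConv) =
      (1 : WithConv (A →ₐ[k] S ⊗[k] A)) := by
    apply WithConv.ofConv_injective
    apply AlgHom.ext
    intro a
    simp [AlgHom.convOne_def, Algebra.TensorProduct.algebraMap_apply]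
  rw [h1, one_mul]

theorem trans_comp_trans (g h : A →ₐ[k] S) :
    (trans g).comp (trans h) = trans ((toConv h * toConv g).ofConv) := by
  apply Algebra.TensorProduct.ext
  · apply AlgHom.ext
    intro s
    simp [trans]
  · have h1 : (((trans g).comp (trans h)).restrictScalars k).comp (includeRight : A →ₐ[k] S ⊗[k] A) =
        ((trans g).restrictScalars k).comp (((trans h).restrictScalars k).comp includeRight) := rfl
    rw [h1, trans_comp_includeRight, trans_comp_trPt, trans_comp_includeRight]

theorem trans_one : trans (1 : WithConv (A →ₐ[k] S)).ofConv = AlgHom.id S (S ⊗[k] A) := by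
  apply Algebra.TensorProduct.ext
  · apply AlgHom.ext
    intro s
    simp [trans]
  · rw [trans_comp_includeRight, trPt_one]
    rfl

theorem comp_one (g : A →ₐ[k] S) :
    g.comp (1 : WithConv (A →ₐ[k] A)).ofConv = (1 : WithConv (A →ₐ[k] S)).ofConv := by
  apply AlgHom.ext
  intro a
  simp [AlgHom.convOne_def]

theorem antipode_mul (g : A →ₐ[k] S) :
    toConv (g.comp (HopfAlgebra.antipodeAlgHom k A)) * toConv g = 1 := by
  have h := AlgHom.comp_convMul_distrib g (toConv (HopfAlgebra.antipodeAlgHom k A)) (toConv (AlgHom.id k A))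
  rw [AlgHom.antipode_id_cancel, comp_one] at h
  apply WithConv.ofConv_injective
  rw [h]
  rfl

theorem mul_antipode (g : A →ₐ[k] S) :
    toConv g * toConv (g.comp (HopfAlgebra.antipodeAlgHom k A)) = 1 := by
  have h := AlgHom.comp_convMul_distrib g (toConv (AlgHom.id k A)) (toConv (HopfAlgebra.antipodeAlgHom k A))
  have h2 : toConv (AlgHom.id k A) * toConv (HopfAlgebra.antipodeAlgHom k A) = 1 :=
    mul_inv_cancel (G := WithConv (A →ₐ[k] A)) (toConv (AlgHom.id k A))
  rw [h2, comp_one] at h
  apply WithConv.ofConv_injective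
  rw [h]
  rfl

/-- translation by a point is an automorphism -/
noncomputable def transEquiv (g : A →ₐ[k] S) : S ⊗[k] A ≃ₐ[S] S ⊗[k] A :=
  AlgEquiv.ofAlgHom (trans g) (trans (g.comp (HopfAlgebra.antipodeAlgHom k A)))
    (by
      rw [trans_comp_trans, antipode_mul]
      exact trans_one)
    (by
      rw [trans_comp_trans, mul_antipode]
      exact trans_one)

@[simp] theorem transEquiv_apply (g : A →ₐ[k] S) (z : S ⊗[k] A) : transEquiv g z = trans g z := rfl

end Translate

section Charpoly

variable {k : Type u} [CommRing k] {A : Type v} [CommRing A] [Algebra k A]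
  {ι : Type} [Fintype ι] [DecidableEq ι] (b : Module.Basis ι k A)

/-- the characteristic polynomial of multiplication by `x` on the free `S`-module `S ⊗ A` -/
noncomputable def chi (S : Type w) [CommRing S] [Algebra k S] (x : S ⊗[k] A) : Polynomial S :=
  (Algebra.leftMulMatrix (Algebra.TensorProduct.basis S b) x).charpoly

variable {S : Type w} [CommRing S] [Algebra k S] {S' : Type w'} [CommRing S'] [Algebra k S']

theorem repr_map (f : S →ₐ[k] S') (y : S ⊗[k] A) (i : ι) :
    f ((Algebra.TensorProduct.basis S b).repr y i) =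
      (Algebra.TensorProduct.basis S' b).repr (Algebra.TensorProduct.map f (AlgHom.id k A) y) i := by
  induction y using TensorProduct.induction_on with
  | zero => simp
  | tmul s a =>
    simp [Algebra.TensorProduct.basis_repr_tmul]
  | add x y hx hy =>
    simp only [map_add, Finsupp.add_apply, hx, hy]

theorem chi_map (f : S →ₐ[k] S') (x : S ⊗[k] A) :
    chi b S' (Algebra.TensorProduct.map f (AlgHom.id k A) x) = (chi b S x).map (f : S →+* S') := by
  unfold chi
  rw [← Matrix.charpoly_map]
  congr 1
  ext i j
  rw [Matrix.map_apply, Algebra.leftMulMatrix_eq_repr_mul, Algebra.leftMulMatrix_eq_repr_mul]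
  have h1 : (f : S →+* S') ((Algebra.TensorProduct.basis S b).repr (x * (Algebra.TensorProduct.basis S b) j) i) =
      f ((Algebra.TensorProduct.basis S b).repr (x * (Algebra.TensorProduct.basis S b) j) i) := rfl
  have hx : Algebra.TensorProduct.map f (AlgHom.id k A) (x * (Algebra.TensorProduct.basis S b) j) =
      Algebra.TensorProduct.map f (AlgHom.id k A) x * (Algebra.TensorProduct.basis S' b) j := by
    rw [map_mul]
    congr 1
    simp [Algebra.TensorProduct.basis_apply]
  rw [h1, repr_map, hx]

theorem chi_monic (x : S ⊗[k] A) : (chi b S x).Monic := Matrix.charpoly_monic _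

theorem aeval_chi (x : S ⊗[k] A) : Polynomial.aeval x (chi b S x) = 0 := by
  apply Algebra.leftMulMatrix_injective (Algebra.TensorProduct.basis S b)
  rw [map_zero, ← Polynomial.aeval_algHom_apply]
  exact Matrix.aeval_self_charpoly _

theorem chi_algEquiv (e : S ⊗[k] A ≃ₐ[S] S ⊗[k] A) (x : S ⊗[k] A) : chi b S (e x) = chi b S x := by
  haveI : Module.Free S (S ⊗[k] A) := Module.Free.of_basis (Algebra.TensorProduct.basis S b)
  haveI : Module.Finite S (S ⊗[k] A) := Module.Finite.of_basis (Algebra.TensorProduct.basis S b)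
  unfold chi
  rw [Algebra.leftMulMatrix_apply, Algebra.leftMulMatrix_apply, LinearMap.charpoly_toMatrix,
    LinearMap.charpoly_toMatrix]
  have h : Algebra.lmul S (S ⊗[k] A) (e x) = e.toLinearEquiv.conj (Algebra.lmul S (S ⊗[k] A) x) := by
    apply LinearMap.ext
    intro z
    simp [LinearEquiv.conj_apply]
  rw [h, LinearEquiv.charpoly_conj]

end Charpoly

section Main

variable {k : Type u} [Field k] {A : Type v} [CommRing A] [HopfAlgebra k A]
  {R : Type w} [CommRing R] [Algebra k R] [HopfRep.Comod k A R] [GLin.IsCoactAlg k A R]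

omit [GLin.IsCoactAlg k A R] in
/-- coassociativity, in translated form -/
theorem trans_includeRight (z : R ⊗[k] A) :
    trans (includeRight : A →ₐ[k] R ⊗[k] A)
      (Algebra.TensorProduct.map (includeLeft : R →ₐ[k] R ⊗[k] A) (AlgHom.id k A) z) =
    (TensorProduct.assoc k R A A).symm ((CoalgebraStruct.comul (R := k) (A := A)).lTensor R z) := by
  induction z using TensorProduct.induction_on with
  | zero => simp
  | add x y hx hy => simp only [map_add, hx, hy]
  | tmul r a =>
    have h1 : ∀ w : A ⊗[k] A,
        ((r ⊗ₜ[k] (1 : A)) ⊗ₜ[k] (1 : A) : (R ⊗[k] A) ⊗[k] A) *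
          (Algebra.TensorProduct.lift
            ((includeLeft : R ⊗[k] A →ₐ[k] (R ⊗[k] A) ⊗[k] A).comp (includeRight : A →ₐ[k] R ⊗[k] A))
            (includeRight : A →ₐ[k] (R ⊗[k] A) ⊗[k] A) (fun _ _ => Commute.all _ _)) w =
        (TensorProduct.assoc k R A A).symm (r ⊗ₜ[k] w) := by
      intro w
      induction w using TensorProduct.induction_on with
      | zero => simp
      | add x y hx hy => simp only [map_add, mul_add, tmul_add, hx, hy]
      | tmul x y => simp
    rw [LinearMap.lTensor_tmul, ← h1]
    simp only [Algebra.TensorProduct.map_tmul, AlgHom.coe_id, id_eq, trans, includeLeft_apply]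
    rw [Algebra.TensorProduct.lift_tmul]
    congr 1
    unfold trPt
    rw [AlgHom.convMul_apply]

theorem trans_includeRight_coact (r : R) :
    trans (includeRight : A →ₐ[k] R ⊗[k] A)
      (Algebra.TensorProduct.map (includeLeft : R →ₐ[k] R ⊗[k] A) (AlgHom.id k A)
        (GLin.coactAlgHom k A R r)) =
    Algebra.TensorProduct.map (GLin.coactAlgHom k A R) (AlgHom.id k A) (GLin.coactAlgHom k A R r) := by
  rw [trans_includeRight]
  have h := coassoc_apply (k := k) (A := A) r
  have h2 : ∀ z : R ⊗[k] A, Algebra.TensorProduct.map (GLin.coactAlgHom k A R) (AlgHom.id k A) z =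
      (coactMap k A R).rTensor A z := by
    intro z
    induction z using TensorProduct.induction_on with
    | zero => simp
    | add x y hx hy => simp only [map_add, hx, hy]
    | tmul x y => simp
  rw [h2]
  exact h.symm

variable [Module.Finite k A]

theorem coeff_chi_mem_invariants {ι : Type} [Fintype ι] [DecidableEq ι] (b : Module.Basis ι k A) (r : R) (m : ℕ) :
    (chi b R (GLin.coactAlgHom k A R r)).coeff m ∈ GLin.invariants k A R := by
  rw [GLin.mem_invariants_iff]
  have h1 := chi_map b (GLin.coactAlgHom k A R) (GLin.coactAlgHom k A R r)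
  have h2 := chi_map b (includeLeft : R →ₐ[k] R ⊗[k] A) (GLin.coactAlgHom k A R r)
  rw [← trans_includeRight_coact, ← transEquiv_apply, chi_algEquiv, h2] at h1
  have h3 := congrArg (fun p => Polynomial.coeff p m) h1
  simp only [Polynomial.coeff_map] at h3
  exact h3.symm

/-- the `R`-algebra map `R ⊗ A → R`, `r ⊗ a ↦ ε(a) r` -/
noncomputable def counitR : R ⊗[k] A →ₐ[R] R :=
  Algebra.TensorProduct.lift (AlgHom.id R R) ((Algebra.ofId k R).comp (Bialgebra.counitAlgHom k A))
    (fun _ _ => Commute.all _ _)

omit [GLin.IsCoactAlg k A R] [Module.Finite k A] in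
theorem counitR_eq (z : R ⊗[k] A) : counitR z = contractR R (CoalgebraStruct.counit (R := k) (A := A)) z := by
  induction z using TensorProduct.induction_on with
  | zero => simp
  | add x y hx hy => simp only [map_add, hx, hy]
  | tmul r a =>
    simp [counitR, Algebra.ofId_apply, Algebra.algebraMap_eq_smul_one, mul_comm]

omit [Module.Finite k A] in
theorem counitR_coact (r : R) : counitR (GLin.coactAlgHom k A R r) = r := by
  rw [counitR_eq]
  exact counit_contract (k := k) (A := A) r

theorem isIntegral_invariants (r : R) : IsIntegral (GLin.invariants k A R) r := by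
  classical
  let b := Module.finBasis k A
  set χ := chi b R (GLin.coactAlgHom k A R r) with hχ
  have hroot : Polynomial.aeval r χ = 0 := by
    have h1 := aeval_chi b (GLin.coactAlgHom k A R r)
    have h2 := congrArg (counitR (k := k) (A := A) (R := R)) h1
    rw [← Polynomial.aeval_algHom_apply, counitR_coact, map_zero] at h2
    exact h2
  have hlift : χ ∈ Polynomial.lifts (algebraMap (GLin.invariants k A R) R) := by
    rw [Polynomial.lifts_iff_coeff_lifts]
    intro m
    exact ⟨⟨χ.coeff m, coeff_chi_mem_invariants b r m⟩, rfl⟩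
  obtain ⟨q, hq, _, hqm⟩ := Polynomial.lifts_and_natDegree_eq_and_monic hlift (chi_monic b _)
  refine ⟨q, hqm, ?_⟩
  rw [← Polynomial.eval_map, hq]
  exact hroot

end Main

end Groth.Agent.Lib.Helper75.FinInv
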