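import Groth.Agent.Lib.Helper17.StabHopf
import Groth.Prelude.Def_W4c6stackyreslrsPsRefl

/-!
# The fixer of a vector of a comodule is cut out by a Hopf ideal (helper75, for S19325)

`f ∈ quotInvariants I ↔ Jf f ≤ I`, and `Jf f` is a Hopf ideal.  Uses helper17's point-action
operators `tau`, `TT` and `isHopfIdeal_of_represents`.
-/

set_option autoImplicit false
universe u
open TensorProduct
open WithConv Groth.Agent.Lib.Helper75 Groth.Agent.Lib.Helper17.DynRep
  Groth.Agent.Lib.Helper17.StabHopf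

namespace Groth.Agent.Lib.Helper75.FixHopf

section sep

variable {k : Type u} [Field k] {V : Type u} [AddCommGroup V] [Module k V]

theorem eq_of_contractL_eq {R : Type u} [AddCommGroup R] [Module k R] (x y : V ⊗[k] R)
    (h : ∀ φ : V →ₗ[k] k, contractL R φ x = contractL R φ y) : x = y := by
  rw [← sub_eq_zero]
  have hmem : x - y ∈ LinearMap.range ((⊥ : Submodule k V).subtype.rTensor R) := by
    rw [mem_range_rTensor_iff_dual]
    intro φ _
    rw [map_sub, h φ, sub_self]
  obtain ⟨z, hz⟩ := hmem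
  have h0 : (⊥ : Submodule k V).subtype = 0 := by
    apply LinearMap.ext
    intro w
    have := w.2
    rw [Submodule.mem_bot] at this
    simpa using this
  rw [h0, LinearMap.rTensor_zero, LinearMap.zero_apply] at hz
  exact hz.symm

end sep

section fix

variable {k : Type u} [Field k] {A : Type u} [CommRing A] [HopfAlgebra k A]
  {V : Type u} [AddCommGroup V] [Module k V] [HopfRep.Comod k A V]

/-- the point `g` fixes the vector `f` -/
def Fix (f : V) (R : Type u) [CommRing R] [Algebra k R] (g : A →ₐ[k] R) : Prop :=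
  tau R g f = (1 : R) ⊗ₜ[k] f

/-- the ideal of the fixer of `f` -/
def Jf (f : V) : Ideal A :=
  Ideal.span {x | ∃ φ : V →ₗ[k] k, x = cf (A := A) φ f - algebraMap k A (φ f)}

theorem fix_iff (f : V) (R : Type u) [CommRing R] [Algebra k R] (g : A →ₐ[k] R) :
    Fix f R g ↔ LinearMap.lTensor V g.toLinearMap (HopfRep.Comod.coact (k := k) (A := A) f) =
      f ⊗ₜ[k] (1 : R) := by
  unfold Fix tau
  simp only [LinearMap.comp_apply, LinearEquiv.coe_coe]
  constructor
  · intro h
    apply (TensorProduct.comm k V R).injective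
    rw [TensorProduct.comm_tmul]
    exact h
  · intro h
    have h' : (g.toLinearMap.lTensor V) (coactMap k A V f) = f ⊗ₜ[k] (1 : R) := h
    rw [h', TensorProduct.comm_tmul]

theorem represents_Jf (f : V) :
    Dyn.Represents k A (Jf (k := k) (A := A) f) (fun R _ _ g => Fix f R g) := by
  intro R _ _ g
  show (∀ x ∈ Jf (k := k) (A := A) f, g x = 0) ↔ Fix f R g
  rw [Jf, forall_mem_span_iff, fix_iff]
  constructor
  · intro h
    apply eq_of_contractL_eq
    intro φ
    rw [contractL_lTensor, contractL_tmul]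
    have := h _ ⟨φ, rfl⟩
    rw [map_sub, sub_eq_zero, AlgHom.commutes] at this
    rw [← cf_apply, AlgHom.toLinearMap_apply, this, Algebra.algebraMap_eq_smul_one]
  · rintro h x ⟨φ, rfl⟩
    have h1 := congrArg (contractL R φ) h
    rw [contractL_lTensor, contractL_tmul, ← cf_apply, AlgHom.toLinearMap_apply] at h1
    rw [map_sub, h1, AlgHom.commutes, Algebra.algebraMap_eq_smul_one, sub_self]

theorem TT_one_tmul (R : Type u) [CommRing R] [Algebra k R] (g : A →ₐ[k] R) (v : V) :
    TT R g ((1 : R) ⊗ₜ[k] v) = tau R g v := by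
  rw [TT, LinearMap.liftBaseChange_tmul, one_smul]

attribute [local instance] Groth.Agent.Lib.Helper17.DynG.ptGroup

theorem fix_one (f : V) : Fix f k ((Algebra.ofId k k).comp (Bialgebra.counitAlgHom k A)) := by
  unfold Fix
  rw [← TT_one_tmul, TT_one, LinearMap.id_apply]

theorem fix_mul (f : V) (R : Type u) [CommRing R] [Algebra k R] (g₁ g₂ : A →ₐ[k] R)
    (h₁ : Fix f R g₁) (h₂ : Fix f R g₂) : Fix f R (toConv g₁ * toConv g₂).ofConv := by
  unfold Fix at h₁ h₂ ⊢
  rw [tau_convMul, h₂, TT_one_tmul, h₁]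

theorem fix_inv (f : V) (R : Type u) [CommRing R] [Algebra k R] (g : A →ₐ[k] R)
    (h : Fix f R g) : Fix f R (g.comp (HopfAlgebra.antipodeAlgHom k A)) := by
  unfold Fix at h ⊢
  have hTT' : TT (V := V) R (g.comp (HopfAlgebra.antipodeAlgHom k A)) ∘ₗ TT (V := V) R g =
      LinearMap.id := by
    rw [← TT_convMul, ← TT_one (A := A)]
    congr 1
    have h1 : toConv (g.comp (HopfAlgebra.antipodeAlgHom k A)) = (toConv g)⁻¹ := rfl
    rw [h1, inv_mul_cancel]
    rfl
  have h2 := LinearMap.congr_fun hTT' ((1 : R) ⊗ₜ[k] f)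
  rw [LinearMap.comp_apply, LinearMap.id_apply, TT_one_tmul, h, TT_one_tmul] at h2
  exact h2

theorem fix_map (f : V) (R R' : Type u) [CommRing R] [Algebra k R] [CommRing R'] [Algebra k R']
    (φ : R →ₐ[k] R') (g : A →ₐ[k] R) (h : Fix f R g) : Fix f R' (φ.comp g) := by
  have h1 := (represents_Jf (k := k) (A := A) f R g).2 h
  refine (represents_Jf (k := k) (A := A) f R' (φ.comp g)).1 (fun a ha => ?_)
  rw [AlgHom.comp_apply, h1 a ha, map_zero]

/-- The fixer of a vector is cut out by a Hopf ideal. -/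
theorem isHopfIdeal_Jf (f : V) : (Jf (k := k) (A := A) f).IsHopfIdeal k :=
  isHopfIdeal_of_represents _ _ (represents_Jf f) (fix_one f)
    (fun R _ _ g₁ g₂ h₁ h₂ => fix_mul f R g₁ g₂ h₁ h₂)
    (fun R _ _ g h => fix_inv f R g h)
    (fun R R' _ _ _ _ φ g h => fix_map f R R' φ g h)

theorem mem_quotInvariants_iff_Jf_le (f : V) (I : Ideal A) :
    f ∈ GLin.quotInvariants k A V I ↔ Jf (k := k) (A := A) f ≤ I := by
  have hrep : (∀ a ∈ Jf (k := k) (A := A) f, Ideal.Quotient.mkₐ k I a = 0) ↔
      Fix f (A ⧸ I) (Ideal.Quotient.mkₐ k I) :=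
    represents_Jf (k := k) (A := A) f (A ⧸ I) (Ideal.Quotient.mkₐ k I)
  rw [GLin.mem_quotInvariants_iff, ← fix_iff f (A ⧸ I) (Ideal.Quotient.mkₐ k I), ← hrep]
  constructor
  · intro h a ha
    have := h a ha
    exact (Ideal.Quotient.eq_zero_iff_mem).1 this
  · intro h a ha
    exact (Ideal.Quotient.eq_zero_iff_mem).2 (h ha)

end fix

end Groth.Agent.Lib.Helper75.FixHopf
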