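import Groth.Agent.Lib.Helper75.GITMu
import Groth.Agent.Lib.Helper75.ComodBasic

/-!
# Diagonalizable groups acting linearly: the numerical function is a maximum of characters (helper75)
-/

set_option autoImplicit false
universe u

open LaurentPolynomial TensorProduct

namespace Groth.Agent.Lib.Helper75.GITDiag

open Groth.Agent.Lib.Helper75 Groth.Agent.Lib.Helper75.GITMu

section Orbit

variable {k : Type u} [CommRing k] {A : Type u} [CommRing A] [Bialgebra k A]
  {ι : Type u} [Fintype ι] [HopfRep.Comod k A (MvPolynomial ι k)] [GLin.IsCoactAlg k A (MvPolynomial ι k)]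

theorem orbitHom_eq_cf (x : MvPolynomial ι k →ₐ[k] k) (f : MvPolynomial ι k) :
    GLin.orbitHom k A x f = cf (A := A) x.toLinearMap f := by
  have h1 : ∀ z : MvPolynomial ι k ⊗[k] A,
      (Algebra.TensorProduct.lid k A) ((Algebra.TensorProduct.map x (AlgHom.id k A)) z) =
        contractL A x.toLinearMap z := by
    intro z
    induction z using TensorProduct.induction_on with
    | zero => simp
    | tmul a b => simp
    | add a b ha hb => simp only [map_add, ha, hb]
  exact h1 _

theorem comul_orbitHom (x : MvPolynomial ι k →ₐ[k] k) (f : MvPolynomial ι k) :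
    CoalgebraStruct.comul (R := k) (GLin.orbitHom k A x f) =
      (GLin.orbitHom k A x).toLinearMap.rTensor A (HopfRep.Comod.coact (k := k) (A := A) f) := by
  have h : (GLin.orbitHom k A x).toLinearMap = cf (A := A) x.toLinearMap :=
    LinearMap.ext (orbitHom_eq_cf x)
  rw [orbitHom_eq_cf, comul_cf, h]

variable (M : ι → ι → A)
  (hM : ∀ i, HopfRep.Comod.coact (k := k) (A := A) (MvPolynomial.X i : MvPolynomial ι k) =
      ∑ j, (MvPolynomial.X j : MvPolynomial ι k) ⊗ₜ[k] M i j)

include hM in
theorem orbitHom_X (v : ι → k) (i : ι) :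
    GLin.orbitHom k A (GLin.vecPt k ι v) (MvPolynomial.X i) = ∑ j, v j • M i j := by
  rw [orbitHom_eq_cf, cf_apply]
  show contractL A _ (HopfRep.Comod.coact (k := k) (A := A) (MvPolynomial.X i : MvPolynomial ι k)) = _
  rw [hM, map_sum]
  simp

include hM in
theorem comul_orbitHom_X (x : MvPolynomial ι k →ₐ[k] k) (i : ι) :
    CoalgebraStruct.comul (R := k) (GLin.orbitHom k A x (MvPolynomial.X i)) =
      ∑ j, GLin.orbitHom k A x (MvPolynomial.X j) ⊗ₜ[k] M i j := by
  rw [comul_orbitHom, hM, map_sum]
  simp

end Orbit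

section Diag

variable {k : Type u} [Field k] {A : Type u} [CommRing A] [Bialgebra k A]

/-- the basis of group-like elements of the coordinate ring of a diagonalizable group -/
noncomputable def glBasis (hdiag : HopfRep.IsDiagonalizable k A) : Module.Basis (GroupLike k A) k A :=
  Module.Basis.mk (linearIndep_groupLikeVal (R := k) (A := A)) (by
    rw [top_le_iff]
    have : Set.range (GroupLike.val (R := k) (A := A)) = {a : A | IsGroupLikeElem k a} := by
      ext a
      constructor
      · rintro ⟨g, rfl⟩
        exact g.isGroupLikeElem_val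
      · intro ha
        exact ⟨⟨a, ha⟩, rfl⟩
    rw [this]
    exact hdiag)

@[simp] theorem glBasis_apply (hdiag : HopfRep.IsDiagonalizable k A) (g : GroupLike k A) :
    glBasis hdiag g = g.val := by
  simp [glBasis]

/-- the component of `a` along the group-like `g` is cut out by `hitL` of the coordinate functional -/
theorem hitL_coord (hdiag : HopfRep.IsDiagonalizable k A) (g : GroupLike k A) (a : A) :
    hitL ((glBasis hdiag).coord g) a = (glBasis hdiag).coord g a • g.val := by
  classical
  have h : hitL ((glBasis hdiag).coord g) =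
      (LinearMap.toSpanSingleton k A g.val) ∘ₗ ((glBasis hdiag).coord g) := by
    apply (glBasis hdiag).ext
    intro h
    simp only [hitL, LinearMap.coe_comp, Function.comp_apply, glBasis_apply,
      h.isGroupLikeElem_val.comul_eq_tmul_self, contractL_tmul, LinearMap.toSpanSingleton_apply]
    rw [← glBasis_apply hdiag h, Module.Basis.coord_apply, Module.Basis.repr_self, Finsupp.single_apply]
    by_cases hg : h = g
    · subst hg; simp
    · simp [hg]
  rw [h]
  simp

end Diag

section Main

variable {k : Type u} [Field k] {A : Type u} [CommRing A] [Bialgebra k A]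
  {ι : Type u} [Fintype ι] [HopfRep.Comod k A (MvPolynomial ι k)] [GLin.IsCoactAlg k A (MvPolynomial ι k)]
  (hdiag : HopfRep.IsDiagonalizable k A)
  (M : ι → ι → A)
  (hM : ∀ i, HopfRep.Comod.coact (k := k) (A := A) (MvPolynomial.X i : MvPolynomial ι k) =
      ∑ j, (MvPolynomial.X j : MvPolynomial ι k) ⊗ₜ[k] M i j)

/-- the component along the group-like `g` of the `i`-th coordinate of the orbit map of `v` -/
noncomputable def dcoef (v : ι → k) (i : ι) (g : GroupLike k A) : k :=
  (glBasis hdiag).repr (GLin.orbitHom k A (GLin.vecPt k ι v) (MvPolynomial.X i)) g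

include hM in
/-- the components of the orbit map are eigenvectors -/
theorem sum_dcoef_smul (v : ι → k) (i : ι) (g : GroupLike k A) :
    ∑ j, dcoef hdiag v j g • M i j = dcoef hdiag v i g • g.val := by
  have h1 := hitL_coord hdiag g (GLin.orbitHom k A (GLin.vecPt k ι v) (MvPolynomial.X i))
  rw [hitL, LinearMap.comp_apply, comul_orbitHom_X M hM, map_sum] at h1
  simp only [contractL_tmul, Module.Basis.coord_apply] at h1
  exact h1

include hM in
/-- the components of the orbit map along distinct group-likes are linearly independent vectors -/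
theorem dcoef_eq_zero_of_sum {α : Type*} (s : Finset α) (c : α → GroupLike k A)
    (hc : Function.Injective c) (v : ι → k)
    (h : ∀ i, ∑ a ∈ s, dcoef hdiag v i (c a) = 0) (a : α) (ha : a ∈ s) (i : ι) :
    dcoef hdiag v i (c a) = 0 := by
  have hli := ((glBasis hdiag).linearIndependent).comp c hc
  have h0 : ∑ a ∈ s, dcoef hdiag v i (c a) • ((glBasis hdiag) ∘ c) a = 0 := by
    have : ∀ a ∈ s, dcoef hdiag v i (c a) • ((glBasis hdiag) ∘ c) a =
        ∑ j, dcoef hdiag v j (c a) • M i j := by
      intro a _
      rw [sum_dcoef_smul hdiag M hM, Function.comp_apply, glBasis_apply]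
    rw [Finset.sum_congr rfl this, Finset.sum_comm]
    apply Finset.sum_eq_zero
    intro j _
    rw [← Finset.sum_smul, h j, zero_smul]
  exact linearIndependent_iff'.1 hli s _ h0 a ha

/-- the finite set of group-likes occurring in the matrix of the coaction -/
noncomputable def glSupp : Finset (GroupLike k A) :=
  letI := Classical.decEq (GroupLike k A)
  Finset.univ.biUnion fun p : ι × ι => ((glBasis hdiag).repr (M p.1 p.2)).support

include hM in
theorem dcoef_eq_zero_of_notMem (v : ι → k) (i : ι) (g : GroupLike k A) (hg : g ∉ glSupp hdiag M) :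
    dcoef hdiag v i g = 0 := by
  unfold dcoef
  rw [orbitHom_X M hM, map_sum, Finsupp.finsetSum_apply]
  apply Finset.sum_eq_zero
  intro j _
  rw [map_smul, Finsupp.smul_apply]
  have : (glBasis hdiag).repr (M i j) g = 0 := by
    by_contra hne
    apply hg
    classical
    unfold glSupp
    rw [Finset.mem_biUnion]
    exact ⟨(i, j), Finset.mem_univ _, Finsupp.mem_support_iff.2 hne⟩
  rw [this, smul_zero]

include hM in
theorem orbitHom_X_eq_sum (v : ι → k) (i : ι) :
    GLin.orbitHom k A (GLin.vecPt k ι v) (MvPolynomial.X i) =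
      ∑ g ∈ glSupp hdiag M, dcoef hdiag v i g • g.val := by
  have h1 := (glBasis hdiag).linearCombination_repr
    (GLin.orbitHom k A (GLin.vecPt k ι v) (MvPolynomial.X i))
  rw [Finsupp.linearCombination_apply] at h1
  rw [Finsupp.sum_of_support_subset _ (s := glSupp hdiag M) _ _ (by intro g _; simp)] at h1
  · rw [← h1]
    apply Finset.sum_congr rfl
    intro g _
    rw [glBasis_apply]
    rfl
  · intro g hg
    by_contra hn
    exact (Finsupp.mem_support_iff.1 hg) (dcoef_eq_zero_of_notMem hdiag M hM v i g hn)

include hM hdiag in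
/-- for a diagonalizable group acting linearly, the numerical function is the maximum of finitely many characters -/
theorem exists_weights :
    ∃ (N : ℕ) (χ : Fin N → A), (∀ j, IsGroupLikeElem k (χ j)) ∧
      ∀ v : ι → k, v ≠ 0 → ∃ I : Finset (Fin N), I.Nonempty ∧
        ∀ (lam : A →ₐc[k] k[T;T⁻¹]) (e : Fin N → ℤ), (∀ j, lam (χ j) = LaurentPolynomial.T (e j)) →
          ∀ m : ℤ, GLin.IsMu k A lam v m ↔ ((∀ j ∈ I, -e j ≤ m) ∧ ∃ j ∈ I, m = -e j) := by
  classical
  let G := glSupp hdiag M
  let eG := G.equivFin
  let c : Fin G.card → GroupLike k A := fun n => (eG.symm n).1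
  have hc : Function.Injective c := fun a b h => eG.symm.injective (Subtype.ext h)
  refine ⟨G.card, fun n => (c n).val, fun n => (c n).isGroupLikeElem_val, ?_⟩
  intro v hv
  let I : Finset (Fin G.card) := Finset.univ.filter fun a => ∃ i, dcoef hdiag v i (c a) ≠ 0
  have hsum : ∀ i, GLin.orbitHom k A (GLin.vecPt k ι v) (MvPolynomial.X i) =
      ∑ a : Fin G.card, dcoef hdiag v i (c a) • (c a).val := by
    intro i
    rw [orbitHom_X_eq_sum hdiag M hM, ← Finset.sum_coe_sort G,
      ← Equiv.sum_comp eG.symm (fun g : {x // x ∈ G} => dcoef hdiag v i g.1 • (g.1).val)]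
  refine ⟨I, ?_, ?_⟩
  · by_contra hI
    rw [Finset.not_nonempty_iff_eq_empty] at hI
    apply hv
    funext i
    have h1 := counit_orbitHom (A := A) (GLin.vecPt k ι v) (MvPolynomial.X i)
    rw [hsum i] at h1
    have h2 : ∀ a : Fin G.card, dcoef hdiag v i (c a) = 0 := by
      intro a
      by_contra hne
      have : a ∈ I := Finset.mem_filter.2 ⟨Finset.mem_univ _, i, hne⟩
      rw [hI] at this
      exact Finset.notMem_empty _ this
    simp only [h2, zero_smul, Finset.sum_const_zero, map_zero] at h1
    simpa using h1.symm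
  · intro lam e he m
    have horb : ∀ i, orb lam v i = ∑ a : Fin G.card, dcoef hdiag v i (c a) • T (e a) := by
      intro i
      unfold orb GLin.lamOrbit
      rw [AlgHom.comp_apply, hsum i]
      have h2 : ∀ z : A, ((lam : A →ₐ[k] k[T;T⁻¹]) z) = lam z := fun _ => rfl
      rw [h2, map_sum]
      apply Finset.sum_congr rfl
      intro a _
      rw [map_smul, he a]
    have hcoef : ∀ i (n : ℤ), (orb lam v i).coeff n =
        ∑ a ∈ Finset.univ.filter (fun a => e a = n), dcoef hdiag v i (c a) := by
      intro i n
      rw [horb i, AddMonoidAlgebra.coeff_sum, Finsupp.finsetSum_apply, Finset.sum_filter]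
      apply Finset.sum_congr rfl
      intro a _
      rw [AddMonoidAlgebra.coeff_smul, Finsupp.smul_apply]
      unfold T
      rw [AddMonoidAlgebra.coeff_single, Finsupp.single_apply]
      split_ifs <;> simp
    have hP : ∀ n : ℤ, (∃ i, (orb lam v i).coeff n ≠ 0) ↔ ∃ a ∈ I, e a = n := by
      intro n
      constructor
      · rintro ⟨i, hi⟩
        rw [hcoef] at hi
        obtain ⟨a, ha, hne⟩ := Finset.exists_ne_zero_of_sum_ne_zero hi
        exact ⟨a, Finset.mem_filter.2 ⟨Finset.mem_univ _, i, hne⟩, (Finset.mem_filter.1 ha).2⟩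
      · rintro ⟨a, haI, rfl⟩
        by_contra hcon
        push Not at hcon
        obtain ⟨i, hi⟩ := (Finset.mem_filter.1 haI).2
        apply hi
        exact dcoef_eq_zero_of_sum hdiag M hM (Finset.univ.filter (fun b => e b = e a)) c hc v
          (fun i => by rw [← hcoef]; exact hcon i) a (Finset.mem_filter.2 ⟨Finset.mem_univ _, rfl⟩) i
    rw [isMu_iff]
    constructor
    · rintro ⟨h1, h2⟩
      obtain ⟨a, haI, hae⟩ := (hP (-m)).1 h2
      refine ⟨fun j hj => ?_, a, haI, by omega⟩
      by_contra hlt
      rw [not_le] at hlt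
      have h3 : ∃ i, (orb lam v i).coeff (e j) ≠ 0 := (hP (e j)).2 ⟨j, hj, rfl⟩
      obtain ⟨i, hi⟩ := h3
      exact hi (h1 i (e j) (by omega))
    · rintro ⟨h1, a, haI, hae⟩
      refine ⟨fun i n hn => ?_, (hP (-m)).2 ⟨a, haI, by omega⟩⟩
      by_contra hne
      obtain ⟨b, hbI, hbe⟩ := (hP n).1 ⟨i, hne⟩
      have := h1 b hbI
      omega

end Main

end Groth.Agent.Lib.Helper75.GITDiag
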