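import Groth.Agent.Lib.Helper75.GLnRed
import Groth.Agent.Lib.Helper75.CTBasic

/-!
# The weight decomposition of the coordinate ring of `GL_n` under the scalar subgroup (helper75)
-/

set_option autoImplicit false
universe u

open TensorProduct LaurentPolynomial

namespace Groth.Agent.Lib.Helper75.GLnWeight

open Groth.Agent.Lib.Helper75 Groth.Agent.Lib.Helper75.LineStab Groth.Agent.Lib.Helper75.GLnRed CoordGrp

variable {k : Type u} [CommRing k] (r : ℕ)

/-- the coefficient functional on Laurent polynomials -/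
noncomputable def coeffL (h : ℤ) : k[T;T⁻¹] →ₗ[k] k :=
  Finsupp.lapply h ∘ₗ (AddMonoidAlgebra.coeffLinearEquiv k).toLinearMap

theorem coeffL_T (h w : ℤ) : coeffL (k := k) h (T w) = if w = h then 1 else 0 := by
  show (T w : k[T;T⁻¹]).coeff h = _
  rw [T_apply]

/-- the scalar one-parameter subgroup -/
noncomputable abbrev scal : GLn r k →ₐc[k] k[T;T⁻¹] := GLn.diag r k (fun _ => 1)

/-- projection onto the weight `h` part -/
noncomputable def wtProj (h : ℤ) : GLn r k →ₗ[k] GLn r k :=
  contractR (GLn r k) (coeffL h) ∘ₗ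
    (TensorProduct.map LinearMap.id ((scal r : GLn r k →ₐc[k] k[T;T⁻¹]) : GLn r k →ₗ[k] k[T;T⁻¹])) ∘ₗ
      CoalgebraStruct.comul (R := k)

theorem scal_wordMat (m c : ℕ) (U S : Fin m → Fin r) :
    scal (k := k) r (wordMat r m c U S) = if U = S then T ((m : ℤ) - r * c) else 0 := by
  unfold wordMat tupMat
  rw [map_mul, map_pow, GLn.diag_Dinv, map_prod]
  simp only [GLn.genMat, GLn.diag_X]
  rw [Fintype.prod_ite_zero]
  split_ifs with h1 h2 h2
  · rw [Finset.prod_const, Finset.card_univ, Fintype.card_fin, T_pow, T_pow, ← T_add]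
    congr 1
    simp
    ring
  · exact absurd (funext h1) h2
  · exact absurd (fun l => congrFun h2 l) h1
  · rw [mul_zero]

theorem wtProj_wordMat (h : ℤ) (m c : ℕ) (S T' : Fin m → Fin r) :
    wtProj r h (wordMat (k := k) r m c S T') = if (m : ℤ) - r * c = h then wordMat r m c S T' else 0 := by
  unfold wtProj
  simp only [LinearMap.coe_comp, Function.comp_apply]
  rw [(isCorep_wordMat r m c).comul, map_sum, map_sum]
  simp only [TensorProduct.map_tmul, LinearMap.id_apply]
  have : ∀ U : Fin m → Fin r, contractR (GLn r k) (coeffL h)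
      (wordMat r m c S U ⊗ₜ[k] ((scal r : GLn r k →ₐc[k] k[T;T⁻¹]) : GLn r k →ₗ[k] k[T;T⁻¹]) (wordMat r m c U T')) =
      if U = T' then (if (m : ℤ) - r * c = h then wordMat r m c S U else 0) else 0 := by
    intro U
    have h1 : ((scal r : GLn r k →ₐc[k] k[T;T⁻¹]) : GLn r k →ₗ[k] k[T;T⁻¹]) (wordMat r m c U T') =
        scal r (wordMat r m c U T') := rfl
    rw [h1, scal_wordMat, contractR_tmul]
    split_ifs with h2 h3
    · rw [coeffL_T, if_pos h3, one_smul]
    · rw [coeffL_T, if_neg h3, zero_smul]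
    · rw [map_zero, zero_smul]
  simp only [this]
  rw [Finset.sum_ite_eq' Finset.univ T']
  simp

section Coeff

variable {V : Type u} [AddCommGroup V] [Module k V]

omit [CommRing k] in
theorem map_id_rTensor {k : Type u} [CommRing k] {V A B C : Type*} [AddCommGroup V] [Module k V]
    [AddCommGroup A] [Module k A] [AddCommGroup B] [Module k B] [AddCommGroup C] [Module k C]
    (f : V →ₗ[k] C) (g : A →ₗ[k] B) (z : V ⊗[k] A) :
    TensorProduct.map LinearMap.id g (f.rTensor A z) = f.rTensor B (TensorProduct.map LinearMap.id g z) := by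
  induction z using TensorProduct.induction_on with
  | zero => simp
  | tmul x a => simp
  | add x y hx hy => simp only [map_add, hx, hy]

/-- coefficient functions of weight vectors have that weight -/
theorem wtProj_cfE (ρ : HopfRep.Comod k (GLn r k) V) (h : ℤ) (v : V)
    (hv : (GLin.comodAlong (scal r) ρ).coact v = v ⊗ₜ[k] (T h : k[T;T⁻¹])) (φ : V →ₗ[k] k) :
    wtProj r h (CT.cfE ρ φ v) = CT.cfE ρ φ v := by
  letI := ρ
  have h1 : CoalgebraStruct.comul (R := k) (CT.cfE ρ φ v) = (CT.cfE ρ φ).rTensor (GLn r k) (ρ.coact v) :=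
    comul_cf (A := GLn r k) φ v
  unfold wtProj
  simp only [LinearMap.coe_comp, Function.comp_apply]
  rw [h1, map_id_rTensor]
  rw [GLin.comodAlong_coact] at hv
  rw [hv, LinearMap.rTensor_tmul, contractR_tmul, coeffL_T, if_pos rfl, one_smul]

end Coeff

section Raise

/-- the span of the entries of a word matrix -/
noncomputable def Ew (m c : ℕ) : Submodule k (GLn r k) :=
  Submodule.span k {b | ∃ S T' : Fin m → Fin r, b = wordMat r m c S T'}

theorem wordMat_mem_Ew (m c : ℕ) (S T' : Fin m → Fin r) : wordMat (k := k) r m c S T' ∈ Ew r m c :=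
  Submodule.subset_span ⟨S, T', rfl⟩

theorem wordMat_append (m c : ℕ) (S T' : Fin m → Fin r) (σ τ : Fin r → Fin r) :
    wordMat (k := k) r (r + m) (c + 1) (Fin.append σ S) (Fin.append τ T') =
      GLn.Dinv ^ (c + 1) * (∏ i, GLn.X (σ i) (τ i)) * tupMat (ι₁ := Fin m) (GLn.genMat r k) S T' := by
  unfold wordMat tupMat
  rw [Fin.prod_univ_add]
  simp only [Fin.append_left, Fin.append_right]
  rw [mul_assoc]
  rfl

theorem Ew_le_succ (m c : ℕ) : Ew (k := k) r m c ≤ Ew r (r + m) (c + 1) := by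
  unfold Ew
  rw [Submodule.span_le]
  rintro _ ⟨S, T', rfl⟩
  have h1 : wordMat (k := k) r m c S T' =
      ∑ σ : Equiv.Perm (Fin r), Equiv.Perm.sign σ •
        wordMat (k := k) r (r + m) (c + 1) (Fin.append σ S) (Fin.append id T') := by
    simp only [wordMat_append]
    have h2 : ∀ σ : Equiv.Perm (Fin r), Equiv.Perm.sign σ •
        ((GLn.Dinv : GLn r k) ^ (c + 1) * (∏ i, GLn.X (σ i) (id i)) *
          tupMat (ι₁ := Fin m) (GLn.genMat r k) S T') =
        (GLn.Dinv : GLn r k) ^ (c + 1) * (Equiv.Perm.sign σ • ∏ i, GLn.genMat r k (σ i) i) *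
          tupMat (ι₁ := Fin m) (GLn.genMat r k) S T' := by
      intro σ
      rw [mul_smul_comm, smul_mul_assoc]
      rfl
    simp only [h2]
    rw [← Finset.sum_mul, ← Finset.mul_sum, ← Matrix.det_apply, ← GLn.det_eq, pow_succ, mul_assoc _ GLn.Dinv,
      GLn.Dinv_mul_det, mul_one]
    rfl
  rw [h1]
  apply Submodule.sum_mem
  intro σ _
  apply Submodule.smul_of_tower_mem
  exact Submodule.subset_span ⟨_, _, rfl⟩

theorem Ew_le_iter (m c d : ℕ) : Ew (k := k) r m c ≤ Ew r (d * r + m) (c + d) := by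
  induction d with
  | zero => simp
  | succ d ih =>
    refine ih.trans ?_
    have h := Ew_le_succ (k := k) r (d * r + m) (c + d)
    have e1 : r + (d * r + m) = (d + 1) * r + m := by ring
    have e2 : c + d + 1 = c + (d + 1) := by ring
    rw [e1, e2] at h
    exact h

end Raise

section Good

/-- `f` lies in `Ew a C` for all large `C`, with `a = h + r C` -/
def Good (h : ℤ) (f : GLn r k) : Prop :=
  ∃ C₀ : ℕ, ∀ C : ℕ, C₀ ≤ C → ∃ a : ℕ, (a : ℤ) = h + r * C ∧ f ∈ Ew r a C

theorem good_zero (hr : 0 < r) (h : ℤ) : Good (k := k) r h 0 := by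
  refine ⟨h.natAbs, fun C hC => ⟨(h + r * C).toNat, ?_, Submodule.zero_mem _⟩⟩
  rw [Int.toNat_of_nonneg]
  have h1 : (h.natAbs : ℤ) ≤ C := by exact_mod_cast hC
  have h2 : -(h.natAbs : ℤ) ≤ h := by
    rw [Int.natCast_natAbs]; exact neg_abs_le h
  have h3 : (C : ℤ) ≤ r * C := by
    have : (1 : ℤ) ≤ r := by exact_mod_cast hr
    nlinarith [Int.natCast_nonneg C]
  linarith

theorem good_add (h : ℤ) {f g : GLn r k} (hf : Good r h f) (hg : Good r h g) : Good r h (f + g) := by
  obtain ⟨C₁, h1⟩ := hf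
  obtain ⟨C₂, h2⟩ := hg
  refine ⟨max C₁ C₂, fun C hC => ?_⟩
  obtain ⟨a, ha, hfa⟩ := h1 C ((le_max_left _ _).trans hC)
  obtain ⟨a', ha', hga⟩ := h2 C ((le_max_right _ _).trans hC)
  have : a = a' := by
    have : (a : ℤ) = a' := by rw [ha, ha']
    exact_mod_cast this
  subst this
  exact ⟨a, ha, Submodule.add_mem _ hfa hga⟩

theorem good_smul (h : ℤ) (x : k) {f : GLn r k} (hf : Good r h f) : Good r h (x • f) := by
  obtain ⟨C₁, h1⟩ := hf
  refine ⟨C₁, fun C hC => ?_⟩
  obtain ⟨a, ha, hfa⟩ := h1 C hC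
  exact ⟨a, ha, Submodule.smul_mem _ x hfa⟩

theorem good_wordMat (h : ℤ) (m c : ℕ) (hm : (m : ℤ) - r * c = h) (S T' : Fin m → Fin r) :
    Good (k := k) r h (wordMat r m c S T') := by
  refine ⟨c, fun C hC => ⟨(C - c) * r + m, ?_, ?_⟩⟩
  · push_cast [Nat.cast_sub hC]
    rw [← hm]
    ring
  · have h1 := Ew_le_iter (k := k) r m c (C - c) (wordMat_mem_Ew r m c S T')
    have e : c + (C - c) = C := by omega
    rw [e] at h1
    exact h1

/-- everything of weight `h` is good -/
theorem good_wtProj (hr : 0 < r) (h : ℤ) (f : GLn r k) : Good r h (wtProj r h f) := by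
  have hf : f ∈ Submodule.span k {b : GLn r k | ∃ (i : ℕ × ℕ) (S T' : Fin i.1 → Fin r), b = wordMat r i.1 i.2 S T'} := by
    rw [span_wordMat]; trivial
  induction hf using Submodule.span_induction with
  | mem x hx =>
    obtain ⟨⟨m, c⟩, S, T', rfl⟩ := hx
    rw [wtProj_wordMat]
    split_ifs with hm
    · exact good_wordMat r h m c hm S T'
    · exact good_zero r hr h
  | zero => rw [map_zero]; exact good_zero r hr h
  | add x y _ _ hx hy => rw [map_add]; exact good_add r h hx hy
  | smul a x _ hx => rw [map_smul]; exact good_smul r h a hx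

end Good

section Common

variable {V : Type u} [AddCommGroup V] [Module k V]

/-- the span of the words of length `a` in the matrix entries -/
noncomputable def Lw (a : ℕ) : Submodule k (GLn r k) :=
  Submodule.span k {b | ∃ S T' : Fin a → Fin r, b = tupMat (ι₁ := Fin a) (GLn.genMat r k) S T'}

theorem mul_det_pow_mem_Lw (a C : ℕ) (f : GLn r k) (hf : f ∈ Ew r a C) :
    f * (GLn.det : GLn r k) ^ C ∈ Lw r a := by
  unfold Ew at hf
  induction hf using Submodule.span_induction with
  | mem x hx =>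
    obtain ⟨S, T', rfl⟩ := hx
    apply Submodule.subset_span
    refine ⟨S, T', ?_⟩
    unfold wordMat
    rw [mul_comm (GLn.Dinv ^ C), mul_assoc, ← mul_pow, GLn.Dinv_mul_det, one_pow, mul_one]
  | zero => rw [zero_mul]; exact Submodule.zero_mem _
  | add x y _ _ hx hy => rw [add_mul]; exact Submodule.add_mem _ hx hy
  | smul c x _ hx => rw [smul_mul_assoc]; exact Submodule.smul_mem _ c hx

/-- for a finite-dimensional comodule of weight `h`, all coefficient functions lie in one `Ew a C` -/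
theorem exists_common (hr : 0 < r) (ρ : HopfRep.Comod k (GLn r k) V) (h : ℤ)
    (hh : ∀ v : V, (GLin.comodAlong (scal r) ρ).coact v = v ⊗ₜ[k] (T h : k[T;T⁻¹]))
    {n : ℕ} (bas : Module.Basis (Fin n) k V) :
    ∃ a C : ℕ, 0 < C ∧ (a : ℤ) = h + r * C ∧ ∀ (j : Fin n) (w : V), CT.cfE ρ (bas.coord j) w ∈ Ew r a C := by
  have hgood : ∀ p : Fin n × Fin n, Good r h (CT.cfE ρ (bas.coord p.1) (bas p.2)) := by
    intro p
    rw [← wtProj_cfE r ρ h (bas p.2) (hh _) (bas.coord p.1)]
    exact good_wtProj r hr h _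
  choose C₀ hC₀ using hgood
  obtain ⟨C₁, hC₁⟩ := good_zero (k := k) r hr h
  let C : ℕ := max (Finset.univ.sup C₀) C₁ + 1
  obtain ⟨a, ha, -⟩ := hC₁ C (by dsimp only [C]; omega)
  refine ⟨a, C, Nat.succ_pos _, ha, ?_⟩
  intro j w
  have hsub : Submodule.comap (CT.cfE ρ (bas.coord j)) (Ew r a C) = ⊤ := by
    rw [eq_top_iff, ← bas.span_eq, Submodule.span_le]
    rintro _ ⟨j', rfl⟩
    have hle : C₀ (j, j') ≤ C := by
      have : C₀ (j, j') ≤ Finset.univ.sup C₀ := Finset.le_sup (Finset.mem_univ _)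
      dsimp only [C]; omega
    obtain ⟨a', ha', hmem⟩ := hC₀ (j, j') C hle
    have : a' = a := by
      have : (a' : ℤ) = a := by rw [ha, ha']
      exact_mod_cast this
    subst this
    exact hmem
  have : w ∈ Submodule.comap (CT.cfE ρ (bas.coord j)) (Ew r a C) := by rw [hsub]; trivial
  exact this

end Common

end Groth.Agent.Lib.Helper75.GLnWeight
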