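import Groth.Agent.Lib.Helper75.HopfShear

set_option autoImplicit false
universe u v w

open TensorProduct

namespace Groth.Agent.Lib.Helper75

section Epi

variable {k : Type u} [Field k] {A : Type v} {B : Type w}
  [CommRing A] [HopfAlgebra k A] [CommRing B] [HopfAlgebra k B]

open Algebra.TensorProduct

/-- `contractL ε` after the shear `y ⊗ x ↦ y₁ ⊗ y₂ x` is multiplication -/
theorem contractL_counit_shearΨ (t : A ⊗[k] A) :
    contractL A (CoalgebraStruct.counit (R := k) (A := A)) (shearΨ k A t) = LinearMap.mul' k A t := by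
  induction t using TensorProduct.induction_on with
  | zero => simp
  | tmul y x =>
    have h1 : shearΨ k A (y ⊗ₜ[k] x) = CoalgebraStruct.comul (R := k) y * (1 ⊗ₜ[k] x) := by
      simp [shearΨ]
    rw [h1, LinearMap.mul'_apply]
    generalize hΔ : CoalgebraStruct.comul (R := k) y = d
    have h2 : contractL A (CoalgebraStruct.counit (R := k) (A := A)) d = y := by
      rw [← hΔ]
      simp only [contractL, LinearMap.coe_comp, Function.comp_apply, LinearEquiv.coe_coe]
      rw [Coalgebra.rTensor_counit_comul]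
      simp
    rw [← h2]
    clear h2 hΔ h1
    induction d using TensorProduct.induction_on with
    | zero => simp
    | tmul a b => simp [Algebra.TensorProduct.tmul_mul_tmul]
    | add p q hp hq => rw [add_mul, map_add, map_add, hp, hq, add_mul]
  | add p q hp hq => rw [map_add, map_add, map_add, hp, hq]

section Main

variable [Algebra B A] [IsScalarTower k B A] (f : B →ₐc[k] A) (hf : ∀ b, algebraMap B A b = f b)

/-- `p ⊗ q ↦ q ⊗_B p` -/
noncomputable def flipCan : A ⊗[k] A →ₐ[k] A ⊗[B] A :=
  (Algebra.TensorProduct.mapOfCompatibleSMul B k k A A).comp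
    (Algebra.TensorProduct.comm k A A).toAlgHom

@[simp] theorem flipCan_tmul (p q : A) : flipCan (k := k) (B := B) (p ⊗ₜ[k] q) = q ⊗ₜ[B] p := by
  simp [flipCan]

/-- `u ⊗ v ↦ S(u₂) v ⊗_B u₁` -/
noncomputable def shearT : A ⊗[k] A →ₐ[k] A ⊗[B] A :=
  (flipCan (k := k) (B := B)).comp (shearΦ k A)

include hf in
theorem shearT_map_tmul_one (b : B) :
    shearT (k := k) (B := B) (f b ⊗ₜ[k] (1 : A)) =
      algebraMap k (A ⊗[B] A) (CoalgebraStruct.counit (R := k) b) := by
  have h1 : (shearΦ k A).comp includeLeft = (iL k A * (iR k A)⁻¹).ofConv := by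
    simp [shearΦ]
  have h2 : shearΦ k A (f b ⊗ₜ[k] (1 : A)) = (iL k A * (iR k A)⁻¹).ofConv (f b) := by
    rw [← h1]
    rfl
  rw [shearT, AlgHom.comp_apply, h2, AlgHom.convMul_apply]
  have h3 : CoalgebraStruct.comul (R := k) (f b) =
      TensorProduct.map (f : B →ₗc[k] A).toLinearMap (f : B →ₗc[k] A).toLinearMap
        (CoalgebraStruct.comul (R := k) b) := by
    have := CoalgHomClass.map_comp_comul (R := k) (f : B →ₗc[k] A)
    exact (LinearMap.congr_fun this b).symm
  have hanti := HopfAlgebra.mul_antipode_lTensor_comul_apply (R := k) (f b)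
  rw [h3] at hanti ⊢
  have hcou : CoalgebraStruct.counit (R := k) (f b) = CoalgebraStruct.counit (R := k) b := by
    have := CoalgHomClass.counit_comp (R := k) (f : B →ₗc[k] A)
    exact LinearMap.congr_fun this b
  rw [hcou] at hanti
  -- general statement about tensors in `B ⊗ B`
  have key : ∀ d : B ⊗[k] B,
      flipCan (k := k) (B := B) (Algebra.TensorProduct.lift (iL k A).ofConv ((iR k A)⁻¹).ofConv
        (fun _ _ => Commute.all _ _)
          (TensorProduct.map (f : B →ₗc[k] A).toLinearMap (f : B →ₗc[k] A).toLinearMap d)) =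
      (LinearMap.mul' k A ((HopfAlgebra.antipode k (A := A)).lTensor A
        (TensorProduct.map (f : B →ₗc[k] A).toLinearMap (f : B →ₗc[k] A).toLinearMap d))) ⊗ₜ[B] (1 : A) := by
    intro d
    induction d using TensorProduct.induction_on with
    | zero => simp
    | tmul b₁ b₂ =>
      simp only [TensorProduct.map_tmul, LinearMap.mul'_apply, LinearMap.lTensor_tmul,
        Algebra.TensorProduct.lift_tmul]
      have e1 : (iL k A).ofConv ((f : B →ₗc[k] A).toLinearMap b₁) = f b₁ ⊗ₜ[k] (1 : A) := rfl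
      have e2 : ((iR k A)⁻¹).ofConv ((f : B →ₗc[k] A).toLinearMap b₂) =
          (1 : A) ⊗ₜ[k] HopfAlgebra.antipode k (f b₂) := rfl
      rw [e1, e2, Algebra.TensorProduct.tmul_mul_tmul, mul_one, one_mul, flipCan_tmul]
      have e3 : (f : B →ₗc[k] A).toLinearMap b₁ = f b₁ := rfl
      have e4 : (f : B →ₗc[k] A).toLinearMap b₂ = f b₂ := rfl
      rw [e3, e4, ← hf b₁, Algebra.algebraMap_eq_smul_one, ← TensorProduct.smul_tmul, smul_mul_assoc,
        one_mul]
    | add p q hp hq => simp only [map_add, hp, hq, TensorProduct.add_tmul]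
  rw [key, hanti, Algebra.algebraMap_eq_smul_one, Algebra.algebraMap_eq_smul_one,
    ← TensorProduct.smul_tmul', Algebra.TensorProduct.one_def]

include hf in
theorem shearT_tmul_one
    (hker : Ideal.map f (RingHom.ker (Bialgebra.counitAlgHom k B)) =
      RingHom.ker (Bialgebra.counitAlgHom k A)) (u : A) :
    shearT (k := k) (B := B) (u ⊗ₜ[k] (1 : A)) =
      algebraMap k (A ⊗[B] A) (CoalgebraStruct.counit (R := k) u) := by
  let τ : A →ₐ[k] A ⊗[B] A := (shearT (k := k) (B := B)).comp includeLeft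
  have hτ : ∀ a, τ a = shearT (k := k) (B := B) (a ⊗ₜ[k] (1 : A)) := fun _ => rfl
  have hle : RingHom.ker (Bialgebra.counitAlgHom k A) ≤ RingHom.ker (τ : A →+* A ⊗[B] A) := by
    rw [← hker, Ideal.map_le_iff_le_comap]
    intro b hb
    rw [Ideal.mem_comap, RingHom.mem_ker]
    rw [RingHom.mem_ker] at hb
    show τ (f b) = 0
    rw [hτ, shearT_map_tmul_one f hf]
    have : CoalgebraStruct.counit (R := k) b = 0 := hb
    rw [this, map_zero]
  have hmem : u - algebraMap k A (CoalgebraStruct.counit (R := k) u) ∈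
      RingHom.ker (Bialgebra.counitAlgHom k A) := by
    rw [RingHom.mem_ker, map_sub, AlgHom.commutes]
    show CoalgebraStruct.counit (R := k) u - algebraMap k k (CoalgebraStruct.counit (R := k) u) = 0
    simp
  have h0 := hle hmem
  rw [RingHom.mem_ker] at h0
  have h1 : τ (u - algebraMap k A (CoalgebraStruct.counit (R := k) u)) = 0 := h0
  rw [map_sub, AlgHom.commutes, sub_eq_zero] at h1
  rw [← hτ]
  exact h1

include hf in
/-- under the trivial-kernel hypothesis, `x ⊗_B y = yx ⊗_B 1` -/
theorem tmul_eq_mul_tmul_one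
    (hker : Ideal.map f (RingHom.ker (Bialgebra.counitAlgHom k B)) =
      RingHom.ker (Bialgebra.counitAlgHom k A)) (x y : A) :
    x ⊗ₜ[B] y = (y * x) ⊗ₜ[B] (1 : A) := by
  -- `shearT t = contractL ε t ⊗ 1`
  have hT : ∀ t : A ⊗[k] A, shearT (k := k) (B := B) t =
      (contractL A (CoalgebraStruct.counit (R := k) (A := A)) t) ⊗ₜ[B] (1 : A) := by
    intro t
    induction t using TensorProduct.induction_on with
    | zero => simp
    | tmul u v =>
      have h1 : u ⊗ₜ[k] v = (u ⊗ₜ[k] (1 : A)) * ((1 : A) ⊗ₜ[k] v) := by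
        rw [Algebra.TensorProduct.tmul_mul_tmul, mul_one, one_mul]
      have h2 : shearT (k := k) (B := B) ((1 : A) ⊗ₜ[k] v) = v ⊗ₜ[B] (1 : A) := by
        simp [shearT, shearΦ]
      rw [h1, map_mul, shearT_tmul_one f hf hker, h2, ← h1, contractL_tmul, Algebra.algebraMap_eq_smul_one,
        smul_mul_assoc, one_mul, TensorProduct.smul_tmul']
    | add p q hp hq => rw [map_add, map_add, hp, hq, TensorProduct.add_tmul]
  have h3 : x ⊗ₜ[B] y = shearT (k := k) (B := B) (shearΨ k A (y ⊗ₜ[k] x)) := by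
    have h4 : shearΦ k A (shearΨ k A (y ⊗ₜ[k] x)) = y ⊗ₜ[k] x := by
      have := shearΦ_comp_shearΨ k A
      exact congrArg (fun g : A ⊗[k] A →ₐ[k] A ⊗[k] A => g (y ⊗ₜ[k] x)) this
    rw [shearT, AlgHom.comp_apply, h4, flipCan_tmul]
  rw [h3, hT, contractL_counit_shearΨ, LinearMap.mul'_apply]

end Main

end Epi

end Groth.Agent.Lib.Helper75
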