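import Groth.Agent.Lib.Helper75.HopfMaschke

set_option autoImplicit false
universe u v w w'

open TensorProduct

namespace Groth.Agent.Lib.Helper75

section TraceIntegral

variable {K : Type u} [CommRing K] {A : Type v} [CommRing A] [HopfAlgebra K A]

open Algebra.TensorProduct

theorem trace_one_tmul [Module.Free K A] [Module.Finite K A] (x : A) :
    Algebra.trace A (A ⊗[K] A) (1 ⊗ₜ[K] x) = algebraMap K A (Algebra.trace K A x) := by
  rw [Algebra.trace_apply, Algebra.trace_apply, ← LinearMap.trace_baseChange]
  congr 1
  ext a
  simp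

theorem trace_tmul [Module.Free K A] [Module.Finite K A] (y x : A) :
    Algebra.trace A (A ⊗[K] A) (y ⊗ₜ[K] x) = Algebra.trace K A x • y := by
  have : y ⊗ₜ[K] x = y • (1 ⊗ₜ[K] x : A ⊗[K] A) := by
    rw [TensorProduct.smul_tmul', smul_eq_mul, mul_one]
  rw [this, map_smul, trace_one_tmul, smul_eq_mul, Algebra.smul_def, mul_comm]

variable (K A) in
/-- the shear automorphism `y ⊗ x ↦ x₂ y ⊗ x₁` as a `K`-algebra automorphism -/
noncomputable def shearE : A ⊗[K] A ≃ₐ[K] A ⊗[K] A :=
  ((Algebra.TensorProduct.comm K A A).trans
    (AlgEquiv.ofAlgHom (shearΨ K A) (shearΦ K A) (shearΨ_comp_shearΦ K A) (shearΦ_comp_shearΨ K A))).trans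
    (Algebra.TensorProduct.comm K A A)

theorem shearE_tmul_one (y : A) : shearE K A (y ⊗ₜ[K] 1) = y ⊗ₜ[K] 1 := by
  simp [shearE, shearΨ]

theorem shearE_one_tmul (x : A) : shearE K A (1 ⊗ₜ[K] x) =
    Algebra.TensorProduct.comm K A A (Coalgebra.comul (R := K) x) := by
  simp [shearE, shearΨ, ← Algebra.TensorProduct.one_def]

variable (K A) in
/-- the shear automorphism as an `A`-algebra automorphism (`A` acting on the left factor) -/
noncomputable def shearE' : A ⊗[K] A ≃ₐ[A] A ⊗[K] A :=
  AlgEquiv.ofRingEquiv (f := (shearE K A).toRingEquiv) (by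
    intro y
    rw [Algebra.TensorProduct.algebraMap_apply]
    exact shearE_tmul_one y)

theorem trace_comm_comul [Module.Free K A] [Module.Finite K A] (x : A) :
    Algebra.trace A (A ⊗[K] A) (Algebra.TensorProduct.comm K A A (Coalgebra.comul (R := K) x)) =
      algebraMap K A (Algebra.trace K A x) := by
  rw [← shearE_one_tmul, ← trace_one_tmul]
  exact Algebra.trace_eq_of_algEquiv (shearE' K A) (1 ⊗ₜ[K] x)

theorem trace_comm_eq_contractL [Module.Free K A] [Module.Finite K A] (t : A ⊗[K] A) :
    Algebra.trace A (A ⊗[K] A) (Algebra.TensorProduct.comm K A A t) =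
      contractL A (Algebra.trace K A) t := by
  induction t using TensorProduct.induction_on with
  | zero => simp
  | tmul a b => rw [Algebra.TensorProduct.comm_tmul, trace_tmul, contractL_tmul]
  | add x y hx hy => rw [map_add, map_add, map_add, hx, hy]

/-- the trace form of a finite free commutative Hopf algebra is a left integral -/
theorem hitL_trace [Module.Free K A] [Module.Finite K A] (x : A) :
    hitL (Algebra.trace K A) x = Algebra.trace K A x • (1 : A) := by
  show contractL A (Algebra.trace K A) (Coalgebra.comul (R := K) x) = _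
  rw [← trace_comm_eq_contractL, trace_comm_comul, Algebra.algebraMap_eq_smul_one]

theorem hitL_smul' (c : K) (f : A →ₗ[K] K) (x : A) : hitL (c • f) x = c • hitL f x := by
  show contractL A (c • f) (Coalgebra.comul (R := K) x) = c • contractL A f (Coalgebra.comul (R := K) x)
  generalize Coalgebra.comul (R := K) x = t
  induction t using TensorProduct.induction_on with
  | zero => simp
  | tmul a b => simp [mul_smul]
  | add x y hx hy => rw [map_add, map_add, hx, hy, smul_add]

end TraceIntegral

section CharZero

variable {K : Type u} [Field K] [CharZero K] {A : Type v} [CommRing A] [HopfAlgebra K A] [Module.Finite K A]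

/-- finite commutative Hopf algebras over a field of characteristic zero have a total integral -/
theorem exists_total_integral :
    ∃ α : A →ₗ[K] K, (∀ a, hitL α a = α a • (1 : A)) ∧ α 1 = 1 := by
  have hnt : Nontrivial A := by
    refine ⟨⟨0, 1, fun h => ?_⟩⟩
    have := congrArg (Bialgebra.counitAlgHom K A) h
    simp at this
  have hfr : (Module.finrank K A : K) ≠ 0 := by
    have : 0 < Module.finrank K A := Module.finrank_pos
    exact_mod_cast this.ne'
  refine ⟨(Module.finrank K A : K)⁻¹ • Algebra.trace K A, ?_, ?_⟩
  · intro a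
    rw [hitL_smul', hitL_trace, LinearMap.smul_apply, smul_assoc]
  · rw [LinearMap.smul_apply, ← map_one (algebraMap K A), Algebra.trace_algebraMap]
    simp [hfr]

end CharZero

end Groth.Agent.Lib.Helper75
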