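import Groth.Agent.Lib.Helper75.ReynoldsInt
import Groth.Agent.Lib.Helper75.InvAdicB
import Mathlib.RingTheory.Filtration

/-!
# Invariants of a linearly reductive group acting on a Noetherian ring: adic topology on `M^G` (helper75)
-/

set_option autoImplicit false
set_option linter.style.haveILetI false
set_option linter.unusedSectionVars false
universe u v w w'

open TensorProduct

namespace Groth.Agent.Lib.Helper75.InvAdic

open Groth.Agent.Lib.Helper75 Groth.Agent.Lib.Helper75.ReyInt

section A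

variable {k : Type u} [Field k] {H : Type v} [CommRing H] [Bialgebra k H]
  {A : Type w} [CommRing A] [Algebra k A] [HopfRep.Comod k H A] [GLin.IsCoactAlg k H A]
  (β : H →ₗ[k] k) (hβ : ∀ a, hitR β a = β a • (1 : H)) (hβ1 : β 1 = 1)

theorem one_mem_fixedPts : (1 : A) ∈ HopfRep.fixedPts k H A := by
  show HopfRep.Comod.coact (k := k) (A := H) (1 : A) = (1 : A) ⊗ₜ[k] (1 : H)
  rw [GLin.IsCoactAlg.coact_one (k := k) (A := H) (R := A), Algebra.TensorProduct.one_def]

include hβ1 in
theorem act_one : act (A := H) β (1 : A) = 1 := act_of_mem_fixedPts β hβ1 1 one_mem_fixedPts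

theorem act_invariant_mul (b : A) (hb : b ∈ GLin.invariants k H A) (a : A) :
    act β (b * a) = b * act β a := by
  haveI := isHopfMod_self (k := k) (H := H) (A := A)
  exact act_invariant_smul (M := A) β b hb a

/-- the Reynolds operator valued in the ring of invariants -/
noncomputable def rey (a : A) : ↥(GLin.invariants k H A) := ⟨act β a, act_mem_fixedPts β hβ a⟩

variable (m : Ideal A) [m.IsMaximal] [IsLocalRing ↥(GLin.invariants k H A)]

theorem mem_maximalIdeal_of_mem (s : ↥(GLin.invariants k H A)) (hs : (s : A) ∈ m) :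
    s ∈ IsLocalRing.maximalIdeal ↥(GLin.invariants k H A) := by
  rw [IsLocalRing.mem_maximalIdeal, mem_nonunits_iff]
  intro hu
  have : IsUnit (s : A) := hu.map (GLin.invariants k H A).val
  exact (Ideal.IsMaximal.ne_top ‹m.IsMaximal›) (Ideal.eq_top_of_isUnit_mem _ hs this)

variable (hm : HopfRep.IsSubcomod (k := k) (A := H) (m.restrictScalars k))

include hβ hβ1 hm in
theorem coe_mem_of_mem_maximalIdeal (s : ↥(GLin.invariants k H A))
    (hs : s ∈ IsLocalRing.maximalIdeal ↥(GLin.invariants k H A)) : (s : A) ∈ m := by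
  by_contra hna
  obtain ⟨y, i, hi, hyi⟩ := Ideal.IsMaximal.exists_inv ‹m.IsMaximal› hna
  have h1 := congrArg (act (A := H) β) hyi
  rw [map_add, act_one β hβ1, mul_comm, act_invariant_mul β (s : A) s.2] at h1
  have hEi : act (A := H) β i ∈ m := act_mem_of_isSubcomod β (m.restrictScalars k) hm i hi
  have h2 : s * rey β hβ y + rey β hβ i = 1 := Subtype.ext h1
  have h3 : rey β hβ i ∈ IsLocalRing.maximalIdeal ↥(GLin.invariants k H A) :=
    mem_maximalIdeal_of_mem m _ hEi
  have h4 : (1 : ↥(GLin.invariants k H A)) ∈ IsLocalRing.maximalIdeal ↥(GLin.invariants k H A) := by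
    rw [← h2]
    exact Ideal.add_mem _ (Ideal.mul_mem_right _ _ hs) h3
  exact (Ideal.ne_top_iff_one _).1 (IsLocalRing.maximalIdeal.isMaximal _).ne_top h4

variable [IsNoetherianRing A]
variable {M : Type w'} [AddCommGroup M] [Module k M] [Module A M] [IsScalarTower k A M] [Module.Finite A M]
  [HopfRep.Comod k H M] [TameAct.IsHopfMod k H A M]

include hβ hβ1 hm in
/-- (i): an invariant element in the intersection of the `m ^ n M` is zero -/
theorem eq_zero_of_forall_mem (x : M) (hx : x ∈ HopfRep.fixedPts k H M)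
    (hmem : ∀ n : ℕ, x ∈ (m ^ n • ⊤ : Submodule A M)) : x = 0 := by
  have h1 : x ∈ (⨅ i : ℕ, m ^ i • ⊤ : Submodule A M) := (Submodule.mem_iInf _).2 hmem
  obtain ⟨r, hr⟩ := (Ideal.mem_iInf_smul_pow_eq_bot_iff m x).1 h1
  -- the annihilator of `x` is a subcomodule
  let φ : A →ₗ[k] M := (LinearMap.toSpanSingleton A M x).restrictScalars k
  have hφ : Hoch.IsComodHom H φ := isComodHom_smul_fixed x hx
  have hAnn : HopfRep.IsSubcomod (k := k) (A := H) (LinearMap.ker φ) := by
    rw [isSubcomod_iff]
    intro f a ha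
    rw [LinearMap.mem_ker] at ha ⊢
    rw [(isComodHom_iff φ).1 hφ f a, ha, map_zero]
  have hmemAnn : (1 - (r : A)) ∈ LinearMap.ker φ := by
    rw [LinearMap.mem_ker]
    show (1 - (r : A)) • x = 0
    rw [sub_smul, one_smul, hr, sub_self]
  have h2 := act_mem_of_isSubcomod β _ hAnn _ hmemAnn
  rw [map_sub, act_one β hβ1, LinearMap.mem_ker] at h2
  have h2' : (1 - act (A := H) β (r : A)) • x = 0 := h2
  have hEr : act (A := H) β (r : A) ∈ m := act_mem_of_isSubcomod β (m.restrictScalars k) hm _ r.2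
  have h3 : rey β hβ (r : A) ∈ IsLocalRing.maximalIdeal ↥(GLin.invariants k H A) :=
    mem_maximalIdeal_of_mem m _ hEr
  have hunit : IsUnit (1 - rey β hβ (r : A)) := by
    by_contra hnu
    have h5 : (1 - rey β hβ (r : A)) ∈ IsLocalRing.maximalIdeal ↥(GLin.invariants k H A) := by
      rw [IsLocalRing.mem_maximalIdeal, mem_nonunits_iff]
      exact hnu
    have h4 : (1 : ↥(GLin.invariants k H A)) ∈ IsLocalRing.maximalIdeal ↥(GLin.invariants k H A) := by
      have : (1 : ↥(GLin.invariants k H A)) = (1 - rey β hβ (r : A)) + rey β hβ (r : A) := by ring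
      rw [this]
      exact Ideal.add_mem _ h5 h3
    exact (Ideal.ne_top_iff_one _).1 (IsLocalRing.maximalIdeal.isMaximal _).ne_top h4
  obtain ⟨u, hu⟩ := hunit
  have h6 : ((u⁻¹ : (↥(GLin.invariants k H A))ˣ) : ↥(GLin.invariants k H A)) * (1 - rey β hβ (r : A)) = 1 := by
    rw [← hu]
    exact u.inv_mul
  have h7 := congrArg (fun s : ↥(GLin.invariants k H A) => (s : A)) h6
  simp only [Subalgebra.coe_mul, Subalgebra.coe_sub, Subalgebra.coe_one] at h7
  have h8 : (((u⁻¹ : (↥(GLin.invariants k H A))ˣ) : ↥(GLin.invariants k H A)) : A) *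
      (1 - act (A := H) β (r : A)) = 1 := h7
  calc x = (1 : A) • x := (one_smul _ _).symm
    _ = ((((u⁻¹ : (↥(GLin.invariants k H A))ˣ) : ↥(GLin.invariants k H A)) : A) *
          (1 - act (A := H) β (r : A))) • x := by rw [h8]
    _ = 0 := by rw [mul_smul, h2', smul_zero]

end A

end Groth.Agent.Lib.Helper75.InvAdic
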