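import Groth.Agent.Lib.Helper75.InvAdicA

/-!
# Invariants of a linearly reductive group acting on a Noetherian ring: `M^G` is complete for the topology induced by
the `m`-adic topology of `M` (helper75)
-/

set_option autoImplicit false
set_option linter.style.haveILetI false
set_option linter.unusedSectionVars false
universe u v w w'

open TensorProduct

namespace Groth.Agent.Lib.Helper75.InvAdic

open Groth.Agent.Lib.Helper75 Groth.Agent.Lib.Helper75.ReyInt

section C

variable {k : Type u} [Field k] {H : Type v} [CommRing H] [Bialgebra k H]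
  {A : Type w} [CommRing A] [Algebra k A] [HopfRep.Comod k H A] [GLin.IsCoactAlg k H A]
  (β : H →ₗ[k] k) (hβ : ∀ a, hitR β a = β a • (1 : H)) (hβ1 : β 1 = 1)
variable {M : Type w'} [AddCommGroup M] [Module k M] [Module A M] [IsScalarTower k A M]
  [HopfRep.Comod k H M] [TameAct.IsHopfMod k H A M]

theorem smul_mem_fixedPts (b : A) (hb : b ∈ GLin.invariants k H A) (x : M) (hx : x ∈ HopfRep.fixedPts k H M) :
    b • x ∈ HopfRep.fixedPts k H M := by
  show HopfRep.Comod.coact (k := k) (A := H) (b • x) = (b • x) ⊗ₜ[k] (1 : H)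
  have hb' : HopfRep.Comod.coact (k := k) (A := H) b = b ⊗ₜ[k] (1 : H) := hb
  have hx' : HopfRep.Comod.coact (k := k) (A := H) x = x ⊗ₜ[k] (1 : H) := hx
  rw [TameAct.IsHopfMod.coact_smul, hb', hx', TameAct.hmSMul_tmul, one_mul]

variable (k H A M) in
/-- the invariants of `M`, as a module over the ring of invariants of `A` -/
def invSub : Submodule ↥(GLin.invariants k H A) M where
  carrier := {x | x ∈ HopfRep.fixedPts k H M}
  add_mem' := fun ha hb => (HopfRep.fixedPts k H M).add_mem ha hb
  zero_mem' := (HopfRep.fixedPts k H M).zero_mem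
  smul_mem' := fun b x hx => by
    rw [Set.mem_ofPred_eq, Subalgebra.smul_def]
    exact smul_mem_fixedPts (b : A) b.2 x hx

theorem mem_invSub (x : M) : x ∈ invSub k H A M ↔ x ∈ HopfRep.fixedPts k H M := Iff.rfl

variable [IsNoetherianRing A] [Module.Finite A M]

include hβ hβ1 in
/-- the invariants of a finite `A`-module are a finite module over the invariants of `A` -/
theorem finite_invSub : Module.Finite ↥(GLin.invariants k H A) ↥(invSub k H A M) := by
  classical
  have hfg : (Submodule.span A {x : M | x ∈ HopfRep.fixedPts k H M}).FG := IsNoetherian.noetherian _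
  obtain ⟨T, hTsub, hTspan⟩ := (Submodule.fg_span_iff_fg_span_finset_subset _).1 hfg
  let g : T → ↥(invSub k H A M) := fun t => ⟨t.1, hTsub t.2⟩
  rw [Module.finite_def, Submodule.fg_def]
  refine ⟨Set.range g, Set.finite_range g, ?_⟩
  rw [eq_top_iff]
  rintro ⟨x, hx⟩ -
  have hxs : x ∈ Submodule.span A (T : Set M) := by
    rw [← hTspan]
    exact Submodule.subset_span hx
  obtain ⟨f, hf⟩ := Submodule.mem_span_finset'.1 hxs
  have hE : x = ∑ t : T, act (A := H) β (f t) • t.1 := by
    have h1 : act (A := H) β x = x := act_of_mem_fixedPts β hβ1 x hx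
    rw [← h1, ← hf, map_sum]
    apply Finset.sum_congr rfl
    intro t _
    exact act_smul_fixed β (f t) t.1 (hTsub t.2)
  have hE' : (⟨x, hx⟩ : ↥(invSub k H A M)) = ∑ t : T, rey β hβ (f t) • g t := by
    apply Subtype.ext
    rw [Submodule.coe_sum]
    exact hE
  rw [hE']
  exact Submodule.sum_mem _ fun t _ => Submodule.smul_mem _ _ (Submodule.subset_span ⟨t, rfl⟩)

variable (m : Ideal A) [m.IsMaximal] [IsLocalRing ↥(GLin.invariants k H A)]
  [IsNoetherianRing ↥(GLin.invariants k H A)]
  [IsAdicComplete (IsLocalRing.maximalIdeal ↥(GLin.invariants k H A)) ↥(GLin.invariants k H A)]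
  (hm : HopfRep.IsSubcomod (k := k) (A := H) (m.restrictScalars k))

variable (k H M) in
/-- the filtration of the invariants induced by the `m`-adic filtration -/
def filt (n : ℕ) : Submodule ↥(GLin.invariants k H A) ↥(invSub k H A M) :=
  Submodule.comap (invSub k H A M).subtype ((m ^ n • ⊤ : Submodule A M).restrictScalars ↥(GLin.invariants k H A))

theorem mem_filt (n : ℕ) (x : ↥(invSub k H A M)) : x ∈ filt k H M m n ↔ (x : M) ∈ (m ^ n • ⊤ : Submodule A M) :=
  Iff.rfl

include hβ hβ1 hm in
/-- (ii): invariant Cauchy sequences for the `m`-adic topology have invariant limits -/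
theorem exists_invariant_limit (x : ℕ → M) (hx : ∀ n, x n ∈ HopfRep.fixedPts k H M)
    (hc : ∀ n, x (n + 1) - x n ∈ (m ^ n • ⊤ : Submodule A M)) :
    ∃ y ∈ HopfRep.fixedPts k H M, ∀ n, y - x n ∈ (m ^ n • ⊤ : Submodule A M) := by
  haveI := finite_invSub (M := M) (A := A) β hβ hβ1
  haveI : IsPrecomplete (IsLocalRing.maximalIdeal ↥(GLin.invariants k H A)) ↥(invSub k H A M) :=
    isPrecomplete_of_finite _
  have hanti : Antitone (filt k H M m) := by
    intro a b hab z hz
    rw [mem_filt] at hz ⊢
    exact Submodule.smul_mono_left (Ideal.pow_le_pow_right hab) hz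
  have hbot : ⨅ q, filt k H M m q = ⊥ := by
    rw [eq_bot_iff]
    intro z hz
    rw [Submodule.mem_iInf] at hz
    rw [Submodule.mem_bot]
    apply Subtype.ext
    exact eq_zero_of_forall_mem β hβ hβ1 m hm (z : M) z.2 (fun n => (mem_filt m n z).1 (hz n))
  obtain ⟨y, hy⟩ := exists_limit_of_filtration (filt k H M m) hanti hbot
    (fun n => (⟨x n, hx n⟩ : ↥(invSub k H A M))) (fun n => (mem_filt m n _).2 (hc n))
  exact ⟨(y : M), y.2, fun n => (mem_filt m n _).1 (hy n)⟩

end C

end Groth.Agent.Lib.Helper75.InvAdic
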