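import Mathlib

/-!
# Kempf's lemma on the lattice maximizer of a min-linear function over the norm (helper75)
-/

set_option autoImplicit false
universe u

open scoped RealInnerProductSpace

namespace Groth.Agent.Lib.Helper75.Kempf

variable {E : Type u} [NormedAddCommGroup E] [InnerProductSpace ℝ E]

section MinLinear

variable (S : Finset (Module.Dual ℝ E)) (hS : S.Nonempty)

/-- the minimum of finitely many linear functionals -/
noncomputable def mn (v : E) : ℝ := S.inf' hS (fun f => f v)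

theorem mn_le {f : Module.Dual ℝ E} (hf : f ∈ S) (v : E) : mn S hS v ≤ f v :=
  Finset.inf'_le (fun f => f v) hf

theorem le_mn_iff (c : ℝ) (v : E) : c ≤ mn S hS v ↔ ∀ f ∈ S, c ≤ f v := by
  unfold mn
  rw [Finset.le_inf'_iff]

theorem exists_eq_mn (v : E) : ∃ f ∈ S, mn S hS v = f v :=
  Finset.exists_mem_eq_inf' hS (fun f => f v)

theorem mn_smul {t : ℝ} (ht : 0 ≤ t) (v : E) : mn S hS (t • v) = t * mn S hS v := by
  apply le_antisymm
  · obtain ⟨f, hf, hfv⟩ := exists_eq_mn S hS v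
    rw [hfv]
    have := mn_le S hS hf (t • v)
    rwa [map_smul, smul_eq_mul] at this
  · rw [le_mn_iff]
    intro f hf
    rw [map_smul, smul_eq_mul]
    exact mul_le_mul_of_nonneg_left (mn_le S hS hf v) ht

theorem mn_zero : mn S hS (0 : E) = 0 := by
  have := mn_smul S hS (le_refl (0 : ℝ)) (0 : E)
  simpa using this

theorem mn_add_le (a b : E) : mn S hS a + mn S hS b ≤ mn S hS (a + b) := by
  rw [le_mn_iff]
  intro f hf
  rw [map_add]
  exact add_le_add (mn_le S hS hf a) (mn_le S hS hf b)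

variable [FiniteDimensional ℝ E]

theorem continuous_mn : Continuous (mn S hS) := by
  unfold mn
  apply Continuous.finset_inf'_apply hS
  intro f _
  exact LinearMap.continuous_of_finiteDimensional f

end MinLinear

section Max

variable [FiniteDimensional ℝ E]
  (F G : Finset (Module.Dual ℝ E)) (hF : F.Nonempty) (hG : G.Nonempty)

/-- the objective function -/
noncomputable def phi (v : E) : ℝ := mn G hG v / ‖v‖

theorem phi_smul {t : ℝ} (ht : 0 < t) (v : E) : phi G hG (t • v) = phi G hG v := by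
  unfold phi
  rw [mn_smul G hG ht.le, norm_smul, Real.norm_of_nonneg ht.le]
  by_cases hv : ‖v‖ = 0
  · rw [hv]; simp
  · field_simp

/-- the maximum is attained, at a unit vector -/
theorem exists_max (hpos : ∃ v : E, 0 ≤ mn F hF v ∧ 0 < mn G hG v) :
    ∃ u : E, ‖u‖ = 1 ∧ 0 ≤ mn F hF u ∧ 0 < mn G hG u ∧
      ∀ v : E, v ≠ 0 → 0 ≤ mn F hF v → phi G hG v ≤ mn G hG u := by
  obtain ⟨v₁, hv₁F, hv₁G⟩ := hpos
  have hv₁ : v₁ ≠ 0 := by
    rintro rfl
    rw [mn_zero] at hv₁G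
    exact lt_irrefl _ hv₁G
  let K : Set E := Metric.sphere (0 : E) 1 ∩ {v | 0 ≤ mn F hF v}
  have hK : IsCompact K := by
    apply IsCompact.inter_right (isCompact_sphere 0 1)
    exact isClosed_le continuous_const (continuous_mn F hF)
  have hnorm : 0 < ‖v₁‖ := norm_pos_iff.2 hv₁
  have hKne : K.Nonempty := by
    refine ⟨(‖v₁‖⁻¹) • v₁, ?_, ?_⟩
    · rw [mem_sphere_zero_iff_norm, norm_smul, norm_inv, norm_norm, inv_mul_cancel₀ hnorm.ne']
    · show 0 ≤ mn F hF ((‖v₁‖⁻¹) • v₁)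
      rw [mn_smul F hF (inv_nonneg.2 hnorm.le)]
      exact mul_nonneg (inv_nonneg.2 hnorm.le) hv₁F
  obtain ⟨u, huK, humax⟩ := hK.exists_isMaxOn hKne (continuous_mn G hG).continuousOn
  have hu1 : ‖u‖ = 1 := mem_sphere_zero_iff_norm.1 huK.1
  have key : ∀ v : E, v ≠ 0 → 0 ≤ mn F hF v → phi G hG v ≤ mn G hG u := by
    intro v hv hvF
    have hn : 0 < ‖v‖ := norm_pos_iff.2 hv
    have hmem : (‖v‖⁻¹) • v ∈ K := by
      refine ⟨?_, ?_⟩
      · rw [mem_sphere_zero_iff_norm, norm_smul, norm_inv, norm_norm, inv_mul_cancel₀ hn.ne']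
      · show 0 ≤ mn F hF ((‖v‖⁻¹) • v)
        rw [mn_smul F hF (inv_nonneg.2 hn.le)]
        exact mul_nonneg (inv_nonneg.2 hn.le) hvF
    have := humax hmem
    simp only [Set.mem_ofPred_eq] at this
    rw [mn_smul G hG (inv_nonneg.2 hn.le)] at this
    unfold phi
    rw [div_eq_inv_mul]
    exact this
  refine ⟨u, hu1, huK.2, ?_, key⟩
  have h1 := key v₁ hv₁ hv₁F
  have h2 : 0 < phi G hG v₁ := div_pos hv₁G hnorm
  linarith

omit [FiniteDimensional ℝ E] in
/-- the maximizing ray is unique -/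
theorem ray_unique (u : E) (hu : ‖u‖ = 1) (huF : 0 ≤ mn F hF u) (huG : 0 < mn G hG u)
    (hmax : ∀ v : E, v ≠ 0 → 0 ≤ mn F hF v → phi G hG v ≤ mn G hG u)
    (v : E) (hv : v ≠ 0) (hvF : 0 ≤ mn F hF v) (hvφ : phi G hG v = mn G hG u) : v = ‖v‖ • u := by
  have hn : 0 < ‖v‖ := norm_pos_iff.2 hv
  set a : E := (‖v‖⁻¹) • v with ha
  have ha1 : ‖a‖ = 1 := by
    rw [ha, norm_smul, norm_inv, norm_norm, inv_mul_cancel₀ hn.ne']
  have haF : 0 ≤ mn F hF a := by
    rw [ha, mn_smul F hF (inv_nonneg.2 hn.le)]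
    exact mul_nonneg (inv_nonneg.2 hn.le) hvF
  have haG : mn G hG a = mn G hG u := by
    rw [ha, mn_smul G hG (inv_nonneg.2 hn.le), ← hvφ]
    unfold phi
    rw [div_eq_inv_mul]
  have hau : a = u := by
    by_contra hne
    have hray : ¬ SameRay ℝ a u := by
      rw [sameRay_iff_of_norm_eq (ha1.trans hu.symm)]
      exact hne
    have hlt : ‖a + u‖ < 2 := by
      have := norm_add_lt_of_not_sameRay hray
      rw [ha1, hu] at this
      linarith
    have hcG : 2 * mn G hG u ≤ mn G hG (a + u) := by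
      have := mn_add_le G hG a u
      rw [haG] at this
      linarith
    have hcF : 0 ≤ mn F hF (a + u) := by
      have := mn_add_le F hF a u
      linarith
    have hc0 : a + u ≠ 0 := by
      intro h0
      rw [h0, mn_zero] at hcG
      linarith
    have hcn : 0 < ‖a + u‖ := norm_pos_iff.2 hc0
    have h1 := hmax (a + u) hc0 hcF
    unfold phi at h1
    rw [div_le_iff₀ hcn] at h1
    nlinarith
  rw [← hau, ha, smul_smul, mul_inv_cancel₀ hn.ne', one_smul]

end Max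

section KKT

variable [FiniteDimensional ℝ E] (F G : Finset (Module.Dual ℝ E))

/-- first-order optimality of the nearest point of a polyhedron to the origin -/
theorem kkt (w : E) (hwG : ∀ g ∈ G, 1 ≤ g w) (hwF : ∀ f ∈ F, 0 ≤ f w)
    (hmin : ∀ v : E, (∀ g ∈ G, 1 ≤ g v) → (∀ f ∈ F, 0 ≤ f v) → ‖w‖ ≤ ‖v‖)
    (d : E) (hdG : ∀ g ∈ G, g w = 1 → g d = 0) (hdF : ∀ f ∈ F, f w = 0 → f d = 0) :
    (inner ℝ w d) = 0 := by
  have hcont : ∀ h : Module.Dual ℝ E, Continuous (fun t : ℝ => h (w + t • d)) := by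
    intro h
    have : (fun t : ℝ => h (w + t • d)) = fun t : ℝ => h w + t * h d := by
      funext t
      rw [map_add, map_smul, smul_eq_mul]
    rw [this]
    fun_prop
  have hG' : ∀ᶠ t in nhds (0 : ℝ), ∀ g ∈ G, 1 ≤ g (w + t • d) := by
    rw [Filter.eventually_all_finset]
    intro g hg
    by_cases hact : g w = 1
    · apply Filter.Eventually.of_forall
      intro t
      rw [map_add, map_smul, hdG g hg hact, smul_zero, add_zero]
      exact hwG g hg
    · have hlt : 1 < g w := lt_of_le_of_ne (hwG g hg) (Ne.symm hact)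
      have h0 : (1 : ℝ) < (fun t : ℝ => g (w + t • d)) 0 := by simpa using hlt
      have := ((hcont g).tendsto 0).eventually_const_lt h0
      exact this.mono fun t ht => le_of_lt ht
  have hF' : ∀ᶠ t in nhds (0 : ℝ), ∀ f ∈ F, 0 ≤ f (w + t • d) := by
    rw [Filter.eventually_all_finset]
    intro f hf
    by_cases hact : f w = 0
    · apply Filter.Eventually.of_forall
      intro t
      rw [map_add, map_smul, hdF f hf hact, smul_zero, add_zero]
      exact hwF f hf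
    · have hlt : 0 < f w := lt_of_le_of_ne (hwF f hf) (Ne.symm hact)
      have h0 : (0 : ℝ) < (fun t : ℝ => f (w + t • d)) 0 := by simpa using hlt
      have := ((hcont f).tendsto 0).eventually_const_lt h0
      exact this.mono fun t ht => le_of_lt ht
  have hloc : IsLocalMin (fun t : ℝ => ‖w‖ ^ 2 + 2 * t * (inner ℝ w d) + t ^ 2 * ‖d‖ ^ 2) 0 := by
    filter_upwards [hG', hF'] with t htG htF
    have h1 := hmin (w + t • d) htG htF
    have h2 : ‖w + t • d‖ ^ 2 = ‖w‖ ^ 2 + 2 * t * (inner ℝ w d) + t ^ 2 * ‖d‖ ^ 2 := by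
      rw [norm_add_sq_real, inner_smul_right, norm_smul, mul_pow, Real.norm_eq_abs, sq_abs]
      ring
    have h3 : ‖w‖ ^ 2 ≤ ‖w + t • d‖ ^ 2 := by
      apply pow_le_pow_left₀ (norm_nonneg _) h1
    simp only [zero_pow, ne_eq, OfNat.ofNat_ne_zero, not_false_eq_true, mul_zero, zero_mul, add_zero]
    linarith
  have hder : HasDerivAt (fun t : ℝ => ‖w‖ ^ 2 + 2 * t * (inner ℝ w d) + t ^ 2 * ‖d‖ ^ 2)
      (2 * (inner ℝ w d)) 0 := by
    have h1 : HasDerivAt (fun t : ℝ => 2 * t * (inner ℝ w d)) (2 * (inner ℝ w d)) 0 := by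
      have := ((hasDerivAt_id (0 : ℝ)).const_mul 2).mul_const ((inner ℝ w d))
      simpa using this
    have h2 : HasDerivAt (fun t : ℝ => t ^ 2 * ‖d‖ ^ 2) 0 0 := by
      have := ((hasDerivAt_pow 2 (0 : ℝ))).mul_const (‖d‖ ^ 2)
      simpa using this
    have := (h1.const_add (‖w‖ ^ 2)).add h2
    have e : (fun t : ℝ => ‖w‖ ^ 2 + 2 * t * (inner ℝ w d) + t ^ 2 * ‖d‖ ^ 2) =
        ((fun x : ℝ => ‖w‖ ^ 2 + 2 * x * (inner ℝ w d)) + fun t : ℝ => t ^ 2 * ‖d‖ ^ 2) := by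
      funext t
      rfl
    rw [e]
    simpa using this
  have := hloc.hasDerivAt_eq_zero hder
  linarith

end KKT

section Rational

/-- a `ℚ`-linear retraction `ℝ → ℚ`, as an additive endomorphism of `ℝ` with rational values -/
theorem exists_ratRetract : ∃ ρ : ℝ →+ ℝ, ρ 1 = 1 ∧ (∀ (x : ℝ) (n : ℤ), ρ (x * n) = ρ x * n) ∧
    ∀ x, ∃ q : ℚ, ρ x = q := by
  have hinj : LinearMap.ker (Algebra.linearMap ℚ ℝ) = ⊥ := by
    rw [LinearMap.ker_eq_bot]
    exact (algebraMap ℚ ℝ).injective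
  obtain ⟨π, hπ⟩ := LinearMap.exists_leftInverse_of_injective (Algebra.linearMap ℚ ℝ) hinj
  refine ⟨((Rat.castHom ℝ : ℚ →+* ℝ) : ℚ →+ ℝ).comp π.toAddMonoidHom, ?_, ?_, ?_⟩
  · have := LinearMap.congr_fun hπ 1
    simp only [LinearMap.coe_comp, Function.comp_apply, Algebra.linearMap_apply, map_one,
      LinearMap.id_coe, id_eq] at this
    show ((π (1 : ℝ) : ℚ) : ℝ) = 1
    rw [this]
    simp
  · intro x n
    have h1 : x * (n : ℝ) = (n : ℚ) • x := by
      rw [Rat.smul_def]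
      push_cast
      ring
    show ((π (x * (n : ℝ)) : ℚ) : ℝ) = ((π x : ℚ) : ℝ) * n
    rw [h1, map_smul, smul_eq_mul]
    push_cast
    ring
  · intro x
    exact ⟨π x, rfl⟩

variable [FiniteDimensional ℝ E]

/-- a point determined by integral linear conditions of Kuhn–Tucker type has rational coordinates -/
theorem rational_of_kkt {ι : Type*} [Fintype ι] (b : Module.Basis ι ℝ E) (H : Finset (Module.Dual ℝ E))
    (c : Module.Dual ℝ E → ℝ) (hc : ∀ h ∈ H, c h = 0 ∨ c h = 1)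
    (hb : ∀ h ∈ H, ∀ i, ∃ n : ℤ, h (b i) = n) (hΓ : ∀ i j, ∃ n : ℤ, inner ℝ (b i) (b j) = (n : ℝ))
    (w : E) (hw : ∀ h ∈ H, h w = c h) (hperp : ∀ d : E, (∀ h ∈ H, h d = 0) → inner ℝ w d = 0) :
    ∀ i, ∃ q : ℚ, b.repr w i = q := by
  classical
  obtain ⟨ρ, hρ1, hρn, hρq⟩ := exists_ratRetract
  -- the multipliers
  have hspan : innerₛₗ ℝ w ∈ Submodule.span ℝ (Set.range (fun h : H => (h : Module.Dual ℝ E))) := by
    apply mem_span_of_iInf_ker_le_ker
    intro d hd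
    rw [Submodule.mem_iInf] at hd
    rw [LinearMap.mem_ker, innerₛₗ_apply_apply]
    apply hperp
    intro h hh
    exact LinearMap.mem_ker.1 (hd ⟨h, hh⟩)
  obtain ⟨lam, hlam⟩ := (Submodule.mem_span_range_iff_exists_fun ℝ).1 hspan
  choose n hn using fun (h : H) (i : ι) => hb h.1 h.2 i
  choose Γ hΓ' using hΓ
  set x : ι → ℝ := fun i => b.repr w i with hx
  have hwsum : w = ∑ i, x i • b i := (b.sum_repr w).symm
  set w' : E := ∑ i, ρ (x i) • b i with hw'
  -- the active constraints hold at w'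
  have h1 : ∀ h : H, (h : Module.Dual ℝ E) w' = c h := by
    intro h
    have e1 : (h : Module.Dual ℝ E) w = ∑ i, x i * (n h i : ℝ) := by
      conv_lhs => rw [hwsum]
      rw [map_sum]
      apply Finset.sum_congr rfl
      intro i _
      rw [map_smul, smul_eq_mul, hn h i]
    have e2 : (h : Module.Dual ℝ E) w' = ∑ i, ρ (x i) * (n h i : ℝ) := by
      rw [hw', map_sum]
      apply Finset.sum_congr rfl
      intro i _
      rw [map_smul, smul_eq_mul, hn h i]
    have e3 : ρ ((h : Module.Dual ℝ E) w) = (h : Module.Dual ℝ E) w' := by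
      rw [e1, e2, map_sum]
      apply Finset.sum_congr rfl
      intro i _
      exact hρn _ _
    rw [← e3, hw h.1 h.2]
    rcases hc h.1 h.2 with h0 | h0
    · rw [h0, map_zero]
    · rw [h0, hρ1]
  -- the gradient condition holds at w'
  have h2 : ∀ j, inner ℝ w' (b j) = ∑ h : H, ρ (lam h) * (n h j : ℝ) := by
    intro j
    have e1 : inner ℝ w (b j) = ∑ i, x i * (Γ i j : ℝ) := by
      conv_lhs => rw [hwsum]
      rw [sum_inner]
      apply Finset.sum_congr rfl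
      intro i _
      rw [real_inner_smul_left, hΓ' i j]
    have e2 : inner ℝ w' (b j) = ∑ i, ρ (x i) * (Γ i j : ℝ) := by
      rw [hw', sum_inner]
      apply Finset.sum_congr rfl
      intro i _
      rw [real_inner_smul_left, hΓ' i j]
    have e3 : inner ℝ w (b j) = ∑ h : H, lam h * (n h j : ℝ) := by
      have := LinearMap.congr_fun hlam (b j)
      rw [innerₛₗ_apply_apply] at this
      rw [← this, LinearMap.sum_apply]
      apply Finset.sum_congr rfl
      intro h _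
      rw [LinearMap.smul_apply, smul_eq_mul, hn h j]
    have e4 : ρ (inner ℝ w (b j)) = inner ℝ w' (b j) := by
      rw [e1, e2, map_sum]
      apply Finset.sum_congr rfl
      intro i _
      exact hρn _ _
    rw [← e4, e3, map_sum]
    apply Finset.sum_congr rfl
    intro h _
    exact hρn _ _
  have h3 : innerₛₗ ℝ w' = ∑ h : H, ρ (lam h) • (h : Module.Dual ℝ E) := by
    apply b.ext
    intro j
    rw [innerₛₗ_apply_apply, h2 j, LinearMap.sum_apply]
    apply Finset.sum_congr rfl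
    intro h _
    rw [LinearMap.smul_apply, smul_eq_mul, hn h j]
  have hperp' : ∀ d : E, (∀ h ∈ H, h d = 0) → inner ℝ w' d = 0 := by
    intro d hd
    have := LinearMap.congr_fun h3 d
    rw [innerₛₗ_apply_apply] at this
    rw [this, LinearMap.sum_apply]
    apply Finset.sum_eq_zero
    intro h _
    rw [LinearMap.smul_apply, hd h.1 h.2, smul_zero]
  have he : ∀ h ∈ H, h (w - w') = 0 := by
    intro h hh
    rw [map_sub, hw h hh, h1 ⟨h, hh⟩, sub_self]
  have h4 : inner ℝ (w - w') (w - w') = 0 := by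
    rw [inner_sub_left, hperp _ he, hperp' _ he, sub_zero]
  have h5 : w = w' := sub_eq_zero.1 (inner_self_eq_zero.1 h4)
  intro i
  obtain ⟨q, hq⟩ := hρq (x i)
  refine ⟨q, ?_⟩
  rw [← hq]
  have : b.repr w' i = ρ (x i) := by
    rw [hw', map_sum, Finsupp.finsetSum_apply]
    simp [Finsupp.single_apply]
  rw [← this, ← h5]

end Rational

section Lattice

variable [FiniteDimensional ℝ E] (L : Submodule ℤ E) [DiscreteTopology L] [IsZLattice ℝ L]
  (hint : ∀ x ∈ L, ∀ y ∈ L, ∃ n : ℤ, inner ℝ x y = (n : ℝ))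
  (F G : Finset (Module.Dual ℝ E)) (hF : F.Nonempty) (hG : G.Nonempty)
  (hFi : ∀ f ∈ F, ∀ x ∈ L, ∃ n : ℤ, f x = (n : ℝ)) (hGi : ∀ g ∈ G, ∀ x ∈ L, ∃ n : ℤ, g x = (n : ℝ))

include hint hFi hGi in
/-- the maximizing ray contains a lattice point -/
theorem exists_lattice_point_on_ray (u : E) (hu : ‖u‖ = 1) (huF : 0 ≤ mn F hF u) (huG : 0 < mn G hG u)
    (hmax : ∀ v : E, v ≠ 0 → 0 ≤ mn F hF v → phi G hG v ≤ mn G hG u) :
    ∃ t : ℝ, 0 < t ∧ t • u ∈ L := by
  classical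
  set M := mn G hG u with hM
  set w : E := M⁻¹ • u with hw
  have hMi : 0 < M⁻¹ := inv_pos.2 huG
  have hwG : ∀ g ∈ G, 1 ≤ g w := by
    intro g hg
    rw [hw, map_smul, smul_eq_mul]
    have := mn_le G hG hg u
    calc (1 : ℝ) = M⁻¹ * M := (inv_mul_cancel₀ huG.ne').symm
      _ ≤ M⁻¹ * g u := mul_le_mul_of_nonneg_left this hMi.le
  have hwF : ∀ f ∈ F, 0 ≤ f w := by
    intro f hf
    rw [hw, map_smul, smul_eq_mul]
    exact mul_nonneg hMi.le (le_trans huF (mn_le F hF hf u))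
  have hwn : ‖w‖ = M⁻¹ := by
    rw [hw, norm_smul, hu, mul_one, Real.norm_of_nonneg hMi.le]
  have hmin : ∀ v : E, (∀ g ∈ G, 1 ≤ g v) → (∀ f ∈ F, 0 ≤ f v) → ‖w‖ ≤ ‖v‖ := by
    intro v hvG hvF
    have h1 : 1 ≤ mn G hG v := (le_mn_iff G hG 1 v).2 hvG
    have h2 : 0 ≤ mn F hF v := (le_mn_iff F hF 0 v).2 hvF
    have hv : v ≠ 0 := by
      rintro rfl
      rw [mn_zero] at h1
      linarith
    have hn : 0 < ‖v‖ := norm_pos_iff.2 hv
    have h3 := hmax v hv h2
    unfold phi at h3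
    rw [div_le_iff₀ hn] at h3
    rw [hwn, inv_le_comm₀ huG hn]
    calc ‖v‖⁻¹ = 1 / ‖v‖ := (one_div _).symm
      _ ≤ M := by
        rw [div_le_iff₀ hn]
        linarith
  set H : Finset (Module.Dual ℝ E) := (G.filter fun g => g w = 1) ∪ (F.filter fun f => f w = 0) with hH
  have hperp : ∀ d : E, (∀ h ∈ H, h d = 0) → inner ℝ w d = 0 := by
    intro d hd
    apply kkt F G w hwG hwF hmin d
    · intro g hg hgw
      exact hd g (Finset.mem_union_left _ (Finset.mem_filter.2 ⟨hg, hgw⟩))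
    · intro f hf hfw
      exact hd f (Finset.mem_union_right _ (Finset.mem_filter.2 ⟨hf, hfw⟩))
  haveI : Module.Finite ℤ L := ZLattice.module_finite ℝ L
  haveI : Module.Free ℤ L := ZLattice.module_free ℝ L
  let b₀ := Module.Free.chooseBasis ℤ L
  let b := b₀.ofZLatticeBasis ℝ L
  have hbL : ∀ i, b i ∈ L := by
    intro i
    rw [Module.Basis.ofZLatticeBasis_apply]
    exact (b₀ i).2
  have hq := rational_of_kkt b H (fun h => h w)
    (by
      intro h hh
      rcases Finset.mem_union.1 hh with h1 | h1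
      · exact Or.inr (Finset.mem_filter.1 h1).2
      · exact Or.inl (Finset.mem_filter.1 h1).2)
    (by
      intro h hh i
      rcases Finset.mem_union.1 hh with h1 | h1
      · exact hGi h (Finset.mem_filter.1 h1).1 _ (hbL i)
      · exact hFi h (Finset.mem_filter.1 h1).1 _ (hbL i))
    (fun i j => hint _ (hbL i) _ (hbL j)) w (fun h _ => rfl) hperp
  choose q hq using hq
  set N : ℕ := ∏ i, (q i).den with hN
  have hNpos : 0 < N := Finset.prod_pos fun i _ => (q i).den_pos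
  have hz : ∀ i, ∃ z : ℤ, ((N : ℝ) * (q i : ℝ)) = (z : ℝ) := by
    intro i
    obtain ⟨m, hm⟩ : (q i).den ∣ N := Finset.dvd_prod_of_mem _ (Finset.mem_univ i)
    refine ⟨(m : ℤ) * (q i).num, ?_⟩
    have h1 : ((q i : ℚ) : ℝ) * ((q i).den : ℝ) = ((q i).num : ℝ) := by
      have := Rat.mul_den_eq_num (q i)
      exact_mod_cast congrArg (fun r : ℚ => (r : ℝ)) this
    rw [hm]
    push_cast
    rw [← h1]
    ring
  have hNw : (N : ℝ) • w ∈ L := by
    have e : (N : ℝ) • w = ∑ i, ((N : ℝ) * (q i : ℝ)) • b i := by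
      conv_lhs => rw [← b.sum_repr w]
      rw [Finset.smul_sum]
      apply Finset.sum_congr rfl
      intro i _
      rw [smul_smul, hq i]
    rw [e]
    apply Submodule.sum_mem
    intro i _
    obtain ⟨z, hz⟩ := hz i
    rw [hz]
    have : ((z : ℝ) • b i) = z • b i := by
      rw [Int.cast_smul_eq_zsmul]
    rw [this]
    exact L.smul_mem z (hbL i)
  refine ⟨(N : ℝ) * M⁻¹, mul_pos (Nat.cast_pos.2 hNpos) hMi, ?_⟩
  rw [← smul_smul]
  exact hNw

omit [FiniteDimensional ℝ E] [DiscreteTopology L] [IsZLattice ℝ L] in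
include hint in
/-- the lattice points on an open ray through a unit vector are the positive multiples of one of them -/
theorem exists_generator (u : E) (hu : ‖u‖ = 1) (hT : ∃ t : ℝ, 0 < t ∧ t • u ∈ L) :
    ∃ t₀ : ℝ, 0 < t₀ ∧ t₀ • u ∈ L ∧ ∀ t : ℝ, 0 < t → t • u ∈ L → ∃ n : ℕ, t = n * t₀ := by
  classical
  have hsq : ∀ t : ℝ, 0 < t → t • u ∈ L → ∃ k : ℕ, t ^ 2 = k := by
    intro t ht htL
    obtain ⟨z, hz⟩ := hint _ htL _ htL
    rw [real_inner_self_eq_norm_sq, norm_smul, hu, mul_one, Real.norm_of_nonneg ht.le] at hz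
    have hz0 : 0 ≤ z := by
      have : (0 : ℝ) ≤ z := by rw [← hz]; positivity
      exact_mod_cast this
    refine ⟨z.toNat, ?_⟩
    rw [hz]
    have : ((z.toNat : ℤ) : ℝ) = (z : ℝ) := by rw [Int.toNat_of_nonneg hz0]
    exact_mod_cast this.symm
  have hex : ∃ k : ℕ, ∃ t : ℝ, 0 < t ∧ t • u ∈ L ∧ t ^ 2 = k := by
    obtain ⟨t, ht, htL⟩ := hT
    obtain ⟨k, hk⟩ := hsq t ht htL
    exact ⟨k, t, ht, htL, hk⟩
  obtain ⟨t₀, ht₀, ht₀L, hk₀⟩ := Nat.find_spec hex
  refine ⟨t₀, ht₀, ht₀L, ?_⟩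
  intro t ht htL
  set n : ℕ := ⌊t / t₀⌋₊ with hn
  set r : ℝ := t - n * t₀ with hr
  have h1 : (n : ℝ) ≤ t / t₀ := Nat.floor_le (div_pos ht ht₀).le
  have h2 : t / t₀ < n + 1 := Nat.lt_floor_add_one _
  have hr0 : 0 ≤ r := by
    rw [hr, sub_nonneg]
    rwa [le_div_iff₀ ht₀] at h1
  have hr1 : r < t₀ := by
    rw [hr]
    rw [div_lt_iff₀ ht₀] at h2
    linarith
  have hrL : r • u ∈ L := by
    have : r • u = t • u - n • (t₀ • u) := by
      rw [hr, sub_smul, mul_smul, Nat.cast_smul_eq_nsmul]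
    rw [this]
    exact L.sub_mem htL (L.smul_of_tower_mem n ht₀L)
  rcases hr0.eq_or_lt with h0 | hpos
  · refine ⟨n, ?_⟩
    rw [hr] at h0
    linarith
  · exfalso
    obtain ⟨k, hk⟩ := hsq r hpos hrL
    have hlt : k < Nat.find hex := by
      have : (k : ℝ) < (Nat.find hex : ℝ) := by
        rw [← hk, ← hk₀]
        exact pow_lt_pow_left₀ hr1 hr0 (by norm_num)
      exact_mod_cast this
    exact Nat.find_min hex hlt ⟨r, hpos, hrL, hk⟩

include hint hFi hGi in
/-- Kempf's lemma -/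
theorem kempf (hpos : ∃ v : E, 0 ≤ F.inf' hF (fun f => f v) ∧ 0 < G.inf' hG (fun g => g v)) :
    ∃ M : ℝ, IsGreatest ((fun v => G.inf' hG (fun g => g v) / ‖v‖) ''
        {v : E | v ≠ 0 ∧ 0 ≤ F.inf' hF (fun f => f v)}) M ∧
      ∃! v₀ : E, v₀ ∈ L ∧ v₀ ≠ 0 ∧ 0 ≤ F.inf' hF (fun f => f v₀) ∧
        G.inf' hG (fun g => g v₀) / ‖v₀‖ = M ∧
        ∀ v ∈ L, v ≠ 0 → 0 ≤ F.inf' hF (fun f => f v) → G.inf' hG (fun g => g v) / ‖v‖ = M →
          ∃ n : ℤ, v = n • v₀ := by
  obtain ⟨u, hu, huF, huG, hmax⟩ := exists_max F G hF hG hpos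
  have hu0 : u ≠ 0 := by
    rintro rfl
    rw [norm_zero] at hu
    exact zero_ne_one hu
  have hphiu : phi G hG u = mn G hG u := by
    unfold phi
    rw [hu, div_one]
  obtain ⟨t₀, ht₀, ht₀L, hgen⟩ := exists_generator L hint u hu
    (exists_lattice_point_on_ray L hint F G hF hG hFi hGi u hu huF huG hmax)
  have hv₀F : 0 ≤ mn F hF (t₀ • u) := by
    rw [mn_smul F hF ht₀.le]
    exact mul_nonneg ht₀.le huF
  have hv₀0 : t₀ • u ≠ 0 := smul_ne_zero ht₀.ne' hu0
  have hv₀φ : phi G hG (t₀ • u) = mn G hG u := by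
    rw [phi_smul G hG ht₀, hphiu]
  have hv₀gen : ∀ v ∈ L, v ≠ 0 → 0 ≤ mn F hF v → phi G hG v = mn G hG u → ∃ n : ℕ, v = n • (t₀ • u) := by
    intro v hvL hv hvF hvφ
    have hray := ray_unique F G hF hG u hu huF huG hmax v hv hvF hvφ
    have hn : 0 < ‖v‖ := norm_pos_iff.2 hv
    obtain ⟨n, hn'⟩ := hgen ‖v‖ hn (hray ▸ hvL)
    refine ⟨n, ?_⟩
    calc v = ‖v‖ • u := hray
      _ = ((n : ℝ) * t₀) • u := by rw [hn']
      _ = n • (t₀ • u) := by rw [mul_smul, Nat.cast_smul_eq_nsmul]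
  refine ⟨mn G hG u, ⟨⟨u, ⟨hu0, huF⟩, hphiu⟩, ?_⟩, t₀ • u, ⟨ht₀L, hv₀0, hv₀F, hv₀φ, ?_⟩, ?_⟩
  · rintro y ⟨v, ⟨hv, hvF⟩, rfl⟩
    exact hmax v hv hvF
  · intro v hvL hv hvF hvφ
    obtain ⟨n, hn⟩ := hv₀gen v hvL hv hvF hvφ
    exact ⟨n, by rw [hn, Nat.cast_smul_eq_nsmul]⟩
  · rintro y ⟨hyL, hy0, hyF, hyφ, hygen⟩
    obtain ⟨m, hm⟩ := hv₀gen y hyL hy0 hyF hyφ
    obtain ⟨n, hn⟩ := hygen (t₀ • u) ht₀L hv₀0 hv₀F hv₀φ
    have h1 : ((n * m : ℤ) : ℝ) • (t₀ • u) = (1 : ℝ) • (t₀ • u) := by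
      rw [one_smul]
      conv_rhs => rw [hn, hm]
      rw [Int.cast_mul, mul_smul, Int.cast_smul_eq_zsmul, Int.cast_natCast, Nat.cast_smul_eq_nsmul]
    have h2 : ((n * m : ℤ) : ℝ) = 1 := smul_left_injective ℝ hv₀0 h1
    have h3 : n * (m : ℤ) = 1 := by exact_mod_cast h2
    have h4 : (m : ℤ) = 1 := by
      rcases Int.eq_one_or_neg_one_of_mul_eq_one' h3 with ⟨_, h⟩ | ⟨_, h⟩
      · exact h
      · have : (0 : ℤ) ≤ m := Int.natCast_nonneg m
        omega
    have h5 : m = 1 := by exact_mod_cast h4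
    rw [hm, h5, one_smul]

end Lattice

end Groth.Agent.Lib.Helper75.Kempf
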