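import Groth.Agent.Lib.Helper23.StabOpen
import Groth.Agent.Lib.Helper75.ComodField
import Groth.Agent.Lib.Helper75.DiagSemisimple

/-!
# G-line bundle structures on the trivial bundle: pointwise cocycle (helper75, for S19411)
-/

set_option autoImplicit false
open TensorProduct
open Groth.Agent.Lib.Helper75 Groth.Agent.Lib.Helper23.Reynolds
open Groth.Agent.Lib.Helper23.GITAffine Groth.Agent.Lib.Helper23.StabOpen

namespace Groth.Agent.Lib.Helper75.LBChar

universe u

section Points

variable {k : Type u} [Field k] [IsAlgClosed k] {R : Type u} [CommRing R] [Algebra k R]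
  [Algebra.FiniteType k R]

theorem eq_zero_of_forall_point [IsReduced R] (f : R) (h : ∀ x : R →ₐ[k] k, x f = 0) : f = 0 := by
  have hJ : IsJacobsonRing R := isJacobsonRing_of_finiteType (A := k) (B := R)
  have hrad : (⊥ : Ideal R).IsRadical := by
    intro a ha
    obtain ⟨n, hn⟩ := ha
    rw [Ideal.mem_bot] at hn ⊢
    exact IsReduced.eq_zero a ⟨n, hn⟩
  have hjac := hJ.out hrad
  have hmem : f ∈ (⊥ : Ideal R).jacobson := by
    rw [Ideal.jacobson, Ideal.mem_sInf]
    rintro m ⟨-, hm⟩
    obtain ⟨x, hx⟩ := exists_point_of_isMaximal (K := k) m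
    rw [← hx]
    exact h x
  rw [hjac] at hmem
  exact hmem

theorem isUnit_of_forall_point_ne (u : R) (h : ∀ x : R →ₐ[k] k, x u ≠ 0) : IsUnit u := by
  by_contra hu
  obtain ⟨m, hm, hum⟩ := exists_max_ideal_of_mem_nonunits (mem_nonunits_iff.mpr hu)
  obtain ⟨x, hx⟩ := exists_point_of_isMaximal (K := k) m
  rw [← hx] at hum
  exact h x hum

end Points

section Pt

variable {k : Type u} [Field k] {A : Type u} [CommRing A] [HopfAlgebra k A]
variable {R : Type u} [CommRing R] [Algebra k R]

theorem pt_eq_contractL (x : R →ₐ[k] k) (g : A →ₐ[k] k) (t : R ⊗[k] A) :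
    pt x g t = g (contractL A x.toLinearMap t) := by
  induction t using TensorProduct.induction_on with
  | zero => simp
  | add a b ha hb => rw [map_add, map_add, map_add, ha, hb]
  | tmul r a => simp [pt]

theorem pt_eq_contractR (x : R →ₐ[k] k) (g : A →ₐ[k] k) (t : R ⊗[k] A) :
    pt x g t = x (contractR R g.toLinearMap t) := by
  induction t using TensorProduct.induction_on with
  | zero => simp
  | add a b ha hb => rw [map_add, map_add, map_add, ha, hb]
  | tmul r a => simp [pt, mul_comm]

theorem eq_zero_of_forall_pt [IsAlgClosed k] [Algebra.FiniteType k A] [Algebra.FiniteType k R]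
    [IsReduced R] [IsReduced A] (t : R ⊗[k] A)
    (h : ∀ (x : R →ₐ[k] k) (g : A →ₐ[k] k), pt x g t = 0) : t = 0 := by
  have h1 : ∀ g : A →ₐ[k] k, contractR R g.toLinearMap t = 0 := by
    intro g
    apply eq_zero_of_forall_point (k := k)
    intro x
    rw [← pt_eq_contractR]; exact h x g
  have h2 : ∀ φ : R →ₗ[k] k, contractL A φ t = 0 := by
    intro φ
    apply eq_zero_of_forall_point (k := k)
    intro g
    have := contract_comm g.toLinearMap φ t
    rw [h1 g, map_zero] at this
    exact this.symm
  have := DiagSS.eq_of_contractL_eq' (k := k) t 0 (fun φ => by rw [h2 φ, map_zero])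
  exact this

end Pt

section Cocycle

variable {k : Type u} [Field k] {A : Type u} [CommRing A] [HopfAlgebra k A]
variable {R : Type u} [CommRing R] [Algebra k R] [HopfRep.Comod k A R] [GLin.IsCoactAlg k A R]
variable (θ : R ⊗[k] A)

/-- the twisted coaction `r ↦ ρ(r) θ` -/
noncomputable def rhoT : R →ₗ[k] R ⊗[k] A :=
  (LinearMap.mulRight k θ) ∘ₗ HopfRep.Comod.coact (k := k) (A := A) (V := R)

theorem rhoT_apply (r : R) : rhoT θ r = HopfRep.Comod.coact (k := k) (A := A) r * θ := rfl

theorem rhoT_one : rhoT (A := A) θ (1 : R) = θ := by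
  rw [rhoT_apply, GLin.IsCoactAlg.coact_one (k := k) (A := A) (R := R), one_mul]

theorem pt_rhoT (x : R →ₐ[k] k) (g : A →ₐ[k] k) (r : R) :
    pt x g (rhoT θ r) = GLin.actPt k g x r * pt x g θ := by
  rw [rhoT_apply, map_mul, pt_apply_coact]

/-- the functional `(x ⊗ g) ⊗ h` -/
noncomputable def ev3 (x : R →ₐ[k] k) (g h : A →ₐ[k] k) : (R ⊗[k] A) ⊗[k] A →ₐ[k] k :=
  Algebra.TensorProduct.productMap (pt x g) h

theorem ev3_rTensor (x : R →ₐ[k] k) (g h : A →ₐ[k] k) (t : R ⊗[k] A) :
    ev3 x g h ((rhoT θ).rTensor A t) = pt x g θ * pt (GLin.actPt k g x) h t := by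
  induction t using TensorProduct.induction_on with
  | zero => simp
  | add a b ha hb => rw [map_add, map_add, map_add, ha, hb, mul_add]
  | tmul r a =>
    rw [LinearMap.rTensor_tmul, ev3, Algebra.TensorProduct.productMap_apply_tmul, pt_rhoT]
    simp only [pt, Algebra.TensorProduct.productMap_apply_tmul]
    ring

theorem ev3_assoc_symm (x : R →ₐ[k] k) (g h : A →ₐ[k] k) (r : R) (s : A ⊗[k] A) :
    ev3 x g h ((TensorProduct.assoc k R A A).symm (r ⊗ₜ[k] s)) =
      x r * Algebra.TensorProduct.lmul' k (Algebra.TensorProduct.map g h s) := by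
  induction s using TensorProduct.induction_on with
  | zero => simp
  | add a b ha hb => rw [tmul_add, map_add, map_add, map_add, map_add, ha, hb, mul_add]
  | tmul b c =>
    rw [TensorProduct.assoc_symm_tmul, ev3, Algebra.TensorProduct.productMap_apply_tmul]
    simp only [pt, Algebra.TensorProduct.productMap_apply_tmul, Algebra.TensorProduct.map_tmul,
      Algebra.TensorProduct.lmul'_apply_tmul]
    ring

theorem ev3_lTensor_comul (x : R →ₐ[k] k) (g h : A →ₐ[k] k) (t : R ⊗[k] A) :
    ev3 x g h ((TensorProduct.assoc k R A A).symm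
      ((CoalgebraStruct.comul (R := k) (A := A)).lTensor R t)) =
      pt x (WithConv.toConv g * WithConv.toConv h).ofConv t := by
  induction t using TensorProduct.induction_on with
  | zero => simp
  | add a b ha hb => simp only [map_add, ha, hb]
  | tmul r a =>
    rw [LinearMap.lTensor_tmul, ev3_assoc_symm]
    simp only [pt, Algebra.TensorProduct.productMap_apply_tmul]
    rfl

/-- the pointwise cocycle identity -/
theorem cocycle
    (hassoc : (TensorProduct.assoc k R A A).toLinearMap ∘ₗ (rhoT θ).rTensor A ∘ₗ rhoT θ =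
      (CoalgebraStruct.comul (R := k) (A := A)).lTensor R ∘ₗ rhoT θ)
    (x : R →ₐ[k] k) (g h : A →ₐ[k] k) :
    pt x (WithConv.toConv g * WithConv.toConv h).ofConv θ =
      pt x g θ * pt (GLin.actPt k g x) h θ := by
  have h1 := LinearMap.congr_fun hassoc 1
  simp only [LinearMap.coe_comp, Function.comp_apply, LinearEquiv.coe_coe, rhoT_one] at h1
  have h2 : (rhoT θ).rTensor A θ = (TensorProduct.assoc k R A A).symm
      ((CoalgebraStruct.comul (R := k) (A := A)).lTensor R θ) := by
    rw [← h1, LinearEquiv.symm_apply_apply]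
  rw [← ev3_lTensor_comul, ← h2, ev3_rTensor]

/-- `θ(x, e) = 1` -/
theorem pt_one
    (hcounit : (CoalgebraStruct.counit (R := k) (A := A)).lTensor R ∘ₗ rhoT θ =
      (TensorProduct.mk k R k).flip 1)
    (x : R →ₐ[k] k) :
    pt x (1 : WithConv (A →ₐ[k] k)).ofConv θ = 1 := by
  have h1 := LinearMap.congr_fun hcounit 1
  simp only [LinearMap.coe_comp, Function.comp_apply, rhoT_one, LinearMap.flip_apply,
    TensorProduct.mk_apply] at h1
  have h2 : contractR R (CoalgebraStruct.counit (R := k) (A := A)) θ = 1 := by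
    rw [contractR, LinearMap.comp_apply, h1]
    simp
  rw [pt_eq_contractR]
  have : ((1 : WithConv (A →ₐ[k] k)).ofConv).toLinearMap = CoalgebraStruct.counit (R := k) (A := A) := by
    apply LinearMap.ext; intro a
    simp [AlgHom.convOne_def]
  rw [this, h2, map_one]

end Cocycle

end Groth.Agent.Lib.Helper75.LBChar
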