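import Groth.Agent.Lib.Helper75.LBCharA
import Groth.Agent.Lib.Helper85.UncountableNSS

/-!
# G-line bundle structures on the trivial bundle are characters (helper75, for S19411)
-/

set_option autoImplicit false
open TensorProduct
open Groth.Agent.Lib.Helper75 Groth.Agent.Lib.Helper23.Reynolds
open Groth.Agent.Lib.Helper23.GITAffine Groth.Agent.Lib.Helper23.StabOpen

namespace Groth.Agent.Lib.Helper75.LBChar

universe u

variable {k : Type u} [Field k] [IsAlgClosed k] {A : Type u} [CommRing A] [HopfAlgebra k A]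
  [Algebra.FiniteType k A]
variable {R : Type u} [CommRing R] [Algebra k R] [Algebra.FiniteType k R]
  [HopfRep.Comod k A R] [GLin.IsCoactAlg k A R]
variable (θ : R ⊗[k] A)
  (hassoc : (TensorProduct.assoc k R A A).toLinearMap ∘ₗ (rhoT θ).rTensor A ∘ₗ rhoT θ =
      (CoalgebraStruct.comul (R := k) (A := A)).lTensor R ∘ₗ rhoT θ)
  (hcounit : (CoalgebraStruct.counit (R := k) (A := A)).lTensor R ∘ₗ rhoT θ =
      (TensorProduct.mk k R k).flip 1)

include hassoc hcounit in
omit [IsAlgClosed k] [Algebra.FiniteType k A] [Algebra.FiniteType k R] in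
theorem pt_ne_zero (x : R →ₐ[k] k) (g : A →ₐ[k] k) : pt x g θ ≠ 0 := by
  have := cocycle θ hassoc x g ((WithConv.toConv g)⁻¹).ofConv
  rw [WithConv.toConv_ofConv, mul_inv_cancel, pt_one θ hcounit] at this
  intro h0
  rw [h0, zero_mul] at this
  exact one_ne_zero this

include hassoc hcounit in
omit [IsAlgClosed k] [Algebra.FiniteType k A] [Algebra.FiniteType k R] in
theorem isGroupLike_of_eq (x₀ : R →ₐ[k] k) (χ : A) (hθ : θ = (1 : R) ⊗ₜ[k] χ) :
    IsGroupLikeElem k χ := by
  subst hθ
  constructor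
  · have h1 := pt_one _ hcounit x₀
    simp only [pt, Algebra.TensorProduct.productMap_apply_tmul, map_one, one_mul] at h1
    have : ((1 : WithConv (A →ₐ[k] k)).ofConv) χ = CoalgebraStruct.counit (R := k) χ := by
      simp [AlgHom.convOne_def]
    rw [← this]; exact h1
  · have h1 := LinearMap.congr_fun hassoc 1
    simp only [LinearMap.coe_comp, Function.comp_apply, LinearEquiv.coe_coe, rhoT_one] at h1
    rw [LinearMap.rTensor_tmul, rhoT_one, TensorProduct.assoc_tmul, LinearMap.lTensor_tmul] at h1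
    have h3 := congrArg (contractL (A ⊗[k] A) x₀.toLinearMap) h1
    simp only [contractL_tmul, AlgHom.toLinearMap_apply, map_one, one_smul] at h3
    exact h3.symm

include hassoc hcounit in
/-- case: every unit of `R` is a scalar -/
theorem case_b [IsReduced R] [IsReduced A] [Nontrivial R]
    (hR : ∀ u : Rˣ, (u : R) ∈ Set.range (algebraMap k R)) :
    ∃ χ : A, IsGroupLikeElem k χ ∧ θ = (1 : R) ⊗ₜ[k] χ := by
  obtain ⟨x₀, -⟩ := exists_point_of_ne_top (K := k) (⊥ : Ideal R) bot_ne_top
  set χ : A := contractL A x₀.toLinearMap θ with hχ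
  have key : θ = (1 : R) ⊗ₜ[k] χ := by
    rw [← sub_eq_zero]
    apply eq_zero_of_forall_pt
    intro x g
    rw [map_sub, sub_eq_zero]
    have hu : IsUnit (contractR R g.toLinearMap θ) := by
      apply isUnit_of_forall_point_ne (k := k)
      intro y
      rw [← pt_eq_contractR]
      exact pt_ne_zero θ hassoc hcounit y g
    obtain ⟨c, hc⟩ := hR hu.unit
    have hc' : contractR R g.toLinearMap θ = algebraMap k R c := hc.symm
    have e1 : pt x g θ = c := by
      rw [pt_eq_contractR, hc', AlgHom.commutes]; rfl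
    have e2 : pt x₀ g θ = c := by
      rw [pt_eq_contractR, hc', AlgHom.commutes]; rfl
    rw [e1, ← e2, pt_eq_contractL]
    show g χ = pt x g ((1 : R) ⊗ₜ[k] χ)
    simp [pt]
  exact ⟨χ, isGroupLike_of_eq θ hassoc hcounit x₀ χ key, key⟩

section CaseA

variable (hA : ∀ u : Aˣ, ∃ (c : k) (χ : A), IsGroupLikeElem k χ ∧ (u : A) = c • χ)

include hassoc hcounit hA in
theorem isGroupLike_contractL (x : R →ₐ[k] k) :
    IsGroupLikeElem k (contractL A x.toLinearMap θ) := by
  have hu : IsUnit (contractL A x.toLinearMap θ) := by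
    apply isUnit_of_forall_point_ne (k := k)
    intro g
    rw [← pt_eq_contractL]
    exact pt_ne_zero θ hassoc hcounit x g
  obtain ⟨c, χ, hχ, hc⟩ := hA hu.unit
  have hc' : contractL A x.toLinearMap θ = c • χ := hc
  have h1 := pt_one θ hcounit x
  rw [pt_eq_contractL, hc', map_smul] at h1
  have : ((1 : WithConv (A →ₐ[k] k)).ofConv) χ = CoalgebraStruct.counit (R := k) χ := by
    simp [AlgHom.convOne_def]
  rw [this, hχ.counit_eq_one, smul_eq_mul, mul_one] at h1
  rw [hc', h1, one_smul]
  exact hχ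

theorem countable_groupLike : {a : A | IsGroupLikeElem k a}.Countable := by
  have hli := linearIndepOn_isGroupLikeElem (R := k) (A := A)
  obtain ⟨n, g, hg⟩ := Algebra.FiniteType.iff_quotient_mvPolynomial''.mp
    (inferInstance : Algebra.FiniteType k A)
  have hrank : Module.rank k A ≤ Cardinal.aleph0 :=
    (LinearMap.rank_le_of_surjective g.toLinearMap hg).trans
      (Groth.Agent.Lib.Helper85.rank_mvPolynomial_le_aleph0 k (Fin n))
  have := hli.linearIndependent.cardinal_le_rank
  exact Cardinal.le_aleph0_iff_set_countable.mp (this.trans hrank)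

/-- the ideal of `R` cutting out the locus where `θ_x = χ` -/
def locI (χ : A) : Ideal R :=
  Ideal.span (Set.range fun φ : A →ₗ[k] k => contractR R φ (θ - (1 : R) ⊗ₜ[k] χ))

theorem locI_le_ker_iff (x : R →ₐ[k] k) (χ : A) :
    locI θ χ ≤ RingHom.ker x ↔ contractL A x.toLinearMap θ = χ := by
  have e : contractL A x.toLinearMap (θ - (1 : R) ⊗ₜ[k] χ) = contractL A x.toLinearMap θ - χ := by
    rw [map_sub, contractL_tmul, AlgHom.toLinearMap_apply, map_one, one_smul]
  constructor
  · intro h
    rw [← sub_eq_zero, ← e]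
    rw [← Module.forall_dual_apply_eq_zero_iff k]
    intro φ
    have hm : contractR R φ (θ - (1 : R) ⊗ₜ[k] χ) ∈ locI θ χ := Ideal.subset_span ⟨φ, rfl⟩
    have := h hm
    rw [RingHom.mem_ker] at this
    have hcc := contract_comm φ x.toLinearMap (θ - (1 : R) ⊗ₜ[k] χ)
    rw [← hcc]
    exact this
  · intro h
    rw [locI, Ideal.span_le]
    rintro _ ⟨φ, rfl⟩
    rw [SetLike.mem_coe, RingHom.mem_ker]
    have hcc := contract_comm φ x.toLinearMap (θ - (1 : R) ⊗ₜ[k] χ)
    rw [e, h, sub_self, map_zero] at hcc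
    exact hcc

include hassoc hcounit hA in
theorem exists_locI_le_prime [Uncountable k] (e : ℕ → A)
    (he : {a : A | IsGroupLikeElem k a} = Set.range e) (p : Ideal R) [p.IsPrime] :
    ∃ n, locI θ (e n) ≤ p := by
  by_contra hno
  push Not at hno
  have hex : ∀ n, ∃ f ∈ locI θ (e n), f ∉ p := fun n => SetLike.not_le_iff_exists.mp (hno n)
  choose f hf hfp using hex
  obtain ⟨m, hm, hpm, hfm⟩ := Groth.Agent.Lib.Helper85.exists_maximal_avoiding (k := k) p f hfp
  obtain ⟨x, hx⟩ := exists_point_of_isMaximal (K := k) m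
  have hgl := isGroupLike_contractL θ hassoc hcounit hA x
  have : contractL A x.toLinearMap θ ∈ Set.range e := by rw [← he]; exact hgl
  obtain ⟨n, hn⟩ := this
  have hle := (locI_le_ker_iff θ x (e n)).mpr hn.symm
  rw [hx] at hle
  exact hfm n (hle (hf n))

include hassoc hcounit hA in
/-- case: every unit of `A` is a scalar multiple of a group-like element -/
theorem case_a [Uncountable k] [IsReduced R] [ConnectedSpace (PrimeSpectrum R)] :
    ∃ χ : A, IsGroupLikeElem k χ ∧ θ = (1 : R) ⊗ₜ[k] χ := by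
  haveI : Nontrivial R := by
    by_contra hnt
    rw [not_nontrivial_iff_subsingleton] at hnt
    obtain ⟨q⟩ := (inferInstance : Nonempty (PrimeSpectrum R))
    exact q.2.ne_top (Subsingleton.elim _ _)
  have hN : IsNoetherianRing R := Algebra.FiniteType.isNoetherianRing k R
  obtain ⟨x₀, -⟩ := exists_point_of_ne_top (K := k) (⊥ : Ideal R) bot_ne_top
  set χ₀ : A := contractL A x₀.toLinearMap θ with hχ₀
  have hχ₀gl := isGroupLike_contractL θ hassoc hcounit hA x₀
  -- enumerate the group-like elements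
  have hne : {a : A | IsGroupLikeElem k a}.Nonempty := ⟨χ₀, hχ₀gl⟩
  obtain ⟨e, he⟩ := (countable_groupLike (k := k) (A := A)).exists_eq_range hne
  have hmin : ∀ p ∈ minimalPrimes R, ∃ n, locI θ (e n) ≤ p := by
    intro p hp
    haveI : p.IsPrime := hp.1.1
    exact exists_locI_le_prime θ hassoc hcounit hA e he p
  -- the clopen decomposition
  let C : Set (PrimeSpectrum R) := PrimeSpectrum.zeroLocus (locI θ χ₀ : Set R)
  let D : Set (PrimeSpectrum R) :=
    ⋃ p ∈ {p ∈ minimalPrimes R | ¬ locI θ χ₀ ≤ p}, PrimeSpectrum.zeroLocus (p : Set R)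
  have hfin : (minimalPrimes R).Finite := minimalPrimes.finite_of_isNoetherianRing R
  have hDcl : IsClosed D :=
    Set.Finite.isClosed_biUnion (hfin.subset (Set.sep_subset _ _))
      (fun p _ => PrimeSpectrum.isClosed_zeroLocus _)
  have hCcl : IsClosed C := PrimeSpectrum.isClosed_zeroLocus _
  have hcov : ∀ q : PrimeSpectrum R, q ∈ C ∨ q ∈ D := by
    intro q
    obtain ⟨p, hp, hpq⟩ := Ideal.exists_minimalPrimes_le (I := (⊥ : Ideal R)) (J := q.asIdeal) bot_le
    by_cases hIp : locI θ χ₀ ≤ p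
    · left
      rw [PrimeSpectrum.mem_zeroLocus]
      exact fun r hr => hpq (hIp hr)
    · right
      simp only [D, Set.mem_iUnion]
      exact ⟨p, ⟨hp, hIp⟩, by rw [PrimeSpectrum.mem_zeroLocus]; exact fun r hr => hpq hr⟩
  have hdisj : ∀ q : PrimeSpectrum R, q ∈ C → q ∈ D → False := by
    intro q hqC hqD
    simp only [D, Set.mem_iUnion] at hqD
    obtain ⟨p, ⟨hp, hIp⟩, hpq⟩ := hqD
    rw [PrimeSpectrum.mem_zeroLocus] at hqC hpq
    obtain ⟨n, hn⟩ := hmin p hp
    obtain ⟨m, hm, hqm⟩ := Ideal.exists_le_maximal q.asIdeal q.2.ne_top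
    obtain ⟨x, hx⟩ := exists_point_of_isMaximal (K := k) m
    have h1 : locI θ χ₀ ≤ RingHom.ker x := by
      rw [hx]; exact fun r hr => hqm (hqC hr)
    have h2 : locI θ (e n) ≤ RingHom.ker x := by
      rw [hx]; exact fun r hr => hqm (hpq (hn hr))
    have e1 := (locI_le_ker_iff θ x χ₀).mp h1
    have e2 := (locI_le_ker_iff θ x (e n)).mp h2
    apply hIp
    rw [← e1, e2]; exact hn
  have hCopen : IsOpen C := by
    have : C = Dᶜ := by
      ext q
      constructor
      · intro hq hq'; exact hdisj q hq hq'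
      · intro hq
        rcases hcov q with h | h
        · exact h
        · exact absurd h hq
    rw [this]; exact hDcl.isOpen_compl
  have hCne : C.Nonempty := by
    refine ⟨⟨RingHom.ker x₀, RingHom.ker_isPrime _⟩, ?_⟩
    rw [PrimeSpectrum.mem_zeroLocus]
    exact (locI_le_ker_iff θ x₀ χ₀).mpr rfl
  have hCuniv : C = Set.univ := by
    rcases isClopen_iff.mp (⟨hCcl, hCopen⟩ : IsClopen C) with h | h
    · exact absurd h hCne.ne_empty
    · exact h
  have hnil : locI θ χ₀ ≤ nilradical R := by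
    rw [nilradical_eq_sInf, le_sInf_iff]
    intro q hq
    have : (⟨q, hq⟩ : PrimeSpectrum R) ∈ C := by rw [hCuniv]; trivial
    rw [PrimeSpectrum.mem_zeroLocus] at this
    exact this
  have key : θ = (1 : R) ⊗ₜ[k] χ₀ := by
    rw [← sub_eq_zero]
    apply eq_of_contractR_eq (K := k)
    intro φ
    rw [map_zero]
    have hm : contractR R φ (θ - (1 : R) ⊗ₜ[k] χ₀) ∈ locI θ χ₀ := Ideal.subset_span ⟨φ, rfl⟩
    have := hnil hm
    rw [nilradical_eq_zero] at this
    exact this
  exact ⟨χ₀, hχ₀gl, key⟩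

end CaseA

end Groth.Agent.Lib.Helper75.LBChar
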