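import Groth.Agent.Lib.Helper23.HopfFlatMain
import Groth.Agent.Lib.Helper75.HopfCoinv

/-!
# Kernel of a quotient of a linearly reductive group, part A: the translation map (helper75)

For `φ : R → H` and `ψ : H → C` with `ψ ∘ φ = η ε`, the algebra maps
`lamP : H → H ⊗ C`, `a ↦ a₂ ⊗ ψ a₁` and `θ0 : H → H ⊗[R] H`, `a ↦ S a₂ ⊗ a₁`, and their relations.
-/

set_option autoImplicit false
set_option linter.unusedSectionVars false

namespace Groth.Agent.Lib.Helper75.LinRedKer

open TensorProduct WithConv Groth.Agent.Lib.Helper16.FinHopf Groth.Agent.Lib.Helper23.HopfFlat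

universe u v w x

section A

variable {k : Type u} [CommRing k] {R : Type v} [CommRing R] [HopfAlgebra k R]
  {H : Type w} [CommRing H] [HopfAlgebra k H] {C : Type x} [CommRing C] [HopfAlgebra k C]
  (φ : R →ₐc[k] H) (ψ : H →ₐc[k] C)
  [Algebra R H] [IsScalarTower k R H]

/-- the point `a ↦ 1 ⊗ ψ a` of `H ⊗ C` -/
noncomputable def ptC : WithConv (H →ₐ[k] H ⊗[k] C) :=
  toConv ((Algebra.TensorProduct.includeRight : C →ₐ[k] H ⊗[k] C).comp (ψ : H →ₐ[k] C))

/-- the point `a ↦ a ⊗ 1` of `H ⊗ C` -/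
noncomputable def ptH : WithConv (H →ₐ[k] H ⊗[k] C) :=
  toConv (Algebra.TensorProduct.includeLeft : H →ₐ[k] H ⊗[k] C)

/-- `a ↦ a₂ ⊗ ψ a₁` -/
noncomputable def lamP : H →ₐ[k] H ⊗[k] C := (ptC ψ * ptH (k := k) (H := H) (C := C)).ofConv

variable (hφ : ∀ r, algebraMap R H r = φ r)
  (hψφ : ∀ r, ψ (φ r) = algebraMap k C (Coalgebra.counit (R := k) r))

include hψφ in
theorem preComp_ptC : preComp φ (ptC ψ) = 1 := by
  apply WithConv.ofConv_injective
  apply AlgHom.ext
  intro r
  show (1 : H) ⊗ₜ[k] (ψ (φ r)) = _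
  rw [hψφ]
  simp only [Algebra.algebraMap_eq_smul_one, AlgHom.convOne_apply]
  rw [Algebra.TensorProduct.one_def, TensorProduct.tmul_smul]

include hφ hψφ in
theorem lamP_algebraMap (r : R) :
    lamP ψ (algebraMap R H r) = algebraMap R (H ⊗[k] C) r := by
  rw [hφ]
  have h1 : preComp φ (ptC ψ * ptH (k := k) (H := H) (C := C)) = preComp φ (ptH (k := k) (H := H) (C := C)) := by
    rw [map_mul, preComp_ptC φ ψ hψφ]
    exact one_mul _
  have h2 := congrArg (fun f => f.ofConv r) h1
  simp only [preComp_apply, WithConv.ofConv_toConv, AlgHom.comp_apply] at h2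
  show (ptC ψ * ptH (k := k) (H := H) (C := C)).ofConv (φ r) = _
  refine h2.trans ?_
  show (φ r) ⊗ₜ[k] (1 : C) = _
  rw [← hφ]
  rfl

/-- `lamP` as an `R`-algebra map -/
noncomputable def lamPR : H →ₐ[R] H ⊗[k] C :=
  { (lamP ψ).toRingHom with
    commutes' := lamP_algebraMap φ ψ hφ hψφ }

theorem lamPR_apply (a : H) : lamPR φ ψ hφ hψφ a = lamP ψ a := rfl

/-- `a ↦ S a₂ ⊗ a₁` -/
noncomputable def theta0 : H →ₐ[k] H ⊗[R] H :=
  (qtB (k := k) (R := R) H * cinv (qtΛ (k := k) (R := R) H)).ofConv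

include hφ in
theorem theta0_mem (b : H) (hb : b ∈ augSpan φ) : theta0 (k := k) (R := R) (H := H) b = 0 := by
  have hle : augSpan φ ≤ RingHom.ker (theta0 (k := k) (R := R) (H := H)) := by
    refine Ideal.map_le_iff_le_comap.2 ?_
    intro r hr
    rw [Ideal.mem_comap, RingHom.mem_ker]
    have h1 : preComp φ (qtB (k := k) (R := R) H * cinv (qtΛ (k := k) (R := R) H)) = 1 := by
      rw [map_mul, preComp_qtB φ H hφ, preComp_cinv]
      exact mul_cinv (preComp φ (qtΛ (k := k) (R := R) H))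
    have h2 := congrArg (fun f => f.ofConv r) h1
    simp only [preComp_apply, WithConv.ofConv_toConv, AlgHom.comp_apply] at h2
    refine h2.trans ?_
    rw [RingHom.mem_ker] at hr
    show algebraMap k _ (Coalgebra.counit (R := k) r) = 0
    have hr' : Coalgebra.counit (R := k) r = 0 := hr
    rw [hr', map_zero]
  exact hle hb

/-- multiplying out `θ0` gives the counit -/
theorem lmul_theta0 (a : H) :
    Algebra.TensorProduct.lmul' R (S := H) (theta0 (k := k) (R := R) (H := H) a) =
      algebraMap k H (Coalgebra.counit (R := k) a) := by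
  have h1 : postComp ((Algebra.TensorProduct.lmul' R (S := H)).restrictScalars k)
      (qtB (k := k) (R := R) H * cinv (qtΛ (k := k) (R := R) H)) = 1 := by
    rw [map_mul, postComp_cinv]
    have e1 : postComp ((Algebra.TensorProduct.lmul' R (S := H)).restrictScalars k)
        (qtB (k := k) (R := R) H) = toConv (AlgHom.id k H) := by
      apply WithConv.ofConv_injective
      apply AlgHom.ext
      intro b
      show Algebra.TensorProduct.lmul' R (S := H) ((1 : H) ⊗ₜ[R] b) = b
      simp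
    have e2 : postComp ((Algebra.TensorProduct.lmul' R (S := H)).restrictScalars k)
        (qtΛ (k := k) (R := R) H) = toConv (AlgHom.id k H) := by
      apply WithConv.ofConv_injective
      apply AlgHom.ext
      intro b
      show Algebra.TensorProduct.lmul' R (S := H) (b ⊗ₜ[R] (1 : H)) = b
      simp
    rw [e1, e2]
    exact mul_cinv _
  have h2 := congrArg (fun f => f.ofConv a) h1
  exact h2

/-- `id ⊗ λ' : H ⊗[R] H → H ⊗[R] (H ⊗ C)` -/
noncomputable def idlam : H ⊗[R] H →ₐ[R] H ⊗[R] (H ⊗[k] C) :=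
  Algebra.TensorProduct.map (AlgHom.id R H) (lamPR φ ψ hφ hψφ)

/-- `id ⊗ (· ⊗ 1) : H ⊗[R] H → H ⊗[R] (H ⊗ C)` -/
noncomputable def idincl : H ⊗[R] H →ₐ[R] H ⊗[R] (H ⊗[k] C) :=
  Algebra.TensorProduct.map (AlgHom.id R H)
    (Algebra.TensorProduct.includeLeft (R := k) (S := R) (A := H) (B := C))

/-- `x ↦ 1 ⊗ x : H ⊗ C → H ⊗[R] (H ⊗ C)` as a `k`-algebra map -/
noncomputable def incR : H ⊗[k] C →ₐ[k] H ⊗[R] (H ⊗[k] C) :=
  (Algebra.TensorProduct.includeRight (R := R) (A := H) (B := H ⊗[k] C)).restrictScalars k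

/-- `c ↦ 1 ⊗ (1 ⊗ c)` -/
noncomputable def mC : C →ₐ[k] H ⊗[R] (H ⊗[k] C) :=
  (incR (k := k) (R := R) (H := H) (C := C)).comp
    (Algebra.TensorProduct.includeRight : C →ₐ[k] H ⊗[k] C)

theorem idlam_comp_theta0 :
    postComp ((idlam φ ψ hφ hψφ).restrictScalars k) (toConv (theta0 (k := k) (R := R) (H := H))) =
      toConv ((mC (k := k) (R := R) (H := H) (C := C)).comp (ψ : H →ₐ[k] C)) *
        postComp ((idincl (k := k) (R := R) (H := H) (C := C)).restrictScalars k)
          (toConv (theta0 (k := k) (R := R) (H := H))) := by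
  have hθ : toConv (theta0 (k := k) (R := R) (H := H)) =
      qtB (k := k) (R := R) H * cinv (qtΛ (k := k) (R := R) H) := rfl
  rw [hθ, map_mul, map_mul, postComp_cinv, postComp_cinv]
  -- the three points
  have eB : postComp ((idlam φ ψ hφ hψφ).restrictScalars k) (qtB (k := k) (R := R) H) =
      toConv ((mC (k := k) (R := R) (H := H) (C := C)).comp (ψ : H →ₐ[k] C)) *
        postComp ((idincl (k := k) (R := R) (H := H) (C := C)).restrictScalars k) (qtB (k := k) (R := R) H) := by
    have e1 : postComp ((idlam φ ψ hφ hψφ).restrictScalars k) (qtB (k := k) (R := R) H) =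
        postComp (incR (k := k) (R := R) (H := H) (C := C)) (ptC ψ * ptH (k := k) (H := H) (C := C)) := by
      apply WithConv.ofConv_injective
      apply AlgHom.ext
      intro a
      show idlam φ ψ hφ hψφ ((1 : H) ⊗ₜ[R] a) = (1 : H) ⊗ₜ[R] (lamP ψ a)
      simp [idlam, lamPR_apply]
    rw [e1, map_mul]
    congr 1
  have eΛ : postComp ((idlam φ ψ hφ hψφ).restrictScalars k) (qtΛ (k := k) (R := R) H) =
      postComp ((idincl (k := k) (R := R) (H := H) (C := C)).restrictScalars k) (qtΛ (k := k) (R := R) H) := by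
    apply WithConv.ofConv_injective
    apply AlgHom.ext
    intro a
    show idlam φ ψ hφ hψφ (a ⊗ₜ[R] (1 : H)) = idincl (k := k) (R := R) (H := H) (C := C) (a ⊗ₜ[R] (1 : H))
    simp [idlam, idincl, Algebra.TensorProduct.one_def]
  rw [eB, eΛ]
  exact mul_assoc (G := WithConv (H →ₐ[k] H ⊗[R] (H ⊗[k] C))) _ _ _

variable (hψ : Function.Surjective ψ) (hker : RingHom.ker (ψ : H →ₐ[k] C) = augSpan φ)

/-- the translation map `C → H ⊗[R] H`, `ψ a ↦ S a₂ ⊗ a₁` -/
noncomputable def theta : C →ₐ[k] H ⊗[R] H :=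
  AlgHom.liftOfSurjective (ψ : H →ₐ[k] C) hψ (theta0 (k := k) (R := R) (H := H)) (by
    intro b hb
    have hb' : b ∈ augSpan φ := by
      rw [← hker]
      exact hb
    exact theta0_mem φ hφ b hb')

theorem theta_apply (a : H) :
    theta φ ψ hφ hψ hker (ψ a) = theta0 (k := k) (R := R) (H := H) a :=
  AlgHom.liftOfSurjective_apply (ψ : H →ₐ[k] C) hψ _ _ a

/-- multiplying out `θ` gives the counit -/
theorem lmul_theta (c : C) :
    Algebra.TensorProduct.lmul' R (S := H) (theta φ ψ hφ hψ hker c) =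
      algebraMap k H (Coalgebra.counit (R := k) c) := by
  obtain ⟨a, rfl⟩ := hψ c
  rw [theta_apply, lmul_theta0]
  congr 1
  exact (CoalgHomClass.counit_comp_apply ψ a).symm

/-- `c' ⊗ c'' ↦ (1 ⊗ (1 ⊗ c')) * (id ⊗ incl) (θ c'')` -/
noncomputable def Psi : C ⊗[k] C →ₐ[k] H ⊗[R] (H ⊗[k] C) :=
  Algebra.TensorProduct.lift (mC (k := k) (R := R) (H := H) (C := C))
    (((idincl (k := k) (R := R) (H := H) (C := C)).restrictScalars k).comp (theta φ ψ hφ hψ hker))
    (fun _ _ => Commute.all _ _)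

theorem idlam_theta (c : C) :
    idlam φ ψ hφ hψφ (theta φ ψ hφ hψ hker c) =
      Psi φ ψ hφ hψ hker (CoalgebraStruct.comul (R := k) c) := by
  obtain ⟨a, rfl⟩ := hψ c
  rw [theta_apply]
  have h1 := congrArg (fun f => f.ofConv a) (idlam_comp_theta0 φ ψ hφ hψφ)
  simp only [postComp_apply, WithConv.ofConv_toConv, AlgHom.comp_apply] at h1
  have h2 : idlam φ ψ hφ hψφ (theta0 (k := k) (R := R) (H := H) a) =
      (toConv ((mC (k := k) (R := R) (H := H) (C := C)).comp (ψ : H →ₐ[k] C)) *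
        toConv (((idincl (k := k) (R := R) (H := H) (C := C)).restrictScalars k).comp
          (theta0 (k := k) (R := R) (H := H)))).ofConv a := h1
  rw [h2]
  have h3 := AlgHom.convMul_apply (toConv ((mC (k := k) (R := R) (H := H) (C := C)).comp (ψ : H →ₐ[k] C)))
    (toConv (((idincl (k := k) (R := R) (H := H) (C := C)).restrictScalars k).comp
      (theta0 (k := k) (R := R) (H := H)))) a
  refine h3.trans ?_
  have h4 : CoalgebraStruct.comul (R := k) (ψ a) =
      TensorProduct.map (ψ : H →ₗ[k] C) (ψ : H →ₗ[k] C) (CoalgebraStruct.comul (R := k) a) :=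
    (CoalgHomClass.map_comp_comul_apply ψ a).symm
  rw [h4]
  generalize CoalgebraStruct.comul (R := k) a = t
  induction t using TensorProduct.induction_on with
  | zero => simp
  | add x y hx hy => rw [map_add, map_add, map_add, hx, hy]
  | tmul x y =>
    simp only [WithConv.ofConv_toConv, Algebra.TensorProduct.lift_tmul, AlgHom.comp_apply,
      TensorProduct.map_tmul, Psi]
    rw [← theta_apply φ ψ hφ hψ hker y]
    rfl

end A

end Groth.Agent.Lib.Helper75.LinRedKer
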