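import Groth.Agent.Lib.Helper75.LinRedKerA
import Groth.Agent.Lib.Helper84.MatCoeff

/-!
# Kernel of a quotient of a linearly reductive group, part B: descent (helper75)

For a corepresentation matrix `c` of `C`, the module of solutions
`Sol = {h ∈ Hⁿ | λ'(h i) = Σ_j h j ⊗ c i j}` generates `Hⁿ` over `H`.
-/

set_option autoImplicit false
set_option linter.unusedSectionVars false

namespace Groth.Agent.Lib.Helper75.LinRedKer

open TensorProduct WithConv Groth.Agent.Lib.Helper16.FinHopf Groth.Agent.Lib.Helper23.HopfFlat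
  Groth.Agent.Lib.Helper84

universe u v w x

section B

variable {k : Type u} [CommRing k] {R : Type v} [CommRing R] [HopfAlgebra k R]
  {H : Type w} [CommRing H] [HopfAlgebra k H] {C : Type x} [CommRing C] [HopfAlgebra k C]
  (φ : R →ₐc[k] H) (ψ : H →ₐc[k] C)
  [Algebra R H] [IsScalarTower k R H]
  (hφ : ∀ r, algebraMap R H r = φ r)
  (hψφ : ∀ r, ψ (φ r) = algebraMap k C (Coalgebra.counit (R := k) r))
  (hψ : Function.Surjective ψ) (hker : RingHom.ker (ψ : H →ₐ[k] C) = augSpan φ)
  {n : ℕ} (c : Matrix (Fin n) (Fin n) C)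

/-- `h ↦ h ⊗ c` as an `R`-linear map -/
noncomputable def inclC (c : C) : H →ₗ[R] H ⊗[k] C where
  toFun h := h ⊗ₜ[k] c
  map_add' := fun a b => TensorProduct.add_tmul a b c
  map_smul' := fun r a => by simp [TensorProduct.smul_tmul']

/-- the defect map whose kernel is the module of solutions -/
noncomputable def Dmap : (Fin n → H) →ₗ[R] (Fin n → H ⊗[k] C) :=
  LinearMap.pi fun i => (lamPR φ ψ hφ hψφ).toLinearMap ∘ₗ LinearMap.proj i -
    ∑ j, inclC (k := k) (R := R) (H := H) (c i j) ∘ₗ LinearMap.proj j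

theorem Dmap_apply (h : Fin n → H) (i : Fin n) :
    Dmap φ ψ hφ hψφ c h i = lamP ψ (h i) - ∑ j, h j ⊗ₜ[k] c i j := by
  simp [Dmap, lamPR_apply, inclC]

theorem mem_ker_Dmap (h : Fin n → H) :
    h ∈ LinearMap.ker (Dmap φ ψ hφ hψφ c) ↔ ∀ i, lamP ψ (h i) = ∑ j, h j ⊗ₜ[k] c i j := by
  rw [LinearMap.mem_ker, funext_iff]
  refine forall_congr' fun i => ?_
  rw [Dmap_apply, Pi.zero_apply, sub_eq_zero]

theorem Dmap_comp_single (i : Fin n) :
    Dmap φ ψ hφ hψφ c ∘ₗ LinearMap.single R (fun _ : Fin n => H) i =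
      LinearMap.single R (fun _ : Fin n => H ⊗[k] C) i ∘ₗ (lamPR φ ψ hφ hψφ).toLinearMap -
        ∑ i', LinearMap.single R (fun _ : Fin n => H ⊗[k] C) i' ∘ₗ
          inclC (k := k) (R := R) (H := H) (c i' i) := by
  apply LinearMap.ext
  intro h
  funext i''
  rw [LinearMap.comp_apply, Dmap_apply]
  simp only [LinearMap.sub_apply, LinearMap.comp_apply, LinearMap.sum_apply, Pi.sub_apply,
    Finset.sum_apply, LinearMap.single_apply, AlgHom.toLinearMap_apply, lamPR_apply, inclC,
    LinearMap.coe_mk, AddHom.coe_mk]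
  by_cases hi : i'' = i
  · subst hi
    simp [Pi.single_apply, TensorProduct.ite_tmul]
  · simp [Pi.single_apply, hi, TensorProduct.ite_tmul]

theorem lTensor_inclC (cc : C) (t : H ⊗[R] H) :
    (inclC (k := k) (R := R) (H := H) cc).lTensor H t =
      mC (k := k) (R := R) (H := H) (C := C) cc * idincl (k := k) (R := R) (H := H) (C := C) t := by
  induction t using TensorProduct.induction_on with
  | zero => simp
  | add x y hx hy => rw [map_add, map_add, mul_add, hx, hy]
  | tmul a b =>
    simp [inclC, mC, incR, idincl, Algebra.TensorProduct.tmul_mul_tmul]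

theorem lTensor_lamPR (t : H ⊗[R] H) :
    (lamPR φ ψ hφ hψφ).toLinearMap.lTensor H t = idlam φ ψ hφ hψφ t := by
  induction t using TensorProduct.induction_on with
  | zero => simp
  | add x y hx hy => rw [map_add, map_add, hx, hy]
  | tmul a b => simp [idlam]

/-- the element of `H ⊗[R] Hⁿ` which multiplies out to the `l`-th basis vector -/
noncomputable def Tl (l : Fin n) : H ⊗[R] (Fin n → H) :=
  ∑ i, (LinearMap.single R (fun _ : Fin n => H) i).lTensor H (theta φ ψ hφ hψ hker (c i l))

theorem lTensor_Dmap_Tl (hc : IsCorepMatrix k c) (l : Fin n) :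
    (Dmap φ ψ hφ hψφ c).lTensor H (Tl φ ψ hφ hψ hker c l) = 0 := by
  unfold Tl
  rw [map_sum]
  have h1 : ∀ i, (Dmap φ ψ hφ hψφ c).lTensor H
      ((LinearMap.single R (fun _ : Fin n => H) i).lTensor H (theta φ ψ hφ hψ hker (c i l))) =
      (LinearMap.single R (fun _ : Fin n => H ⊗[k] C) i).lTensor H
          (idlam φ ψ hφ hψφ (theta φ ψ hφ hψ hker (c i l))) -
        ∑ i', (LinearMap.single R (fun _ : Fin n => H ⊗[k] C) i').lTensor H
          (mC (k := k) (R := R) (H := H) (C := C) (c i' i) *
            idincl (k := k) (R := R) (H := H) (C := C) (theta φ ψ hφ hψ hker (c i l))) := by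
    intro i
    rw [← LinearMap.comp_apply, ← LinearMap.lTensor_comp, Dmap_comp_single, LinearMap.lTensor_sub,
      LinearMap.sub_apply, LinearMap.lTensor_comp, LinearMap.comp_apply, lTensor_lamPR]
    congr 1
    have hs : ∀ (f : Fin n → (H →ₗ[R] (Fin n → H ⊗[k] C))),
        LinearMap.lTensor H (∑ i', f i') = ∑ i', LinearMap.lTensor H (f i') :=
      fun f => map_sum (LinearMap.lTensorHom H) f Finset.univ
    rw [hs, LinearMap.sum_apply]
    apply Finset.sum_congr rfl
    intro i' _
    rw [LinearMap.lTensor_comp, LinearMap.comp_apply, lTensor_inclC]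
  rw [Finset.sum_congr rfl (fun i _ => h1 i), Finset.sum_sub_distrib, Finset.sum_comm, sub_eq_zero]
  apply Finset.sum_congr rfl
  intro i' _
  rw [← map_sum]
  congr 1
  rw [idlam_theta φ ψ hφ hψφ hψ hker, hc.comul, map_sum]
  apply Finset.sum_congr rfl
  intro i _
  simp [Psi]

/-- multiplication `H ⊗[R] Hⁿ → Hⁿ` -/
noncomputable def mulN : H ⊗[R] (Fin n → H) →ₗ[R] (Fin n → H) :=
  TensorProduct.lift (LinearMap.mk₂ R (fun (g : H) (h : Fin n → H) => g • h)
    (fun a b h => add_smul a b h) (fun r a h => smul_assoc r a h)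
    (fun a h h' => smul_add a h h') (fun r a h => smul_comm a r h))

omit [HopfAlgebra k H] [IsScalarTower k R H] in
theorem mulN_tmul (g : H) (h : Fin n → H) : mulN (R := R) (g ⊗ₜ[R] h) = g • h := rfl

omit [HopfAlgebra k H] [IsScalarTower k R H] in
theorem mulN_lTensor_single (i : Fin n) (t : H ⊗[R] H) :
    mulN (R := R) ((LinearMap.single R (fun _ : Fin n => H) i).lTensor H t) =
      Pi.single i (Algebra.TensorProduct.lmul' R (S := H) t) := by
  induction t using TensorProduct.induction_on with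
  | zero => simp
  | add x y hx hy => rw [map_add, map_add, map_add, hx, hy, Pi.single_add]
  | tmul a b =>
    rw [LinearMap.lTensor_tmul, mulN_tmul, Algebra.TensorProduct.lmul'_apply_tmul]
    funext j
    by_cases hj : j = i
    · subst hj
      simp
    · simp [Pi.single_apply, hj]

theorem mulN_Tl (hc : IsCorepMatrix k c) (l : Fin n) :
    mulN (R := R) (Tl φ ψ hφ hψ hker c l) = Pi.single l (1 : H) := by
  unfold Tl
  rw [map_sum]
  have h1 : ∀ i, mulN (R := R) ((LinearMap.single R (fun _ : Fin n => H) i).lTensor H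
      (theta φ ψ hφ hψ hker (c i l))) = Pi.single i (if i = l then (1 : H) else 0) := by
    intro i
    rw [mulN_lTensor_single, lmul_theta, hc.counit]
    congr 1
    split_ifs <;> simp
  rw [Finset.sum_congr rfl (fun i _ => h1 i)]
  funext j
  rw [Finset.sum_apply]
  simp only [Pi.single_apply]
  by_cases hj : j = l
  · subst hj
    simp
  · simp [hj]

omit [HopfAlgebra k H] [IsScalarTower k R H] in
theorem mulN_lTensor_subtype_mem (S : Submodule R (Fin n → H)) (u : H ⊗[R] S) :
    mulN (R := R) (S.subtype.lTensor H u) ∈ Submodule.span H (S : Set (Fin n → H)) := by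
  induction u using TensorProduct.induction_on with
  | zero => simp
  | add x y hx hy =>
    rw [map_add, map_add]
    exact Submodule.add_mem _ hx hy
  | tmul g s =>
    rw [LinearMap.lTensor_tmul, mulN_tmul]
    exact Submodule.smul_mem _ _ (Submodule.subset_span s.2)

include hψ hker in
/-- **descent**: the solutions generate `Hⁿ` over `H` -/
theorem single_mem_span_ker [Module.Flat R H] (hc : IsCorepMatrix k c) (l : Fin n) :
    Pi.single l (1 : H) ∈ Submodule.span H
      ((LinearMap.ker (Dmap φ ψ hφ hψφ c) : Submodule R (Fin n → H)) : Set (Fin n → H)) := by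
  have hex := Module.Flat.lTensor_exact H (LinearMap.exact_subtype_ker_map (Dmap φ ψ hφ hψφ c))
  obtain ⟨u, hu⟩ := (hex _).1 (lTensor_Dmap_Tl φ ψ hφ hψφ hψ hker c hc l)
  rw [← mulN_Tl φ ψ hφ hψ hker c hc l, ← hu]
  exact mulN_lTensor_subtype_mem _ u

end B

end Groth.Agent.Lib.Helper75.LinRedKer
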