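import Groth.Agent.Lib.Helper75.LinRedKerC
import Groth.Agent.Lib.Helper84.LinRed
import Groth.Agent.Lib.Helper75.HopfIntegralBC
import Groth.Agent.Lib.Helper75.ComodRestr

/-!
# Kernel of a quotient of a linearly reductive group, part D: the kernel is linearly reductive (helper75)
-/

set_option autoImplicit false
set_option linter.unusedSectionVars false

namespace Groth.Agent.Lib.Helper75.LinRedKer

open TensorProduct WithConv Groth.Agent.Lib.Helper16.FinHopf Groth.Agent.Lib.Helper23.HopfFlat
  Groth.Agent.Lib.Helper84 Groth.Agent.Lib.Helper75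

universe u v w x

section D

variable {k : Type u} [Field k] {R : Type v} [CommRing R] [HopfAlgebra k R] [Algebra.FiniteType k R]
  {H : Type w} [CommRing H] [HopfAlgebra k H] [Algebra.FiniteType k H]
  {C : Type x} [CommRing C] [HopfAlgebra k C]
  (φ : R →ₐc[k] H) (hφi : Function.Injective φ) (ψ : H →ₐc[k] C) (hψ : Function.Surjective ψ)
  (hker : RingHom.ker (ψ : H →ₐ[k] C) = augSpan φ)

include hφi hψ hker in
theorem hasLift_kernel (β : H →ₗ[k] k) (hβ : ∀ a, hitR β a = β a • (1 : H)) (hβ1 : β 1 = 1) :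
    HasLift k C := by
  intro V W _ _ cV _ _ cW hfinV hfinW f hf hsurj w hw
  by_cases hw0 : w = 0
  · exact ⟨0, Submodule.zero_mem _, by rw [map_zero, hw0]⟩
  have hf' : Hoch.IsComodHom C f := hf.symm
  have hfact := (isComodHom_iff (A := C) f).1 hf'
  have hwco : HopfRep.Comod.coact (k := k) (A := C) w = w ⊗ₜ[k] (1 : C) := hw
  have hwact : ∀ g : C →ₗ[k] k, act g w = g 1 • w := by
    intro g
    rw [act_apply]
    show contractR W g (HopfRep.Comod.coact (k := k) (A := C) w) = _
    rw [hwco, contractR_tmul]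
  let M' : Submodule k V := Submodule.comap f (Submodule.span k {w})
  have hM' : HopfRep.IsSubcomod (k := k) (A := C) M' := by
    rw [isSubcomod_iff]
    intro g v hv
    rw [Submodule.mem_comap, Submodule.mem_span_singleton] at hv ⊢
    obtain ⟨a, ha⟩ := hv
    refine ⟨a * g 1, ?_⟩
    rw [hfact, ← ha, map_smul, hwact, smul_smul]
  letI cX : HopfRep.Comod k C M' := restrComod M' hM'
  haveI : Module.Finite k V := hfinV
  have hcoe : ∀ x : M', HopfRep.Comod.coact (k := k) (A := C) (x : V) =
      M'.subtype.rTensor C (HopfRep.Comod.coact (k := k) (A := C) x) :=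
    fun x => (ComodSub.restr_coact_coe cV M' hM' x).symm
  let b := Module.finBasis k M'
  let c : Matrix (Fin (Module.finrank k M')) (Fin (Module.finrank k M')) C := coeffMatrix (A := C) b
  have hc : IsCorepMatrix k c := isCorepMatrix_coeffMatrix b
  have hcb : ∀ j, HopfRep.Comod.coact (k := k) (A := C) (b j) = ∑ i, b i ⊗ₜ[k] c i j := fun j => coact_basis b j
  have hpex : ∀ i, ∃ a : k, a • w = f (b i : V) := by
    intro i
    have := (b i).2
    rwa [Submodule.mem_comap, Submodule.mem_span_singleton] at this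
  choose p hp using hpex
  obtain ⟨ν, hν⟩ : ∃ ν : W →ₗ[k] k, ν w = 1 := by
    obtain ⟨ν0, hν0⟩ : ∃ ν0 : W →ₗ[k] k, ν0 w ≠ 0 := by
      by_contra hcon
      push Not at hcon
      exact hw0 ((Module.forall_dual_apply_eq_zero_iff k w).1 hcon)
    refine ⟨(ν0 w)⁻¹ • ν0, ?_⟩
    rw [LinearMap.smul_apply, smul_eq_mul, inv_mul_cancel₀ hν0]
  -- invariance of p
  have hpinv : ∀ j, ∑ i, p i • c i j = p j • (1 : C) := by
    intro j
    have e1 : HopfRep.Comod.coact (k := k) (A := C) (f (b j : V)) =
        ∑ i, (p i • w) ⊗ₜ[k] c i j := by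
      have h1 := LinearMap.congr_fun hf' (b j : V)
      simp only [LinearMap.coe_comp, Function.comp_apply] at h1
      rw [h1, hcoe, hcb, map_sum, map_sum]
      apply Finset.sum_congr rfl
      intro i _
      rw [LinearMap.rTensor_tmul, LinearMap.rTensor_tmul, Submodule.subtype_apply, hp]
    have e2 : HopfRep.Comod.coact (k := k) (A := C) (f (b j : V)) = (p j • w) ⊗ₜ[k] (1 : C) := by
      rw [← hp, map_smul, hwco, TensorProduct.smul_tmul']
    have e3 := congrArg (contractL C ν) (e1.symm.trans e2)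
    rw [map_sum, contractL_tmul, map_smul, hν, smul_eq_mul, mul_one] at e3
    rw [← e3]
    apply Finset.sum_congr rfl
    intro i _
    rw [contractL_tmul, map_smul, hν, smul_eq_mul, mul_one]
  have hp0 : p ≠ 0 := by
    intro h0
    obtain ⟨v, hv⟩ := hsurj w
    have hvM : v ∈ M' := by
      rw [Submodule.mem_comap, hv]
      exact Submodule.mem_span_singleton_self w
    have h2 : (f ∘ₗ M'.subtype) = 0 := by
      apply b.ext
      intro i
      rw [LinearMap.comp_apply, Submodule.subtype_apply, ← hp, h0, Pi.zero_apply, zero_smul,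
        LinearMap.zero_apply]
    have h3 := LinearMap.congr_fun h2 ⟨v, hvM⟩
    rw [LinearMap.comp_apply, Submodule.subtype_apply, LinearMap.zero_apply] at h3
    exact hw0 (hv.symm.trans h3)
  obtain ⟨ξ, hξ, hpξ⟩ := exists_invariant φ hφi ψ hψ hker c hc p hpinv hp0 β hβ hβ1
  let x : M' := ∑ j, ξ j • b j
  have hx : HopfRep.Comod.coact (k := k) (A := C) x = x ⊗ₜ[k] (1 : C) := by
    show HopfRep.Comod.coact (k := k) (A := C) (∑ j, ξ j • b j) = (∑ j, ξ j • b j) ⊗ₜ[k] (1 : C)
    rw [map_sum, TensorProduct.sum_tmul]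
    have e1 : ∀ j, HopfRep.Comod.coact (k := k) (A := C) (ξ j • b j) = ∑ i, b i ⊗ₜ[k] (ξ j • c i j) := by
      intro j
      rw [map_smul, hcb, Finset.smul_sum]
      apply Finset.sum_congr rfl
      intro i _
      rw [TensorProduct.tmul_smul]
    rw [Finset.sum_congr rfl (fun j _ => e1 j), Finset.sum_comm]
    apply Finset.sum_congr rfl
    intro i _
    rw [← TensorProduct.tmul_sum, hξ i, TensorProduct.tmul_smul, TensorProduct.smul_tmul']
  refine ⟨(x : V), ?_, ?_⟩
  · show HopfRep.Comod.coact (k := k) (A := C) (x : V) = (x : V) ⊗ₜ[k] (1 : C)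
    rw [hcoe, hx, LinearMap.rTensor_tmul, Submodule.subtype_apply]
  · show f ((∑ j, ξ j • b j : M') : V) = w
    rw [Submodule.coe_sum, map_sum]
    have e1 : ∀ j, f ((ξ j • b j : M') : V) = (p j * ξ j) • w := by
      intro j
      rw [Submodule.coe_smul, map_smul, ← hp, smul_smul, mul_comm]
    rw [Finset.sum_congr rfl (fun j _ => e1 j), ← Finset.sum_smul, hpξ, one_smul]

end D

end Groth.Agent.Lib.Helper75.LinRedKer
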