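import Groth.Agent.Lib.Helper75.LinRedKerD

/-!
# Linear reductivity in an exact sequence `1 → K → G → Q → 1`, part E (helper75)

* `isLinearlyReductive_kernel`: `G` linearly reductive ⟹ `K` linearly reductive;
* `isLinearlyReductive_quotient`: `G` linearly reductive ⟹ `Q` linearly reductive;
* `isLinearlyReductive_of_kernel_quotient`: `K`, `Q` linearly reductive ⟹ `G` linearly reductive.
-/

set_option autoImplicit false
set_option linter.unusedSectionVars false

namespace Groth.Agent.Lib.Helper75.LinRedKer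

open TensorProduct WithConv Groth.Agent.Lib.Helper16.FinHopf Groth.Agent.Lib.Helper23.HopfFlat
  Groth.Agent.Lib.Helper84 Groth.Agent.Lib.Helper75

universe u v w x

section E

variable {k : Type u} [Field k] {R : Type v} [CommRing R] [HopfAlgebra k R] [Algebra.FiniteType k R]
  {H : Type w} [CommRing H] [HopfAlgebra k H] [Algebra.FiniteType k H]
  {C : Type x} [CommRing C] [HopfAlgebra k C]
  (φ : R →ₐc[k] H) (hφi : Function.Injective φ) (ψ : H →ₐc[k] C) (hψ : Function.Surjective ψ)
  (hker : RingHom.ker (ψ : H →ₐ[k] C) = augSpan φ)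

include hφi hψ hker in
/-- the kernel of a quotient map out of a linearly reductive group is linearly reductive -/
theorem isLinearlyReductive_kernel (hG : HopfRep.IsLinearlyReductive k H) :
    HopfRep.IsLinearlyReductive k C := by
  obtain ⟨α, hα, h1⟩ := exists_total_integral_of_isLinearlyReductive hG
  obtain ⟨β, hβ, hβ1⟩ := exists_right_integral α hα h1
  exact isLinearlyReductive_of_hasLift (hasLift_kernel φ hφi ψ hψ hker β hβ hβ1)

omit [Algebra.FiniteType k R] [Algebra.FiniteType k H] in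
/-- `hitL` and a coalgebra map -/
theorem hitL_map (g : H →ₗ[k] k) (r : R) :
    hitL g (φ r) = φ (hitL (g ∘ₗ (φ : R →ₗ[k] H)) r) := by
  have h1 : CoalgebraStruct.comul (R := k) (φ r) =
      TensorProduct.map (φ : R →ₗ[k] H) (φ : R →ₗ[k] H) (CoalgebraStruct.comul (R := k) r) :=
    (CoalgHomClass.map_comp_comul_apply φ r).symm
  show contractL H g (CoalgebraStruct.comul (R := k) (φ r)) = _
  rw [h1, contractL_map]
  rfl

omit [Algebra.FiniteType k R] [Algebra.FiniteType k H] in
include hφi in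
/-- a quotient of a linearly reductive group is linearly reductive -/
theorem isLinearlyReductive_quotient (hG : HopfRep.IsLinearlyReductive k H) :
    HopfRep.IsLinearlyReductive k R := by
  obtain ⟨α, hα, h1⟩ := exists_total_integral_of_isLinearlyReductive hG
  have hαQ : ∀ r, hitL (α ∘ₗ (φ : R →ₗ[k] H)) r = (α ∘ₗ (φ : R →ₗ[k] H)) r • (1 : R) := by
    intro r
    apply hφi
    rw [← hitL_map, hα, map_smul, map_one]
    rfl
  have h1Q : (α ∘ₗ (φ : R →ₗ[k] H)) 1 = 1 := by
    rw [LinearMap.comp_apply]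
    show α (φ 1) = 1
    rw [map_one, h1]
  intro V _ _ _ _
  exact isSemisimpleComod_of_integral _ hαQ h1Q

omit [Algebra.FiniteType k R] [Algebra.FiniteType k H] in
theorem rTensor_toSpanSingleton (f : H →ₗ[k] k) (t : H ⊗[k] H) :
    ((LinearMap.toSpanSingleton k C (1 : C) ∘ₗ f).rTensor H) t = (1 : C) ⊗ₜ[k] contractL H f t := by
  induction t using TensorProduct.induction_on with
  | zero => simp
  | tmul x y =>
    rw [LinearMap.rTensor_tmul, contractL_tmul, LinearMap.comp_apply, LinearMap.toSpanSingleton_apply,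
      TensorProduct.smul_tmul]
  | add x y hx hy => rw [map_add, map_add, hx, hy, TensorProduct.tmul_add]

omit [Algebra.FiniteType k R] [Algebra.FiniteType k H] in
/-- averaging over the kernel lands in the left-coinvariants -/
theorem lamP_hitL (αK : C →ₗ[k] k) (hαK : ∀ c, hitL αK c = αK c • (1 : C)) (a : H) :
    lamP ψ (hitL (αK ∘ₗ (ψ : H →ₗ[k] C)) a) = hitL (αK ∘ₗ (ψ : H →ₗ[k] C)) a ⊗ₜ[k] (1 : C) := by
  set E' : H →ₗ[k] H := hitL (αK ∘ₗ (ψ : H →ₗ[k] C)) with hE'
  have hcomul : CoalgebraStruct.comul (R := k) (E' a) = E'.rTensor H (CoalgebraStruct.comul (R := k) a) :=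
    comul_cf (A := H) (V := H) (αK ∘ₗ (ψ : H →ₗ[k] C)) a
  have hψE : (ψ : H →ₗ[k] C) ∘ₗ E' =
      LinearMap.toSpanSingleton k C (1 : C) ∘ₗ (αK ∘ₗ (ψ : H →ₗ[k] C)) := by
    ext b
    simp only [LinearMap.coe_comp, Function.comp_apply, LinearMap.toSpanSingleton_apply]
    have := hitL_map ψ αK b
    rw [hαK] at this
    exact this.symm
  rw [lamP_eq, hcomul, ← LinearMap.comp_apply, ← LinearMap.rTensor_comp, hψE, rTensor_toSpanSingleton,
    TensorProduct.comm_tmul]
  rfl

include hφi hψ hker in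
/-- an extension of a linearly reductive group by a linearly reductive group is linearly reductive -/
theorem isLinearlyReductive_of_kernel_quotient (hK : HopfRep.IsLinearlyReductive k C)
    (hQ : HopfRep.IsLinearlyReductive k R) : HopfRep.IsLinearlyReductive k H := by
  obtain ⟨αK, hαK, hK1⟩ := exists_total_integral_of_isLinearlyReductive hK
  obtain ⟨αQ, hαQ, hQ1⟩ := exists_total_integral_of_isLinearlyReductive hQ
  set E' : H →ₗ[k] H := hitL (αK ∘ₗ (ψ : H →ₗ[k] C)) with hE'
  have hrange : ∀ a, E' a ∈ Set.range φ := fun a =>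
    mem_range_of_lamP φ hφi ψ hψ hker (E' a) (lamP_hitL ψ αK hαK a)
  obtain ⟨π, hπ⟩ := LinearMap.exists_leftInverse_of_injective (φ : R →ₗ[k] H)
    (LinearMap.ker_eq_bot.2 hφi)
  have hπφ : ∀ r, π (φ r) = r := fun r => LinearMap.congr_fun hπ r
  have hcomul : ∀ a, CoalgebraStruct.comul (R := k) (E' a) =
      E'.rTensor H (CoalgebraStruct.comul (R := k) a) := fun a =>
    comul_cf (A := H) (V := H) (αK ∘ₗ (ψ : H →ₗ[k] C)) a
  let αG : H →ₗ[k] k := (αQ ∘ₗ π) ∘ₗ E'
  have hαG : ∀ a, hitL αG a = αG a • (1 : H) := by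
    intro a
    obtain ⟨r, hr⟩ := hrange a
    show contractL H ((αQ ∘ₗ π) ∘ₗ E') (CoalgebraStruct.comul (R := k) a) = _
    rw [← contractL_rTensor, ← hcomul, ← hr]
    have h2 : contractL H (αQ ∘ₗ π) (CoalgebraStruct.comul (R := k) (φ r)) = hitL (αQ ∘ₗ π) (φ r) := rfl
    rw [h2, hitL_map]
    have h3 : (αQ ∘ₗ π) ∘ₗ (φ : R →ₗ[k] H) = αQ := by
      rw [LinearMap.comp_assoc, hπ]
      rfl
    rw [h3, hαQ, map_smul, map_one]
    have h4 : αG a = αQ r := by
      show αQ (π (E' a)) = αQ r
      rw [← hr, hπφ]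
    rw [h4]
  have hE1 : E' 1 = 1 := by
    show contractL H (αK ∘ₗ (ψ : H →ₗ[k] C)) (CoalgebraStruct.comul (R := k) (1 : H)) = 1
    rw [Bialgebra.comul_one, Algebra.TensorProduct.one_def, contractL_tmul, LinearMap.comp_apply]
    show αK (ψ 1) • (1 : H) = 1
    rw [map_one, hK1, one_smul]
  have hαG1 : αG 1 = 1 := by
    show αQ (π (E' 1)) = 1
    rw [hE1, ← map_one φ, hπφ, hQ1]
  intro V _ _ _ _
  exact isSemisimpleComod_of_integral αG hαG hαG1

end E

end Groth.Agent.Lib.Helper75.LinRedKer
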