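import Mathlib

/-!
# A block of an invertible matrix vanishes iff the corresponding maximal minors are proportional
to those of the identity (helper75)

Linear algebra behind "the stabilizer of a subspace is the stabilizer of a line".
-/

set_option autoImplicit false

namespace Groth.Agent.Lib.Helper75.MinorStab

open Matrix Equiv

variable {R : Type*} [CommRing R] {ι ι₁ : Type*} [Fintype ι] [DecidableEq ι] [Fintype ι₁] [DecidableEq ι₁]

/-- the minor with rows `S` and columns `emb` -/
def minor (G : Matrix ι ι R) (emb : ι₁ → ι) (S : ι₁ → ι) : Matrix ι₁ ι₁ R := fun l m => G (S l) (emb m)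

theorem det_minor_perm (G : Matrix ι ι R) (emb : ι₁ → ι) (σ : Perm ι₁) :
    (minor G emb (emb ∘ σ)).det = Perm.sign σ * (minor G emb emb).det := by
  have : minor G emb (emb ∘ σ) = (minor G emb emb).submatrix σ id := rfl
  rw [this, det_permute]

theorem det_minor_eq_zero_of_block (G : Matrix ι ι R) (emb : ι₁ → ι)
    (hblock : ∀ s, s ∉ Set.range emb → ∀ j, G s (emb j) = 0) (S : ι₁ → ι)
    (hS : ¬ ∃ σ : Perm ι₁, S = emb ∘ σ) : (minor G emb S).det = 0 := by
  by_cases h : ∃ l, S l ∉ Set.range emb
  · obtain ⟨l, hl⟩ := h
    exact det_eq_zero_of_row_eq_zero l (fun j => hblock _ hl j)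
  · push Not at h
    choose τ hτ using h
    have hninj : ¬ Function.Injective τ := by
      intro hinj
      have hbij : Function.Bijective τ := Finite.injective_iff_bijective.1 hinj
      apply hS
      refine ⟨Equiv.ofBijective τ hbij, ?_⟩
      funext l
      simp [hτ l]
    rw [Function.not_injective_iff] at hninj
    obtain ⟨l, l', hll', hne⟩ := hninj
    apply det_zero_of_row_eq hne
    funext m
    show G (S l) (emb m) = G (S l') (emb m)
    rw [← hτ l, ← hτ l', hll']

theorem det_mul_expand (P : Matrix ι₁ ι R) (Q : Matrix ι ι₁ R) :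
    (P * Q).det = ∑ S : ι₁ → ι, (∏ i, P i (S i)) * (Matrix.of fun l m => Q (S l) m).det := by
  rw [← det_transpose, det_apply']
  have h1 : ∀ σ : Perm ι₁, ∏ i, (P * Q)ᵀ (σ i) i =
      ∑ S : ι₁ → ι, (∏ i, P i (S i)) * ∏ i, Q (S i) (σ i) := by
    intro σ
    simp only [transpose_apply, mul_apply]
    rw [Finset.prod_univ_sum]
    simp only [Fintype.piFinset_univ, Finset.prod_mul_distrib]
  simp only [h1, Finset.mul_sum]
  rw [Finset.sum_comm]
  apply Finset.sum_congr rfl
  intro S _
  rw [← det_transpose, det_apply', Finset.mul_sum]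
  apply Finset.sum_congr rfl
  intro σ _
  simp only [transpose_apply, of_apply]
  ring

theorem block_iff (G G' : Matrix ι ι R) (hinv : G' * G = 1) (emb : ι₁ → ι) (hemb : Function.Injective emb) :
    (∀ s, s ∉ Set.range emb → ∀ j, G s (emb j) = 0) ↔
      ∃ c : R, (∀ σ : Perm ι₁, (minor G emb (emb ∘ σ)).det = Perm.sign σ * c) ∧
        (∀ S : ι₁ → ι, (¬ ∃ σ : Perm ι₁, S = emb ∘ σ) → (minor G emb S).det = 0) := by
  classical
  constructor
  · intro hblock
    exact ⟨(minor G emb emb).det, fun σ => det_minor_perm G emb σ,
      fun S hS => det_minor_eq_zero_of_block G emb hblock S hS⟩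
  · rintro ⟨c, h1, h2⟩
    -- `c` is a unit
    have hPQ : (G'.submatrix emb id) * (G.submatrix id emb) = (1 : Matrix ι₁ ι₁ R) := by
      ext l m
      have := congrFun (congrFun hinv (emb l)) (emb m)
      rw [mul_apply] at this
      rw [mul_apply]
      simp only [submatrix_apply, id_eq]
      rw [this, one_apply, one_apply]
      simp [hemb.eq_iff]
    have hdet := det_mul_expand (G'.submatrix emb id) (G.submatrix id emb)
    rw [hPQ, det_one] at hdet
    have hterm : ∀ S : ι₁ → ι, ∃ r : R, (Matrix.of fun l m => (G.submatrix id emb) (S l) m).det = r * c := by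
      intro S
      by_cases hS : ∃ σ : Perm ι₁, S = emb ∘ σ
      · obtain ⟨σ, rfl⟩ := hS
        exact ⟨Perm.sign σ, h1 σ⟩
      · exact ⟨0, by rw [zero_mul]; exact h2 S hS⟩
    choose r hr using hterm
    have hunit : IsUnit c := by
      apply IsUnit.of_mul_eq_one (∑ S : ι₁ → ι, (∏ i, (G'.submatrix emb id) i (S i)) * r S)
      rw [hdet, Finset.mul_sum]
      apply Finset.sum_congr rfl
      intro S _
      rw [hr S]
      ring
    have hc : (minor G emb emb).det = c := by
      have := h1 1
      simpa using this
    intro s hs j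
    set v : ι₁ → R := fun m => G s (emb m) with hv
    have hcr : cramer (minor G emb emb)ᵀ v = 0 := by
      funext l
      rw [cramer_transpose_apply]
      have : (minor G emb emb).updateRow l v = minor G emb (Function.update emb l s) := by
        ext l' m
        by_cases hl : l' = l
        · subst hl
          simp [minor, hv]
        · simp [minor, updateRow_ne hl, Function.update_of_ne hl]
      rw [this]
      apply h2
      rintro ⟨σ, hσ⟩
      apply hs
      have := congrFun hσ l
      rw [Function.update_self] at this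
      exact ⟨σ l, this.symm⟩
    have hmc := mulVec_cramer (minor G emb emb)ᵀ v
    rw [hcr, mulVec_zero, det_transpose, hc] at hmc
    have hv0 : ∀ m, v m = 0 := by
      intro m
      have := congrFun hmc m
      simp only [Pi.zero_apply, Pi.smul_apply, smul_eq_mul] at this
      exact (hunit.mul_right_eq_zero).1 this.symm
    exact hv0 j

end Groth.Agent.Lib.Helper75.MinorStab
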