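import Groth.Agent.Lib.Helper75.LineStab
import Groth.Agent.Lib.Helper75.ComodCosemisimple
import Mathlib.LinearAlgebra.BilinearForm.Orthogonal

/-!
# Complete reducibility from transpose-symmetric corepresentations over an ordered field (helper75)

The unitarian trick in comodule form: over an ordered field `F`, if a linear map `τ : A → A` sends
the entries of a corepresentation matrix `M` to the entries of its transpose, then the orthogonal
complement (for the dot product) of a subcomodule of `matComod M` is a subcomodule, hence
`matComod M` is semisimple.  If such matrices have entries spanning `A`, then `A` is linearly reductive.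
-/

set_option autoImplicit false
universe u

open TensorProduct

namespace Groth.Agent.Lib.Helper75.PosRed

open Groth.Agent.Lib.Helper75 Groth.Agent.Lib.Helper75.LineStab

section Act

variable {F : Type u} [Field F] {A : Type u} [CommRing A] [HopfAlgebra F A]
variable {κ : Type} [Fintype κ] [DecidableEq κ]

theorem act_matComod (M : Matrix κ κ A) (hM : IsCorep F M) (f : A →ₗ[F] F) (x : κ → F) (s : κ) :
    (@act F _ A _ _ _ (κ → F) _ _ (matComod M hM) f x) s = ∑ t, x t * f (M s t) := by
  letI := matComod M hM
  have h := contract_comm (k := F) (A := A) (V := κ → F) f (LinearMap.proj s) ((matComod M hM).coact x)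
  rw [contractL_proj_coact] at h
  rw [LinearMap.proj_apply] at h
  rw [act_apply]
  show (contractR (κ → F) f ((matComod M hM).coact x)) s = _
  rw [h, map_sum]
  apply Finset.sum_congr rfl
  intro t _
  rw [map_smul, smul_eq_mul]

end Act

section Ortho

variable {F : Type u} [Field F] {A : Type u} [CommRing A] [HopfAlgebra F A]
variable {κ : Type} [Fintype κ] [DecidableEq κ]

/-- the dot product as a bilinear form -/
noncomputable def dotB (F : Type u) [Field F] (κ : Type) [Fintype κ] : LinearMap.BilinForm F (κ → F) :=
  dotProductBilin F F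

theorem dotB_apply (x y : κ → F) : dotB F κ x y = ∑ s, x s * y s := rfl

theorem dotB_isSymm : (dotB F κ).IsSymm := by
  refine ⟨fun x y => ?_⟩
  simp only [dotB_apply, RingHom.id_apply]
  apply Finset.sum_congr rfl
  intro s _
  exact mul_comm _ _

/-- the orthogonal complement of a subcomodule of a transpose-symmetric matrix comodule is a subcomodule -/
theorem isSubcomod_orthogonal (M : Matrix κ κ A) (hM : IsCorep F M) (τ : A →ₗ[F] A)
    (hτ : ∀ s t, τ (M s t) = M t s) (W : Submodule F (κ → F))
    (hW : @HopfRep.IsSubcomod F A _ _ _ _ (κ → F) _ _ (matComod M hM) W) :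
    @HopfRep.IsSubcomod F A _ _ _ _ (κ → F) _ _ (matComod M hM) ((dotB F κ).orthogonal W) := by
  letI := matComod M hM
  rw [isSubcomod_iff] at hW ⊢
  intro f v hv
  rw [LinearMap.BilinForm.mem_orthogonal_iff] at hv ⊢
  intro w hw
  show dotB F κ w (act f v) = 0
  -- the two elements of `A`
  set m : A := ∑ s, ∑ t, (w s * v t) • M s t with hm
  set m' : A := ∑ s, ∑ t, (w s * v t) • M t s with hm'
  have h1 : dotB F κ w (act f v) = f m := by
    rw [dotB_apply, hm, map_sum]
    apply Finset.sum_congr rfl
    intro s _
    rw [act_matComod, Finset.mul_sum, map_sum]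
    apply Finset.sum_congr rfl
    intro t _
    rw [map_smul, smul_eq_mul]
    ring
  have h2 : ∀ g : A →ₗ[F] F, g m' = 0 := by
    intro g
    have h3 : dotB F κ (act g w) v = 0 := hv _ (hW g w hw)
    rw [dotB_apply] at h3
    rw [← h3, hm', map_sum]
    simp_rw [map_sum, map_smul, smul_eq_mul]
    rw [Finset.sum_comm]
    apply Finset.sum_congr rfl
    intro t _
    rw [act_matComod, Finset.sum_mul]
    apply Finset.sum_congr rfl
    intro s _
    ring
  have h4 : m' = 0 := (Module.forall_dual_apply_eq_zero_iff F m').1 h2
  have h5 : τ m' = m := by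
    rw [hm, hm', map_sum]
    apply Finset.sum_congr rfl
    intro s _
    rw [map_sum]
    apply Finset.sum_congr rfl
    intro t _
    rw [map_smul, hτ]
  rw [h1, ← h5, h4, map_zero, map_zero]

/-- over an ordered field, a transpose-symmetric matrix comodule is semisimple -/
theorem isSemisimpleComod_matComod [LinearOrder F] [IsStrictOrderedRing F]
    (M : Matrix κ κ A) (hM : IsCorep F M) (τ : A →ₗ[F] A)
    (hτ : ∀ s t, τ (M s t) = M t s) :
    @HopfRep.IsSemisimpleComod F A _ _ _ _ (κ → F) _ _ (matComod M hM) := by
  intro W hW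
  refine ⟨(dotB F κ).orthogonal W, isSubcomod_orthogonal M hM τ hτ W hW, ?_⟩
  refine LinearMap.BilinForm.isCompl_orthogonal_of_restrict_nondegenerate (B := dotB F κ) dotB_isSymm.isRefl ?_
  have key : ∀ x : W, (∀ y : W, dotB F κ x y = 0) → x = 0 := by
    intro x hx
    have h0 := hx x
    rw [dotB_apply] at h0
    have h1 : ∀ s ∈ Finset.univ, (x : κ → F) s * (x : κ → F) s = 0 :=
      (Finset.sum_eq_zero_iff_of_nonneg (fun s _ => mul_self_nonneg _)).1 h0
    apply Subtype.ext
    funext s
    exact mul_self_eq_zero.1 (h1 s (Finset.mem_univ s))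
  refine ⟨fun x hx => key x hx, fun y hy => key y (fun x => ?_)⟩
  have := hy x
  simp only [LinearMap.BilinForm.restrict_apply, LinearMap.domRestrict_apply] at this ⊢
  rw [dotB_isSymm.eq] at this
  simpa using this

end Ortho

section Regular

variable {F : Type u} [Field F] [LinearOrder F] [IsStrictOrderedRing F]
variable {A : Type u} [CommRing A] [HopfAlgebra F A]

attribute [local instance] comodModule

/-- the row `s` of a corepresentation matrix, as a coefficient function -/
theorem cf_proj_single {κ : Type} [Fintype κ] [DecidableEq κ] (M : Matrix κ κ A) (hM : IsCorep F M) (s t : κ) :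
    @cf F _ A _ _ _ (κ → F) _ _ (matComod M hM) (LinearMap.proj s) (Pi.single t 1) = M s t := by
  letI := matComod M hM
  rw [cf_apply]
  show contractL A (LinearMap.proj s) ((matComod M hM).coact (Pi.single t 1)) = _
  rw [contractL_proj_coact, Finset.sum_eq_single t]
  · rw [Pi.single_eq_same, one_smul]
  · intro u _ hu
    rw [Pi.single_eq_of_ne hu, zero_smul]
  · intro h; exact absurd (Finset.mem_univ t) h

/-- if transpose-symmetric corepresentation matrices have entries spanning `A`, the regular comodule is semisimple -/
theorem isSemisimpleModule_regular {ι : Type*} (κ : ι → Type) [∀ i, Fintype (κ i)] [∀ i, DecidableEq (κ i)]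
    (M : ∀ i, Matrix (κ i) (κ i) A) (hM : ∀ i, IsCorep F (M i)) (τ : A →ₗ[F] A)
    (hτ : ∀ i s t, τ (M i s t) = M i t s)
    (hspan : Submodule.span F {b : A | ∃ i s t, b = M i s t} = ⊤) :
    IsSemisimpleModule (DualAlg F A) A := by
  let p : (Σ i, κ i) → Submodule (DualAlg F A) A := fun x =>
    letI := matComod (M x.1) (hM x.1)
    LinearMap.range (cfR (A := A) (V := κ x.1 → F) (LinearMap.proj x.2))
  apply isSemisimpleModule_of_isSemisimpleModule_submodule' (p := p)
  · rintro ⟨i, s⟩
    letI := matComod (M i) (hM i)
    haveI : IsSemisimpleModule (DualAlg F A) (κ i → F) :=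
      isSemisimpleComod_iff.1 (isSemisimpleComod_matComod (M i) (hM i) τ (hτ i))
    exact IsSemisimpleModule.range _
  · apply Submodule.restrictScalars_injective F
    rw [Submodule.restrictScalars_top, eq_top_iff, ← hspan, Submodule.span_le]
    rintro b ⟨i, s, t, rfl⟩
    letI := matComod (M i) (hM i)
    have h1 : M i s t ∈ p ⟨i, s⟩ := ⟨Pi.single t 1, by
      rw [cfR_apply]
      exact cf_proj_single (M i) (hM i) s t⟩
    exact (le_iSup p ⟨i, s⟩) h1

/-- linear reductivity from transpose-symmetric corepresentations with spanning entries -/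
theorem isLinearlyReductive {ι : Type*} (κ : ι → Type) [∀ i, Fintype (κ i)] [∀ i, DecidableEq (κ i)]
    (M : ∀ i, Matrix (κ i) (κ i) A) (hM : ∀ i, IsCorep F (M i)) (τ : A →ₗ[F] A)
    (hτ : ∀ i s t, τ (M i s t) = M i t s)
    (hspan : Submodule.span F {b : A | ∃ i s t, b = M i s t} = ⊤) :
    HopfRep.IsLinearlyReductive F A := by
  intro V _ _ _ _
  rw [isSemisimpleComod_iff]
  exact isSemisimpleModule_of_regular (isSemisimpleModule_regular κ M hM τ hτ hspan)

end Regular

end Groth.Agent.Lib.Helper75.PosRed
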