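import Groth.Agent.Lib.Helper23.PolyCoverB
import Groth.Agent.Lib.Helper75.ComodCosemisimple

/-!
# Relative Hilbert finiteness, universe-polymorphic copy of helper23's
`PolyCoverB.exists_finset_generators_relative` (helper75, for S16107)
-/

set_option autoImplicit false
universe u v w w'

open TensorProduct Groth.Agent.Lib.Helper75 Groth.Agent.Lib.Helper23.Reynolds
  Groth.Agent.Lib.Helper23.GITAffine Groth.Agent.Lib.Helper23.GradedInv
  Groth.Agent.Lib.Helper23.GradedInvB Groth.Agent.Lib.Helper23.PolyCover
  Groth.Agent.Lib.Helper23.PolyCoverB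

namespace Groth.Agent.Lib.Helper75.RelHilb

section Main

attribute [local instance] comodModule

variable {k : Type u} [Field k] {H : Type v} [CommRing H] [Bialgebra k H]
variable {A : Type w} [CommRing A] [Algebra k A] [IsNoetherianRing A] [HopfRep.Comod k H A]
variable {C : Type w'} [CommRing C] [Algebra k C] [HopfRep.Comod k H C]
variable [Algebra A C] [IsScalarTower k A C] [Algebra.FiniteType A C]

/-- **Relative Hilbert finiteness**: `C` a finitely generated algebra over the Noetherian comodule
algebra `A`, compatibly coacted on by a linearly reductive bialgebra; then `C^G` is generated over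
the image of `A^G` by finitely many invariants. -/
theorem exists_finset_generators_relative (hG : HopfRep.IsLinearlyReductive k H)
    (hmulA : ∀ f g : A, HopfRep.Comod.coact (k := k) (A := H) (f * g) =
      HopfRep.Comod.coact (k := k) (A := H) f * HopfRep.Comod.coact (k := k) (A := H) g)
    (honeA : HopfRep.Comod.coact (k := k) (A := H) (1 : A) = 1)
    (hmulC : ∀ f g : C, HopfRep.Comod.coact (k := k) (A := H) (f * g) =
      HopfRep.Comod.coact (k := k) (A := H) f * HopfRep.Comod.coact (k := k) (A := H) g)
    (honeC : HopfRep.Comod.coact (k := k) (A := H) (1 : C) = 1)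
    (hAC : Hoch.IsComodHom H (IsScalarTower.toAlgHom k A C).toLinearMap) :
    ∃ s : Finset C, (∀ f ∈ s, f ∈ HopfRep.fixedPts k H C) ∧
      ∀ f ∈ HopfRep.fixedPts k H C, f ∈ Algebra.adjoin k
        ((algebraMap A C) '' (HopfRep.fixedPts k H A : Set A) ∪ (s : Set C)) := by
  classical
  obtain ⟨t, ht⟩ := (Algebra.FiniteType.out : (⊤ : Subalgebra A C).FG)
  obtain ⟨V, hV, hVfin, htV⟩ := exists_finite_subcomod_subset (K := k) (A := H) t
  let _ : HopfRep.Comod k H V := restrComod V hV
  let b : Module.Basis (Fin (Module.finrank k V)) k V := Module.finBasis k V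
  let a : Fin (Module.finrank k V) → Fin (Module.finrank k V) → H := mc (A := H) b
  have hcoactC : ∀ i, HopfRep.Comod.coact (k := k) (A := H) ((b i : V) : C) =
      ∑ j, ((b j : V) : C) ⊗ₜ[k] a j i := by
    intro i
    have h1 := LinearMap.congr_fun (isComodHom_subtype_restr V hV) (b i)
    simp only [LinearMap.comp_apply, Submodule.subtype_apply] at h1
    rw [h1]
    have h2 : HopfRep.Comod.coact (k := k) (A := H) (b i) = ∑ j, b j ⊗ₜ[k] a j i :=
      coact_basis (A := H) b i
    rw [h2, map_sum]
    rfl
  let ρA : A →ₐ[k] A ⊗[k] H := coactAlg hmulA honeA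
  let _ : HopfRep.Comod k H (MvPolynomial (Fin (Module.finrank k V)) A) :=
    polyComodB ρA a (coactAlg_coassoc hmulA honeA) (coactAlg_counit hmulA honeA)
      (comul_mc b) (counit_mc b)
  have hmulP : ∀ f g : MvPolynomial (Fin (Module.finrank k V)) A,
      HopfRep.Comod.coact (k := k) (A := H) (f * g) =
      HopfRep.Comod.coact (k := k) (A := H) f * HopfRep.Comod.coact (k := k) (A := H) g :=
    fun f g => map_mul (polyCoactB ρA a) f g
  have hgr := polyComodB_isSubcomod ρA a (coactAlg_coassoc hmulA honeA)
    (coactAlg_counit hmulA honeA) (comul_mc b) (counit_mc b)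
  -- the covering map
  let π : MvPolynomial (Fin (Module.finrank k V)) A →ₐ[A] C :=
    MvPolynomial.aeval (fun i => ((b i : V) : C))
  have hπsurj : Function.Surjective π := by
    rw [← AlgHom.range_eq_top, eq_top_iff, ← ht]
    apply Algebra.adjoin_le
    intro r hr
    have hrV : r ∈ V := htV hr
    have hsum : (⟨r, hrV⟩ : V) = ∑ i, b.repr ⟨r, hrV⟩ i • b i := (b.sum_repr ⟨r, hrV⟩).symm
    have hr' : r = ∑ i, b.repr ⟨r, hrV⟩ i • ((b i : V) : C) := by
      have h3 := congrArg (V.subtype) hsum
      rw [map_sum] at h3
      simpa only [map_smul, Submodule.subtype_apply] using h3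
    refine ⟨∑ i, MvPolynomial.C (algebraMap k A (b.repr ⟨r, hrV⟩ i)) * MvPolynomial.X i, ?_⟩
    refine Eq.trans ?_ hr'.symm
    change π _ = _
    rw [map_sum]
    refine Finset.sum_congr rfl fun i _ => ?_
    simp [π, Algebra.smul_def, IsScalarTower.algebraMap_apply k A C]
  let πk : MvPolynomial (Fin (Module.finrank k V)) A →ₐ[k] C := π.restrictScalars k
  have hπk : ∀ p, πk p = π p := fun _ => rfl
  have hπcomod : Hoch.IsComodHom H πk.toLinearMap := by
    let ρC : C →ₐ[k] C ⊗[k] H := coactAlg hmulC honeC
    have key : ρC.comp πk =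
        (Algebra.TensorProduct.map πk (AlgHom.id k H)).comp (polyCoactB ρA a) := by
      apply MvPolynomial.algHom_ext'
      · apply AlgHom.ext
        intro x
        simp only [AlgHom.coe_comp, Function.comp_apply, polyCoactB_incl]
        have h1 := LinearMap.congr_fun hAC x
        simp only [LinearMap.comp_apply, AlgHom.toLinearMap_apply] at h1
        rw [rTensor_eq_map] at h1
        have h2 : ∀ y : A ⊗[k] H, Algebra.TensorProduct.map πk (AlgHom.id k H)
            (Algebra.TensorProduct.map (incl k A (Module.finrank k V)) (AlgHom.id k H) y) =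
            Algebra.TensorProduct.map (IsScalarTower.toAlgHom k A C) (AlgHom.id k H) y := by
          intro y
          induction y using TensorProduct.induction_on with
          | zero => simp
          | tmul x c => simp [hπk, π, incl_apply]
          | add y z hy hz => rw [map_add, map_add, map_add, hy, hz]
        rw [h2]
        refine Eq.trans ?_ h1
        change HopfRep.Comod.coact (k := k) (A := H) (π (MvPolynomial.C x)) = _
        simp [π]
      · intro i
        simp only [AlgHom.coe_comp, Function.comp_apply, polyCoactB_X, map_sum,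
          Algebra.TensorProduct.map_tmul, AlgHom.coe_id, id_eq, hπk, π, MvPolynomial.aeval_X]
        exact hcoactC i
    apply LinearMap.ext
    intro p
    have := congrArg (fun φ => φ p) key
    simp only [LinearMap.comp_apply, AlgHom.toLinearMap_apply]
    change _ = (πk.toLinearMap.rTensor H) (polyCoactB ρA a p)
    rw [rTensor_eq_map]
    exact this
  have hssH := isSemisimpleModule_of_isLinearlyReductive hG H
  have hssP : IsSemisimpleModule (DualAlg k H) (MvPolynomial (Fin (Module.finrank k V)) A) :=
    Groth.Agent.Lib.Helper75.isSemisimpleModule_of_regular hssH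
  have hssC : IsSemisimpleModule (DualAlg k H) C :=
    Groth.Agent.Lib.Helper75.isSemisimpleModule_of_regular hssH
  obtain ⟨sP, hsP, hgen⟩ := Groth.Agent.Lib.Helper23.GradedInvB.exists_finset_generators hmulP hgr
  refine ⟨sP.image π, ?_, ?_⟩
  · intro f hf
    obtain ⟨p, hp, rfl⟩ := Finset.mem_image.mp hf
    exact map_mem_fixedPts (toDualLinearMap πk.toLinearMap hπcomod) (hsP p hp)
  · intro f hf
    obtain ⟨p, hp, rfl⟩ := exists_fixedPts_preimage πk.toLinearMap hπcomod hπsurj f hf
    have h1 := hgen p hp
    have h2 : πk p ∈ (Algebra.adjoin k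
        ({F | F ∈ HopfRep.fixedPts k H (MvPolynomial (Fin (Module.finrank k V)) A) ∧
          F.IsHomogeneous 0} ∪
          (sP : Set (MvPolynomial (Fin (Module.finrank k V)) A)))).map πk :=
      ⟨p, h1, rfl⟩
    rw [AlgHom.map_adjoin] at h2
    refine Algebra.adjoin_mono ?_ h2
    rintro _ ⟨F, hF | hF, rfl⟩
    · left
      obtain ⟨hFinv, hF0⟩ := hF
      have hFC : F = MvPolynomial.C (MvPolynomial.coeff 0 F) := by
        have := (MvPolynomial.totalDegree_zero_iff_isHomogeneous _).mpr hF0
        exact (MvPolynomial.totalDegree_eq_zero_iff_eq_C).mp this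
      refine ⟨MvPolynomial.coeff 0 F, ?_, ?_⟩
      · -- the coefficient is invariant
        have h3 : HopfRep.Comod.coact (k := k) (A := H) F = F ⊗ₜ[k] (1 : H) := hFinv
        rw [hFC] at h3
        change polyCoactB ρA a (MvPolynomial.C (MvPolynomial.coeff 0 F)) = _ at h3
        rw [polyCoactB_C] at h3
        have h4 : (MvPolynomial.C (MvPolynomial.coeff 0 F) :
            MvPolynomial (Fin (Module.finrank k V)) A) ⊗ₜ[k] (1 : H) =
            Algebra.TensorProduct.map (incl k A (Module.finrank k V)) (AlgHom.id k H)
              (MvPolynomial.coeff 0 F ⊗ₜ[k] (1 : H)) := by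
          simp [incl_apply]
        rw [h4, ← rTensor_eq_map, ← rTensor_eq_map] at h3
        have hinj : Function.Injective
            ((incl k A (Module.finrank k V)).toLinearMap.rTensor H) :=
          Module.Flat.rTensor_preserves_injective_linearMap _
            (MvPolynomial.C_injective _ _)
        exact hinj h3
      · rw [hFC]
        simp [hπk, π]
    · right
      exact Finset.mem_coe.mpr (Finset.mem_image.mpr ⟨F, hF, rfl⟩)

end Main

end Groth.Agent.Lib.Helper75.RelHilb
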