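import Groth.Agent.Lib.Helper75.RelHilbA
import Groth.Prelude.Def_Hoch
import Groth.Prelude.Def_GLin

/-!
# `A` is of finite type over its invariants, for Noetherian `A` and linearly reductive `H`
(helper75, for S16107)

We apply relative Hilbert finiteness to the induced comodule algebra `A ⊗ H` (coaction `id ⊗ Δ`),
regarded as an `A`-algebra through the coaction `ρ : A → A ⊗ H`.  Its invariants are `A ⊗ 1`.
-/

set_option autoImplicit false
universe u v w

open TensorProduct Groth.Agent.Lib.Helper75

namespace Groth.Agent.Lib.Helper75.RelHilb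

/-- `A ⊗ H` as an `A`-algebra through the coaction, with the induced coaction `id ⊗ Δ` -/
def IndAlg (k : Type u) [Field k] (H : Type v) [CommRing H] [HopfAlgebra k H] (A : Type w)
    [CommRing A] [Algebra k A] : Type (max w v) := A ⊗[k] H

namespace IndAlg

variable {k : Type u} [Field k] {H : Type v} [CommRing H] [HopfAlgebra k H]
variable {A : Type w} [CommRing A] [Algebra k A]

noncomputable instance : CommRing (IndAlg k H A) := inferInstanceAs (CommRing (A ⊗[k] H))
noncomputable instance : Algebra k (IndAlg k H A) := inferInstanceAs (Algebra k (A ⊗[k] H))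

variable (k H A) in
/-- the identity -/
noncomputable def of : A ⊗[k] H ≃ₐ[k] IndAlg k H A := AlgEquiv.refl

/-- the induced coaction `id ⊗ Δ` as an algebra map -/
noncomputable def indCoactAlg : A ⊗[k] H →ₐ[k] (A ⊗[k] H) ⊗[k] H :=
  (Algebra.TensorProduct.assoc k k k A H H).symm.toAlgHom.comp
    (Algebra.TensorProduct.map (AlgHom.id k A) (Bialgebra.comulAlgHom k H))

theorem indCoactAlg_apply (x : A ⊗[k] H) :
    indCoactAlg x = Hoch.Ind.coactAux k H A x := by
  induction x using TensorProduct.induction_on with
  | zero => simp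
  | add x y hx hy => rw [map_add, map_add, hx, hy]
  | tmul a h =>
    rw [Hoch.Ind.coactAux_tmul]
    show (Algebra.TensorProduct.assoc k k k A H H).symm
      (a ⊗ₜ[k] CoalgebraStruct.comul (R := k) h) = _
    generalize CoalgebraStruct.comul (R := k) h = t
    induction t using TensorProduct.induction_on with
    | zero => simp
    | add x y hx hy => rw [tmul_add, map_add, map_add, hx, hy]
    | tmul g g' => rfl

noncomputable instance comod : HopfRep.Comod k H (IndAlg k H A) where
  coact := Hoch.Ind.coactAux k H A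
  coassoc := (Hoch.Ind.comod k H A).coassoc
  counit_comp := (Hoch.Ind.comod k H A).counit_comp

theorem coact_of (x : A ⊗[k] H) :
    HopfRep.Comod.coact (k := k) (A := H) (of k H A x) = Hoch.Ind.coactAux k H A x := rfl

theorem coactAux_mul (f g : A ⊗[k] H) : Hoch.Ind.coactAux k H A (f * g) =
    Hoch.Ind.coactAux k H A f * Hoch.Ind.coactAux k H A g := by
  rw [← indCoactAlg_apply, ← indCoactAlg_apply, ← indCoactAlg_apply, map_mul]

theorem coactAux_one : Hoch.Ind.coactAux k H A (1 : A ⊗[k] H) = 1 := by
  rw [← indCoactAlg_apply, map_one]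

theorem coact_one : HopfRep.Comod.coact (k := k) (A := H) (1 : IndAlg k H A) = 1 :=
  coactAux_one (k := k) (H := H) (A := A)

theorem coact_mul (f g : IndAlg k H A) : HopfRep.Comod.coact (k := k) (A := H) (f * g) =
    HopfRep.Comod.coact (k := k) (A := H) f * HopfRep.Comod.coact (k := k) (A := H) g :=
  coactAux_mul (k := k) (H := H) (A := A) f g

variable [HopfRep.Comod k H A] [GLin.IsCoactAlg k H A]

noncomputable instance algA : Algebra A (IndAlg k H A) :=
  ((of k H A).toAlgHom.comp (GLin.coactAlgHom k H A)).toRingHom.toAlgebra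

theorem algebraMap_apply (a : A) :
    algebraMap A (IndAlg k H A) a = of k H A (HopfRep.Comod.coact (k := k) (A := H) a) := rfl

instance : IsScalarTower k A (IndAlg k H A) :=
  IsScalarTower.of_algebraMap_eq (fun c => by
    rw [algebraMap_apply]
    have := (GLin.coactAlgHom k H A).commutes c
    rw [GLin.coactAlgHom_apply] at this
    rw [this]
    exact ((of k H A).commutes c).symm)

/-- the structure map `A → A ⊗ H` is a comodule map: coassociativity -/
theorem isComodHom_algebraMap :
    Hoch.IsComodHom H (IsScalarTower.toAlgHom k A (IndAlg k H A)).toLinearMap := by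
  apply LinearMap.ext
  intro a
  simp only [LinearMap.comp_apply, AlgHom.toLinearMap_apply]
  show Hoch.Ind.coactAux k H A (HopfRep.Comod.coact (k := k) (A := H) a) =
    (HopfRep.Comod.coact (k := k) (A := H) (V := A)).rTensor H (HopfRep.Comod.coact (k := k) (A := H) a)
  have h := coassoc_apply (k := k) (A := H) (V := A) a
  rw [h]
  generalize coactMap k H A a = t
  induction t using TensorProduct.induction_on with
  | zero => simp
  | add x y hx hy => rw [map_add, map_add, map_add, hx, hy]
  | tmul x g => rfl

/-- `(x ⊗ g) ⊗ g' ↦ x ⊗ g S(g')` -/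
noncomputable def Fmap : (A ⊗[k] H) ⊗[k] H →ₗ[k] A ⊗[k] H :=
  (LinearMap.lTensor A ((LinearMap.mul' k H) ∘ₗ (LinearMap.lTensor H (HopfAlgebra.antipode k)))) ∘ₗ
    (TensorProduct.assoc k A H H).toLinearMap

omit [HopfRep.Comod k H A] [GLin.IsCoactAlg k H A] in
theorem Fmap_tmul (t : A ⊗[k] H) (g : H) :
    Fmap (t ⊗ₜ[k] g) = t * ((1 : A) ⊗ₜ[k] HopfAlgebra.antipode k g) := by
  induction t using TensorProduct.induction_on with
  | zero => simp
  | add x y hx hy => rw [add_tmul, map_add, hx, hy, add_mul]
  | tmul x g' => simp [Fmap]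

omit [GLin.IsCoactAlg k H A] in
theorem Fmap_coact (a : A) :
    Fmap ((HopfRep.Comod.coact (k := k) (A := H) (V := A)).rTensor H
      (HopfRep.Comod.coact (k := k) (A := H) a)) = a ⊗ₜ[k] (1 : H) := by
  have h := coassoc_apply (k := k) (A := H) (V := A) a
  have h' : (HopfRep.Comod.coact (k := k) (A := H) (V := A)).rTensor H
      (HopfRep.Comod.coact (k := k) (A := H) a) =
      (TensorProduct.assoc k A H H).symm ((CoalgebraStruct.comul (R := k) (A := H)).lTensor A
        (HopfRep.Comod.coact (k := k) (A := H) a)) := h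
  rw [h']
  unfold Fmap
  simp only [LinearMap.comp_apply, LinearEquiv.coe_coe, LinearEquiv.apply_symm_apply]
  rw [← LinearMap.comp_apply, ← LinearMap.lTensor_comp]
  have hax : (LinearMap.mul' k H ∘ₗ LinearMap.lTensor H (HopfAlgebra.antipode k)) ∘ₗ
      CoalgebraStruct.comul (R := k) (A := H) =
      Algebra.linearMap k H ∘ₗ CoalgebraStruct.counit (R := k) (A := H) := by
    rw [LinearMap.comp_assoc]
    exact HopfAlgebra.mul_antipode_lTensor_comul
  rw [hax, LinearMap.lTensor_comp, LinearMap.comp_apply]
  have hc := LinearMap.congr_fun (HopfRep.Comod.counit_comp (k := k) (A := H) (V := A)) a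
  simp only [LinearMap.comp_apply, LinearMap.flip_apply, TensorProduct.mk_apply] at hc
  rw [hc]
  simp [Algebra.TensorProduct.one_def]

instance finiteType [Algebra.FiniteType k H] : Algebra.FiniteType A (IndAlg k H A) := by
  classical
  obtain ⟨s, hs⟩ := (Algebra.FiniteType.out : (⊤ : Subalgebra k H).FG)
  refine ⟨⟨s.image (fun h => of k H A ((1 : A) ⊗ₜ[k] h)), ?_⟩⟩
  rw [eq_top_iff]
  -- all `1 ⊗ h`
  have h1 : ∀ h : H, of k H A ((1 : A) ⊗ₜ[k] h) ∈
      Algebra.adjoin A ((s.image (fun h => of k H A ((1 : A) ⊗ₜ[k] h)) : Finset _) : Set (IndAlg k H A)) := by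
    intro h
    have hmem : h ∈ Algebra.adjoin k (s : Set H) := by rw [hs]; trivial
    induction hmem using Algebra.adjoin_induction with
    | mem x hx =>
      apply Algebra.subset_adjoin
      rw [Finset.coe_image]
      exact ⟨x, hx, rfl⟩
    | algebraMap c =>
      have : of k H A ((1 : A) ⊗ₜ[k] algebraMap k H c) = algebraMap A (IndAlg k H A) (algebraMap k A c) := by
        rw [← IsScalarTower.algebraMap_apply k A (IndAlg k H A)]
        rw [Algebra.algebraMap_eq_smul_one, TensorProduct.tmul_smul, map_smul,
          Algebra.algebraMap_eq_smul_one]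
        rfl
      rw [this]
      exact Subalgebra.algebraMap_mem _ _
    | add x y _ _ hx hy =>
      rw [TensorProduct.tmul_add, map_add]
      exact Subalgebra.add_mem _ hx hy
    | mul x y _ _ hx hy =>
      have : of k H A ((1 : A) ⊗ₜ[k] (x * y)) =
          of k H A ((1 : A) ⊗ₜ[k] x) * of k H A ((1 : A) ⊗ₜ[k] y) := by
        rw [← map_mul, Algebra.TensorProduct.tmul_mul_tmul, one_mul]
      rw [this]
      exact Subalgebra.mul_mem _ hx hy
  -- all `Fmap (ρ ⊗ id) y`
  have h2 : ∀ y : A ⊗[k] H, of k H A (Fmap ((HopfRep.Comod.coact (k := k) (A := H) (V := A)).rTensor H y)) ∈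
      Algebra.adjoin A ((s.image (fun h => of k H A ((1 : A) ⊗ₜ[k] h)) : Finset _) : Set (IndAlg k H A)) := by
    intro y
    induction y using TensorProduct.induction_on with
    | zero => simp
    | add x y hx hy =>
      rw [map_add, map_add, map_add]
      exact Subalgebra.add_mem _ hx hy
    | tmul x g =>
      rw [LinearMap.rTensor_tmul, Fmap_tmul, map_mul]
      refine Subalgebra.mul_mem _ ?_ (h1 _)
      rw [← algebraMap_apply]
      exact Subalgebra.algebraMap_mem _ _
  intro x _
  obtain ⟨y, rfl⟩ := (of k H A).surjective x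
  induction y using TensorProduct.induction_on with
  | zero => simp
  | add x y hx hy =>
    rw [map_add]
    exact Subalgebra.add_mem _ (hx trivial) (hy trivial)
  | tmul a h =>
    have : of k H A (a ⊗ₜ[k] h) = of k H A (a ⊗ₜ[k] (1 : H)) * of k H A ((1 : A) ⊗ₜ[k] h) := by
      rw [← map_mul, Algebra.TensorProduct.tmul_mul_tmul, one_mul, mul_one]
    rw [this]
    refine Subalgebra.mul_mem _ ?_ (h1 h)
    rw [← Fmap_coact (k := k) (H := H) a]
    exact h2 _

omit [HopfRep.Comod k H A] [GLin.IsCoactAlg k H A] in
/-- invariants of the induced comodule algebra are `A ⊗ 1` -/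
theorem eq_tmul_one_of_mem_fixedPts (x : A ⊗[k] H)
    (hx : of k H A x ∈ HopfRep.fixedPts k H (IndAlg k H A)) :
    x = (contractR A (CoalgebraStruct.counit (R := k) (A := H)) x) ⊗ₜ[k] (1 : H) := by
  have h : Hoch.Ind.coactAux k H A x = x ⊗ₜ[k] (1 : H) := hx
  -- apply `(x ⊗ g) ⊗ g' ↦ ε(g) x ⊗ g'`
  let G : (A ⊗[k] H) ⊗[k] H →ₗ[k] A ⊗[k] H :=
    (contractR A (CoalgebraStruct.counit (R := k) (A := H))).rTensor H
  have hG1 : ∀ y : A ⊗[k] H, G (Hoch.Ind.coactAux k H A y) = y := by
    intro y
    induction y using TensorProduct.induction_on with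
    | zero => simp
    | add x y hx hy => rw [map_add, map_add, hx, hy]
    | tmul a g =>
      rw [Hoch.Ind.coactAux_tmul]
      have hcu := Coalgebra.rTensor_counit_comul (R := k) g
      generalize CoalgebraStruct.comul (R := k) g = t at hcu ⊢
      have key : ∀ t : H ⊗[k] H, G ((TensorProduct.assoc k A H H).symm (a ⊗ₜ[k] t)) =
          a ⊗ₜ[k] (TensorProduct.lid k H ((CoalgebraStruct.counit (R := k) (A := H)).rTensor H t)) := by
        intro t
        induction t using TensorProduct.induction_on with
        | zero => simp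
        | add x y hx hy => rw [tmul_add, map_add, map_add, hx, hy, map_add, map_add, tmul_add]
        | tmul g g' => simp [G, TensorProduct.smul_tmul]
      rw [key, hcu]
      simp
  have h3 := congrArg G h
  rw [hG1] at h3
  rw [h3]
  simp [G]

end IndAlg



end Groth.Agent.Lib.Helper75.RelHilb
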