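import Groth.Agent.Lib.Helper75.RelHilbB

/-!
# `A` is of finite type over its invariants: assembly (helper75, for S16107)
-/

set_option autoImplicit false
universe u v w

open TensorProduct Groth.Agent.Lib.Helper75

namespace Groth.Agent.Lib.Helper75.RelHilb

section Main

variable (k : Type u) [Field k] (H : Type v) [CommRing H] [HopfAlgebra k H] [Algebra.FiniteType k H]
variable (A : Type w) [CommRing A] [Algebra k A] [IsNoetherianRing A]
  [HopfRep.Comod k H A] [GLin.IsCoactAlg k H A]

set_option maxHeartbeats 1600000 in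
theorem finiteType_invariants (hG : HopfRep.IsLinearlyReductive k H) :
    Algebra.FiniteType ↥(GLin.invariants k H A) A := by
  classical
  obtain ⟨s, hs, hgen⟩ := exists_finset_generators_relative (k := k) (H := H) (A := A)
    (C := IndAlg k H A) hG (GLin.IsCoactAlg.coact_mul (k := k)) (GLin.IsCoactAlg.coact_one (k := k))
    IndAlg.coact_mul IndAlg.coact_one IndAlg.isComodHom_algebraMap
  -- the retraction `id ⊗ ε`
  let e : IndAlg k H A →ₗ[k] A :=
    contractR A (CoalgebraStruct.counit (R := k) (A := H)) ∘ₗ (IndAlg.of k H A).symm.toLinearMap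
  let eAlg : IndAlg k H A →ₐ[k] A :=
    ((Algebra.TensorProduct.rid k k A).toAlgHom.comp
      (Algebra.TensorProduct.map (AlgHom.id k A) (Bialgebra.counitAlgHom k H))).comp
      (IndAlg.of k H A).symm.toAlgHom
  have heAlg : ∀ x, eAlg x = e x := by
    intro x
    obtain ⟨y, rfl⟩ := (IndAlg.of k H A).surjective x
    show (Algebra.TensorProduct.rid k k A) (Algebra.TensorProduct.map (AlgHom.id k A)
      (Bialgebra.counitAlgHom k H) y) = contractR A (CoalgebraStruct.counit (R := k) (A := H)) y
    induction y using TensorProduct.induction_on with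
    | zero => simp
    | add x y hx hy => rw [map_add, map_add, map_add, hx, hy]
    | tmul a h => simp
  have he_rho : ∀ a : A, eAlg (algebraMap A (IndAlg k H A) a) = a := by
    intro a
    rw [heAlg, IndAlg.algebraMap_apply]
    exact counit_contract (k := k) (A := H) a
  refine ⟨⟨s.image eAlg, ?_⟩⟩
  rw [eq_top_iff]
  intro a _
  -- `a ⊗ 1` is invariant
  have hinv : IndAlg.of k H A (a ⊗ₜ[k] (1 : H)) ∈ HopfRep.fixedPts k H (IndAlg k H A) := by
    show Hoch.Ind.coactAux k H A (a ⊗ₜ[k] (1 : H)) = (a ⊗ₜ[k] (1 : H)) ⊗ₜ[k] (1 : H)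
    rw [Hoch.Ind.coactAux_tmul]
    have : CoalgebraStruct.comul (R := k) (1 : H) = (1 : H) ⊗ₜ[k] (1 : H) := Bialgebra.comul_one
    rw [this]
    rfl
  have hmem := hgen _ hinv
  have hmap : eAlg (IndAlg.of k H A (a ⊗ₜ[k] (1 : H))) ∈
      (Algebra.adjoin k ((algebraMap A (IndAlg k H A)) '' (HopfRep.fixedPts k H A : Set A) ∪
        (s : Set (IndAlg k H A)))).map eAlg := ⟨_, hmem, rfl⟩
  rw [AlgHom.map_adjoin] at hmap
  have ha : eAlg (IndAlg.of k H A (a ⊗ₜ[k] (1 : H))) = a := by
    rw [heAlg]
    show contractR A (CoalgebraStruct.counit (R := k) (A := H)) (a ⊗ₜ[k] (1 : H)) = a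
    simp
  rw [ha] at hmap
  -- conclude
  have hle : Algebra.adjoin k (eAlg '' ((algebraMap A (IndAlg k H A)) '' (HopfRep.fixedPts k H A : Set A) ∪
        (s : Set (IndAlg k H A)))) ≤
      (Algebra.adjoin ↥(GLin.invariants k H A) ((s.image eAlg : Finset A) : Set A)).restrictScalars k := by
    apply Algebra.adjoin_le
    rintro _ ⟨y, hy | hy, rfl⟩
    · obtain ⟨b, hb, rfl⟩ := hy
      rw [he_rho]
      exact Subalgebra.algebraMap_mem (Algebra.adjoin ↥(GLin.invariants k H A) _)
        (⟨b, hb⟩ : ↥(GLin.invariants k H A))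
    · apply Algebra.subset_adjoin
      rw [Finset.coe_image]
      exact ⟨y, hy, rfl⟩
  exact hle hmap

end Main

end Groth.Agent.Lib.Helper75.RelHilb
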