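import Groth.Agent.Lib.Helper75.ComodField
import Groth.Agent.Lib.Helper75.LinRedKerC
import Groth.Agent.Lib.Helper75.HopfIntegralBC
import Groth.Prelude.Def_W4c1tameactTame

/-!
# The Reynolds operator of a right total integral, on comodules and on relative Hopf modules (helper75)
-/

set_option autoImplicit false
set_option linter.unusedSectionVars false
universe u v w w'

open TensorProduct

namespace Groth.Agent.Lib.Helper75.ReyInt

open Groth.Agent.Lib.Helper75

section Basic

variable {k : Type u} [Field k] {H : Type v} [CommRing H] [Bialgebra k H]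
variable {V : Type w} [AddCommGroup V] [Module k V] [HopfRep.Comod k H V]
variable {W : Type w'} [AddCommGroup W] [Module k W] [HopfRep.Comod k H W]
variable (β : H →ₗ[k] k) (hβ : ∀ a, hitR β a = β a • (1 : H)) (hβ1 : β 1 = 1)

omit [HopfRep.Comod k H V] in
theorem lTensor_smul_one (t : V ⊗[k] H) (g : H →ₗ[k] H) (hg : ∀ a, g a = β a • (1 : H)) :
    g.lTensor V t = contractR V β t ⊗ₜ[k] (1 : H) := by
  induction t using TensorProduct.induction_on with
  | zero => simp
  | tmul v a => rw [LinearMap.lTensor_tmul, hg, contractR_tmul, TensorProduct.tmul_smul, TensorProduct.smul_tmul']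
  | add x y hx hy => rw [map_add, map_add, hx, hy, TensorProduct.add_tmul]

include hβ in
theorem act_mem_fixedPts (v : V) : act β v ∈ HopfRep.fixedPts k H V := by
  show coactMap k H V (act β v) = act β v ⊗ₜ[k] (1 : H)
  rw [coact_act, lTensor_smul_one β _ _ hβ]
  rfl

include hβ1 in
theorem act_of_mem_fixedPts (v : V) (hv : v ∈ HopfRep.fixedPts k H V) : act β v = v := by
  have hv' : coactMap k H V v = v ⊗ₜ[k] (1 : H) := hv
  rw [act_apply, hv', contractR_tmul, hβ1, one_smul]

theorem act_natural (φ : V →ₗ[k] W) (hφ : Hoch.IsComodHom H φ) (v : V) : φ (act β v) = act β (φ v) :=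
  (isComodHom_iff φ).1 hφ β v

theorem act_mem_of_isSubcomod (U : Submodule k V) (hU : HopfRep.IsSubcomod (k := k) (A := H) U) (v : V) (hv : v ∈ U) :
    act β v ∈ U :=
  (isSubcomod_iff U).1 hU β v hv

end Basic

section HopfMod

variable {k : Type u} [Field k] {H : Type v} [CommRing H] [Bialgebra k H]
variable {A : Type w} [CommRing A] [Algebra k A] [HopfRep.Comod k H A] [GLin.IsCoactAlg k H A]
variable {M : Type w'} [AddCommGroup M] [Module k M] [Module A M] [IsScalarTower k A M]
  [HopfRep.Comod k H M] [TameAct.IsHopfMod k H A M]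
variable (β : H →ₗ[k] k)

omit [HopfRep.Comod k H A] [GLin.IsCoactAlg k H A] [HopfRep.Comod k H M] [TameAct.IsHopfMod k H A M] in
theorem hmSMul_tmul_one (t : A ⊗[k] H) (x : M) :
    TameAct.hmSMul k H A M t (x ⊗ₜ[k] (1 : H)) =
      ((LinearMap.toSpanSingleton A M x).restrictScalars k).rTensor H t := by
  induction t using TensorProduct.induction_on with
  | zero => simp
  | tmul a h => simp
  | add x y hx hy => rw [map_add, LinearMap.add_apply, map_add, hx, hy]

omit [HopfRep.Comod k H A] [GLin.IsCoactAlg k H A] [HopfRep.Comod k H M] [TameAct.IsHopfMod k H A M] in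
theorem hmSMul_one_tmul (b : A) (t : M ⊗[k] H) :
    TameAct.hmSMul k H A M (b ⊗ₜ[k] (1 : H)) t =
      ((Algebra.lsmul k k M b : M →ₗ[k] M)).rTensor H t := by
  induction t using TensorProduct.induction_on with
  | zero => simp
  | tmul a h => simp
  | add x y hx hy => rw [map_add, map_add, hx, hy]

/-- multiplying into an invariant vector is a comodule map `A → M` -/
theorem isComodHom_smul_fixed (x : M) (hx : x ∈ HopfRep.fixedPts k H M) :
    Hoch.IsComodHom H ((LinearMap.toSpanSingleton A M x).restrictScalars k) := by
  unfold Hoch.IsComodHom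
  apply LinearMap.ext
  intro a
  have hx' : HopfRep.Comod.coact (k := k) (A := H) x = x ⊗ₜ[k] (1 : H) := hx
  simp only [LinearMap.coe_comp, Function.comp_apply, LinearMap.coe_restrictScalars,
    LinearMap.toSpanSingleton_apply]
  rw [TameAct.IsHopfMod.coact_smul, hx', hmSMul_tmul_one]

/-- multiplication by an invariant function is a comodule endomorphism of `M` -/
theorem isComodHom_lsmul_invariant (b : A) (hb : b ∈ GLin.invariants k H A) :
    Hoch.IsComodHom H (Algebra.lsmul k k M b : M →ₗ[k] M) := by
  unfold Hoch.IsComodHom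
  apply LinearMap.ext
  intro m
  have hb' : HopfRep.Comod.coact (k := k) (A := H) b = b ⊗ₜ[k] (1 : H) := hb
  simp only [LinearMap.coe_comp, Function.comp_apply, Algebra.lsmul_coe]
  rw [TameAct.IsHopfMod.coact_smul, hb', hmSMul_one_tmul]

theorem act_smul_fixed (a : A) (x : M) (hx : x ∈ HopfRep.fixedPts k H M) :
    act β (a • x) = act β a • x :=
  ((isComodHom_iff _).1 (isComodHom_smul_fixed x hx) β a).symm

theorem act_invariant_smul (b : A) (hb : b ∈ GLin.invariants k H A) (m : M) :
    act β (b • m) = b • act β m :=
  ((isComodHom_iff _).1 (isComodHom_lsmul_invariant (M := M) b hb) β m).symm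

/-- the regular module `A` is a relative Hopf module -/
theorem isHopfMod_self : TameAct.IsHopfMod k H A A where
  coact_smul b m := by
    rw [smul_eq_mul, GLin.IsCoactAlg.coact_mul]
    generalize HopfRep.Comod.coact (k := k) (A := H) b = s
    generalize HopfRep.Comod.coact (k := k) (A := H) m = t
    induction s using TensorProduct.induction_on with
    | zero => simp
    | tmul a h =>
      induction t using TensorProduct.induction_on with
      | zero => simp
      | tmul a' h' => simp
      | add x y hx hy => rw [mul_add, map_add, hx, hy]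
    | add x y hx hy => rw [add_mul, map_add, LinearMap.add_apply, hx, hy]

end HopfMod

end Groth.Agent.Lib.Helper75.ReyInt
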