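import Groth.Agent.Lib.Helper75.ReynoldsInt
import Groth.Agent.Lib.Helper75.HopfIntegralBC
import Groth.Agent.Lib.Helper75.LinRedKerC
import Mathlib

/-!
# Restriction of strongly étale morphisms to closed invariant subschemes: generic lemmas
(helper75, for S19408)
-/

set_option autoImplicit false
open TensorProduct
open Groth.Agent.Lib.Helper75

namespace Groth.Agent.Lib.Helper75.StrEt

universe u

section Ring

/-- étaleness passes to quotients by an extended ideal -/
theorem etale_quotient (P Q : Type u) [CommRing P] [CommRing Q] [Algebra P Q] [Algebra.Etale P Q]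
    (I : Ideal P) : Algebra.Etale (P ⧸ I) (Q ⧸ I.map (algebraMap P Q)) :=
  Algebra.Etale.of_equiv (Algebra.TensorProduct.quotIdealMapEquivQuotTensor Q I).symm

/-- étaleness descends along a surjective square whose kernel is extended -/
theorem etale_of_surjective_square (P Q P' Q' : Type u) [CommRing P] [CommRing Q] [CommRing P']
    [CommRing Q'] [Algebra P Q] [Algebra P' Q'] [Algebra.Etale P Q]
    (σ : P →+* P') (hσ : Function.Surjective σ) (τ : Q →+* Q') (hτ : Function.Surjective τ)
    (hcomm : ∀ p, τ (algebraMap P Q p) = algebraMap P' Q' (σ p))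
    (hker : ∀ q, τ q = 0 → q ∈ (RingHom.ker σ).map (algebraMap P Q)) :
    Algebra.Etale P' Q' := by
  have hkerτ : RingHom.ker τ = (RingHom.ker σ).map (algebraMap P Q) := by
    apply le_antisymm
    · intro q hq; exact hker q hq
    · rw [Ideal.map_le_iff_le_comap]
      intro p hp
      rw [Ideal.mem_comap, RingHom.mem_ker, hcomm, (RingHom.mem_ker).mp hp, map_zero]
  let eP : P ⧸ RingHom.ker σ ≃+* P' := RingHom.quotientKerEquivOfSurjective hσ
  let eQ0 : Q ⧸ RingHom.ker τ ≃+* Q' := RingHom.quotientKerEquivOfSurjective hτ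
  let eQ : Q ⧸ (RingHom.ker σ).map (algebraMap P Q) ≃+* Q' :=
    (Ideal.quotEquivOfEq hkerτ.symm).trans eQ0
  have h1 : (algebraMap (P ⧸ RingHom.ker σ) (Q ⧸ (RingHom.ker σ).map (algebraMap P Q))).Etale :=
    RingHom.etale_algebraMap.mpr (etale_quotient P Q (RingHom.ker σ))
  have h2 : ((eQ : _ →+* Q').comp ((algebraMap (P ⧸ RingHom.ker σ)
      (Q ⧸ (RingHom.ker σ).map (algebraMap P Q))).comp (eP.symm : P' →+* _))).Etale := by
    apply RingHom.Etale.stableUnderComposition
    · apply RingHom.Etale.stableUnderComposition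
      · exact RingHom.Etale.of_bijective eP.symm.bijective
      · exact h1
    · exact RingHom.Etale.of_bijective eQ.bijective
  have h3 : (eQ : _ →+* Q').comp ((algebraMap (P ⧸ RingHom.ker σ)
      (Q ⧸ (RingHom.ker σ).map (algebraMap P Q))).comp (eP.symm : P' →+* _)) = algebraMap P' Q' := by
    apply RingHom.ext
    intro p'
    obtain ⟨p, rfl⟩ := hσ p'
    have e1 : eP.symm (σ p) = Ideal.Quotient.mk _ p := by
      apply eP.injective
      rw [RingEquiv.apply_symm_apply]
      rfl
    simp only [RingHom.coe_comp, RingHom.coe_coe, Function.comp_apply, e1]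
    rw [← hcomm]
    rfl
  rw [h3] at h2
  exact RingHom.etale_algebraMap.mp h2

/-- lifting a ring map through an injective ring map -/
theorem exists_lift_of_injective {B C D : Type u} [CommRing B] [CommRing C] [CommRing D]
    (g : C →+* D) (hg : Function.Injective g) (f : B →+* D) (h : ∀ b, f b ∈ Set.range g) :
    ∃ h' : B →+* C, ∀ b, g (h' b) = f b := by
  choose c hc using h
  refine ⟨{ toFun := c
            map_one' := hg (by rw [hc, map_one, map_one])
            map_mul' := fun a b => hg (by rw [hc, map_mul, map_mul, hc, hc])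
            map_zero' := hg (by rw [hc, map_zero, map_zero])
            map_add' := fun a b => hg (by rw [hc, map_add, map_add, hc, hc]) }, hc⟩

end Ring

section Reynolds

variable {k : Type u} [Field k] {A : Type u} [CommRing A] [HopfAlgebra k A]
variable {V : Type u} [CommRing V] [Algebra k V] [HopfRep.Comod k A V] [GLin.IsCoactAlg k A V]
variable {W : Type u} [CommRing W] [Algebra k W] [HopfRep.Comod k A W] [GLin.IsCoactAlg k A W]

omit [GLin.IsCoactAlg k A V] [GLin.IsCoactAlg k A W] in
theorem isComodHom_of_equiv (φ : V →ₐ[k] W)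
    (hφ : ∀ s : V, HopfRep.Comod.coact (k := k) (A := A) (φ s) =
      Algebra.TensorProduct.map φ (AlgHom.id k A) (HopfRep.Comod.coact (k := k) (A := A) s)) :
    Hoch.IsComodHom A φ.toLinearMap := by
  unfold Hoch.IsComodHom
  apply LinearMap.ext
  intro s
  simp only [LinearMap.coe_comp, Function.comp_apply, AlgHom.toLinearMap_apply]
  rw [hφ]
  generalize HopfRep.Comod.coact (k := k) (A := A) s = t
  induction t using TensorProduct.induction_on with
  | zero => simp
  | add x y hx hy => rw [map_add, map_add, hx, hy]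
  | tmul a b => simp

variable (hG : HopfRep.IsLinearlyReductive k A)

include hG in
/-- invariants lift along equivariant surjections -/
theorem exists_invariant_lift (φ : V →ₐ[k] W)
    (hφ : ∀ s : V, HopfRep.Comod.coact (k := k) (A := A) (φ s) =
      Algebra.TensorProduct.map φ (AlgHom.id k A) (HopfRep.Comod.coact (k := k) (A := A) s))
    (hsurj : Function.Surjective φ) (w : W) (hw : w ∈ GLin.invariants k A W) :
    ∃ v ∈ GLin.invariants k A V, φ v = w := by
  obtain ⟨α, hα, hα1⟩ := exists_total_integral_of_isLinearlyReductive hG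
  obtain ⟨β, hβ, hβ1⟩ := LinRedKer.exists_right_integral α hα hα1
  obtain ⟨v', rfl⟩ := hsurj w
  refine ⟨act β v', ReyInt.act_mem_fixedPts β hβ v', ?_⟩
  have := ReyInt.act_natural β φ.toLinearMap (isComodHom_of_equiv φ hφ) v'
  rw [AlgHom.toLinearMap_apply, AlgHom.toLinearMap_apply] at this
  rw [this]
  exact ReyInt.act_of_mem_fixedPts β hβ1 _ hw

include hG in
/-- invariant elements of an extended invariant ideal: `(JW)^G = J^G W^G` when `W = V · W^G` -/
theorem mem_span_invariants (φ : V →ₐ[k] W)
    (hφ : ∀ s : V, HopfRep.Comod.coact (k := k) (A := A) (φ s) =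
      Algebra.TensorProduct.map φ (AlgHom.id k A) (HopfRep.Comod.coact (k := k) (A := A) s))
    (hgen : ∀ w : W, w ∈ AddSubgroup.closure
      {x | ∃ (s : V) (ρ : W), ρ ∈ GLin.invariants k A W ∧ x = φ s * ρ})
    (J : Ideal V) (hJ : HopfRep.IsSubcomod (k := k) (A := A) (J.restrictScalars k))
    (r : W) (hr : r ∈ GLin.invariants k A W) (hrJ : r ∈ J.map (φ : V →+* W)) :
    r ∈ AddSubgroup.closure
      {x | ∃ (j : V) (ρ : W), j ∈ J ∧ j ∈ GLin.invariants k A V ∧ ρ ∈ GLin.invariants k A W ∧
        x = φ j * ρ} := by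
  obtain ⟨α, hα, hα1⟩ := exists_total_integral_of_isLinearlyReductive hG
  obtain ⟨β, hβ, hβ1⟩ := LinRedKer.exists_right_integral α hα hα1
  haveI := ReyInt.isHopfMod_self (k := k) (H := A) (A := W)
  set T : AddSubgroup W := AddSubgroup.closure
      {x | ∃ (j : V) (ρ : W), j ∈ J ∧ j ∈ GLin.invariants k A V ∧ ρ ∈ GLin.invariants k A W ∧
        x = φ j * ρ} with hT
  set T₀ : AddSubgroup W := AddSubgroup.closure
      {x | ∃ (j : V) (ρ : W), j ∈ J ∧ ρ ∈ GLin.invariants k A W ∧ x = φ j * ρ} with hT₀
  -- `T₀` is stable under multiplication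
  have mulclosed : ∀ (w t : W), t ∈ T₀ → w * t ∈ T₀ := by
    intro w t ht
    induction ht using AddSubgroup.closure_induction with
    | mem t ht =>
      obtain ⟨j, ρ, hj, hρ, rfl⟩ := ht
      have hw := hgen w
      induction hw using AddSubgroup.closure_induction with
      | mem w hw =>
        obtain ⟨s, ρ', hρ', rfl⟩ := hw
        apply AddSubgroup.subset_closure
        refine ⟨s * j, ρ' * ρ, J.mul_mem_left s hj, Subalgebra.mul_mem _ hρ' hρ, ?_⟩
        rw [map_mul]; ring
      | zero => rw [zero_mul]; exact T₀.zero_mem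
      | add a b _ _ ha hb => rw [add_mul]; exact T₀.add_mem ha hb
      | neg a _ ha => rw [neg_mul]; exact T₀.neg_mem ha
    | zero => rw [mul_zero]; exact T₀.zero_mem
    | add a b _ _ ha hb => rw [mul_add]; exact T₀.add_mem ha hb
    | neg a _ ha => rw [mul_neg]; exact T₀.neg_mem ha
  have step0 : ∀ x ∈ J.map (φ : V →+* W), x ∈ T₀ := by
    intro x hx
    have hx' : x ∈ Ideal.span ((φ : V →+* W) '' (J : Set V)) := hx
    clear hx
    induction hx' using Submodule.span_induction with
    | zero => exact T₀.zero_mem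
    | add a b _ _ ha hb => exact T₀.add_mem ha hb
    | mem a ha =>
      obtain ⟨j, hj, rfl⟩ := ha
      apply AddSubgroup.subset_closure
      exact ⟨j, 1, hj, Subalgebra.one_mem _, by rw [mul_one]; rfl⟩
    | smul c a _ ih =>
      rw [smul_eq_mul]
      exact mulclosed c a ih
  have step1 : ∀ t ∈ T₀, act β t ∈ T := by
    intro t ht
    induction ht using AddSubgroup.closure_induction with
    | mem t ht =>
      obtain ⟨j, ρ, hj, hρ, rfl⟩ := ht
      have h1 := ReyInt.act_natural β φ.toLinearMap (isComodHom_of_equiv φ hφ) j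
      rw [AlgHom.toLinearMap_apply, AlgHom.toLinearMap_apply] at h1
      have h2 := ReyInt.act_invariant_smul (M := W) β ρ hρ (φ j)
      rw [smul_eq_mul, smul_eq_mul] at h2
      rw [mul_comm, h2, ← h1, mul_comm]
      apply AddSubgroup.subset_closure
      exact ⟨act β j, ρ, ReyInt.act_mem_of_isSubcomod β _ hJ j hj, ReyInt.act_mem_fixedPts β hβ j,
        hρ, rfl⟩
    | zero => rw [map_zero]; exact T.zero_mem
    | add a b _ _ ha hb => rw [map_add]; exact T.add_mem ha hb
    | neg a _ ha => rw [map_neg]; exact T.neg_mem ha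
  have := step1 r (step0 r hrJ)
  rwa [ReyInt.act_of_mem_fixedPts β hβ1 r hr] at this

end Reynolds

end Groth.Agent.Lib.Helper75.StrEt
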