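import Groth.Agent.Lib.Helper75.ComodDecomp
import Groth.Prelude.Def_GLin

/-!
# Weight decomposition for comodules over a group algebra `k[Λ]` (helper75)
-/

set_option autoImplicit false
set_option linter.unusedSectionVars false
universe u v w

open TensorProduct

namespace Groth.Agent.Lib.Helper75.TorusGr

open Groth.Agent.Lib.Helper75

variable {k : Type u} [Field k] {Λ : Type v} [AddCommGroup Λ] [DecidableEq Λ]


/-- the grading of the group algebra by weights consists of subcoalgebras -/
theorem comul_mem_grade (w : Λ) (d : (AddMonoidAlgebra k Λ)) (hd : d ∈ AddMonoidAlgebra.grade k w) :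
    CoalgebraStruct.comul (R := k) d ∈ LinearMap.range (TensorProduct.map
      (AddMonoidAlgebra.grade k w).subtype (AddMonoidAlgebra.grade k w).subtype) := by
  rw [AddMonoidAlgebra.mem_grade_iff'] at hd
  obtain ⟨c, rfl⟩ := hd
  refine ⟨(⟨AddMonoidAlgebra.single w 1, AddMonoidAlgebra.single_mem_grade w 1⟩ : AddMonoidAlgebra.grade k w) ⊗ₜ[k]
    (⟨AddMonoidAlgebra.single w c, AddMonoidAlgebra.single_mem_grade w c⟩ : AddMonoidAlgebra.grade k w), ?_⟩
  rw [TensorProduct.map_tmul]
  show AddMonoidAlgebra.single w (1 : k) ⊗ₜ[k] AddMonoidAlgebra.single w c = _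
  have : CoalgebraStruct.comul (R := k) (AddMonoidAlgebra.single w c : (AddMonoidAlgebra k Λ)) =
      TensorProduct.map (AddMonoidAlgebra.lsingle w) (AddMonoidAlgebra.lsingle w)
        (CoalgebraStruct.comul (R := k) c) := AddMonoidAlgebra.comul_single (R := k) w c
  erw [this]
  rw [CommSemiring.comul_apply, TensorProduct.map_tmul]
  rfl

variable {V : Type w} [AddCommGroup V] [Module k V] [HopfRep.Comod k (AddMonoidAlgebra k Λ) V]

variable (k) in
/-- the weight projector -/
noncomputable def pw (w : Λ) : V →ₗ[k] V := compProj (AddMonoidAlgebra.grade k) w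

theorem mem_comp_iff (w : Λ) (v : V) :
    v ∈ comp (AddMonoidAlgebra.grade k) V w ↔
      v ∈ HopfRep.eigenspace k (AddMonoidAlgebra k Λ) V (AddMonoidAlgebra.single w 1) := by
  constructor
  · rintro ⟨t, ht⟩
    have key : ∀ t : V ⊗[k] (AddMonoidAlgebra.grade k w : Submodule k (AddMonoidAlgebra k Λ)), ∃ v' : V,
        LinearMap.lTensor V (AddMonoidAlgebra.grade k w).subtype t =
          v' ⊗ₜ[k] (AddMonoidAlgebra.single w (1 : k) : (AddMonoidAlgebra k Λ)) := by
      intro t
      induction t using TensorProduct.induction_on with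
      | zero => exact ⟨0, by simp⟩
      | tmul u d =>
        obtain ⟨c, hc⟩ := (AddMonoidAlgebra.mem_grade_iff' k w d.1).1 d.2
        refine ⟨c • u, ?_⟩
        rw [LinearMap.lTensor_tmul, Submodule.subtype_apply, ← hc, TensorProduct.smul_tmul]
        congr 1
        show AddMonoidAlgebra.single w c = c • AddMonoidAlgebra.single w (1 : k)
        rw [AddMonoidAlgebra.smul_single, smul_eq_mul, mul_one]
      | add x y hx hy =>
        obtain ⟨a, ha⟩ := hx
        obtain ⟨b, hb⟩ := hy
        exact ⟨a + b, by rw [map_add, ha, hb, TensorProduct.add_tmul]⟩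
    obtain ⟨v', hv'⟩ := key t
    rw [ht] at hv'
    have h1 := counit_contract (k := k) (A := (AddMonoidAlgebra k Λ)) v
    rw [hv', contractR_tmul] at h1
    have h2 : CoalgebraStruct.counit (R := k) (AddMonoidAlgebra.single w (1 : k) : (AddMonoidAlgebra k Λ)) = 1 := by
      erw [AddMonoidAlgebra.counit_single]
      rfl
    rw [h2, one_smul] at h1
    show HopfRep.Comod.coact (k := k) (A := (AddMonoidAlgebra k Λ)) v = v ⊗ₜ[k] _
    rw [h1] at hv'
    exact hv'
  · intro hv
    refine ⟨v ⊗ₜ[k] (⟨AddMonoidAlgebra.single w 1, AddMonoidAlgebra.single_mem_grade w 1⟩ :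
      AddMonoidAlgebra.grade k w), ?_⟩
    rw [LinearMap.lTensor_tmul]
    exact hv.symm

theorem pw_mem (w : Λ) (v : V) : pw k w v ∈ HopfRep.eigenspace k (AddMonoidAlgebra k Λ) V (AddMonoidAlgebra.single w 1) :=
  (mem_comp_iff w _).1 (compProj_mem _ comul_mem_grade w v)

theorem pw_of_mem (w u : Λ) (v : V) (hv : v ∈ HopfRep.eigenspace k (AddMonoidAlgebra k Λ) V (AddMonoidAlgebra.single u 1)) :
    pw k w v = if w = u then v else 0 :=
  compProj_of_mem _ w u v ((mem_comp_iff u v).2 hv)

theorem exists_sum_pw (v : V) : ∃ s : Finset Λ, ∀ s' : Finset Λ, s ⊆ s' → ∑ w ∈ s', pw k w v = v :=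
  exists_finset_sum_compProj _ v

theorem pw_eq_act (w : Λ) : pw k (V := V) w = act (A := (AddMonoidAlgebra k Λ)) (counitProj (AddMonoidAlgebra.grade k) w) := rfl

end Groth.Agent.Lib.Helper75.TorusGr
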