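import Groth.Agent.Lib.Helper75.TorusGrading

/-!
# Torus actions on affine schemes with a positive grading (helper75)
-/

set_option autoImplicit false
set_option linter.unusedSectionVars false
universe u v w

open TensorProduct

namespace Groth.Agent.Lib.Helper75.TorusGr

open Groth.Agent.Lib.Helper75

variable {k : Type u} [Field k] {Λ : Type v} [AddCommGroup Λ] [DecidableEq Λ]
variable {R : Type w} [CommRing R] [Algebra k R] [HopfRep.Comod k (AddMonoidAlgebra k Λ) R]
  [GLin.IsCoactAlg k (AddMonoidAlgebra k Λ) R]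

theorem mul_mem_eigenspace (u w : Λ) (f g : R)
    (hf : f ∈ HopfRep.eigenspace k (AddMonoidAlgebra k Λ) R (AddMonoidAlgebra.single u 1))
    (hg : g ∈ HopfRep.eigenspace k (AddMonoidAlgebra k Λ) R (AddMonoidAlgebra.single w 1)) :
    f * g ∈ HopfRep.eigenspace k (AddMonoidAlgebra k Λ) R (AddMonoidAlgebra.single (u + w) 1) := by
  show HopfRep.Comod.coact (k := k) (A := AddMonoidAlgebra k Λ) (f * g) = _
  have hf' : HopfRep.Comod.coact (k := k) (A := AddMonoidAlgebra k Λ) f = f ⊗ₜ[k] _ := hf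
  have hg' : HopfRep.Comod.coact (k := k) (A := AddMonoidAlgebra k Λ) g = g ⊗ₜ[k] _ := hg
  rw [GLin.IsCoactAlg.coact_mul, hf', hg', Algebra.TensorProduct.tmul_mul_tmul, AddMonoidAlgebra.single_mul_single,
    mul_one]

theorem one_mem_eigenspace :
    (1 : R) ∈ HopfRep.eigenspace k (AddMonoidAlgebra k Λ) R (AddMonoidAlgebra.single 0 1) := by
  show HopfRep.Comod.coact (k := k) (A := AddMonoidAlgebra k Λ) (1 : R) = _
  rw [GLin.IsCoactAlg.coact_one (k := k) (A := AddMonoidAlgebra k Λ) (R := R), Algebra.TensorProduct.one_def]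
  rfl

theorem mem_invariants_iff (f : R) :
    f ∈ GLin.invariants k (AddMonoidAlgebra k Λ) R ↔
      f ∈ HopfRep.eigenspace k (AddMonoidAlgebra k Λ) R (AddMonoidAlgebra.single 0 1) := Iff.rfl

/-- `p_w (a g) = a p_{w-u} g` for `a` of weight `u` -/
theorem pw_mul_of_mem (u : Λ) (a : R)
    (ha : a ∈ HopfRep.eigenspace k (AddMonoidAlgebra k Λ) R (AddMonoidAlgebra.single u 1)) (g : R) (w : Λ) :
    pw k w (a * g) = a * pw k (w - u) g := by
  obtain ⟨s, hs⟩ := exists_sum_pw (k := k) (Λ := Λ) g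
  have hg := hs (s ∪ {w - u}) Finset.subset_union_left
  conv_lhs => rw [← hg]
  rw [Finset.mul_sum, map_sum]
  have hterm : ∀ v ∈ s ∪ {w - u}, pw k w (a * pw k v g) = if v = w - u then a * pw k (w - u) g else 0 := by
    intro v _
    rw [pw_of_mem w (u + v) _ (mul_mem_eigenspace u v a _ ha (pw_mem v g))]
    by_cases h : v = w - u
    · rw [if_pos h, if_pos (by rw [h]; abel), h]
    · rw [if_neg h, if_neg]
      intro h'
      apply h
      rw [h']
      abel
  rw [Finset.sum_congr rfl hterm, Finset.sum_ite_eq', if_pos]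
  exact Finset.mem_union_right _ (Finset.mem_singleton_self _)

section Pos

variable (hpos : ∀ w : Λ,
    HopfRep.eigenspace k (AddMonoidAlgebra k Λ) R (AddMonoidAlgebra.single w 1) ≠ ⊥ →
    HopfRep.eigenspace k (AddMonoidAlgebra k Λ) R (AddMonoidAlgebra.single (-w) 1) ≠ ⊥ → w = 0)

include hpos

theorem mul_eq_zero_of_pos (u : Λ) (hu : u ≠ 0) (a b : R)
    (ha : a ∈ HopfRep.eigenspace k (AddMonoidAlgebra k Λ) R (AddMonoidAlgebra.single u 1))
    (hb : b ∈ HopfRep.eigenspace k (AddMonoidAlgebra k Λ) R (AddMonoidAlgebra.single (-u) 1)) :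
    a * b = 0 := by
  by_contra hab
  have ha0 : a ≠ 0 := fun h => hab (by rw [h, zero_mul])
  have hb0 : b ≠ 0 := fun h => hab (by rw [h, mul_zero])
  apply hu
  apply hpos u
  · intro h
    rw [h, Submodule.mem_bot] at ha
    exact ha0 ha
  · intro h
    rw [h, Submodule.mem_bot] at hb
    exact hb0 hb

/-- for a positive grading, the projection to weight zero is multiplicative -/
theorem pw_zero_mul (f g : R) : pw k (0 : Λ) (f * g) = pw k (0 : Λ) f * pw k (0 : Λ) g := by
  obtain ⟨s, hs⟩ := exists_sum_pw (k := k) (Λ := Λ) f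
  have hf := hs (s ∪ {0}) Finset.subset_union_left
  conv_lhs => rw [← hf]
  rw [Finset.sum_mul, map_sum]
  have hterm : ∀ u ∈ s ∪ {(0 : Λ)}, pw k (0 : Λ) (pw k u f * g) =
      if u = 0 then pw k (0 : Λ) f * pw k (0 : Λ) g else 0 := by
    intro u _
    rw [pw_mul_of_mem u _ (pw_mem u f), zero_sub]
    by_cases h : u = 0
    · rw [if_pos h, h, neg_zero]
    · rw [if_neg h]
      exact mul_eq_zero_of_pos hpos u h _ _ (pw_mem u f) (pw_mem (-u) g)
  rw [Finset.sum_congr rfl hterm, Finset.sum_ite_eq', if_pos]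
  exact Finset.mem_union_right _ (Finset.mem_singleton_self _)

theorem pw_zero_one : pw k (0 : Λ) (1 : R) = 1 := by
  rw [pw_of_mem 0 0 _ one_mem_eigenspace, if_pos rfl]

/-- the ideal generated by the eigenvectors of nonzero weight is killed by the projection to weight zero -/
theorem pw_zero_eq_zero_of_mem_span (f : R)
    (hf : f ∈ Ideal.span {f : R | ∃ w : Λ, w ≠ 0 ∧
      f ∈ HopfRep.eigenspace k (AddMonoidAlgebra k Λ) R (AddMonoidAlgebra.single w 1)}) :
    pw k (0 : Λ) f = 0 := by
  have key : ∀ a : R, pw k (0 : Λ) (a * f) = 0 := by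
    induction hf using Submodule.span_induction with
    | mem x hx =>
      obtain ⟨w, hw, hxw⟩ := hx
      intro a
      rw [mul_comm, pw_mul_of_mem w x hxw, zero_sub]
      exact mul_eq_zero_of_pos hpos w hw _ _ hxw (pw_mem (-w) a)
    | zero => intro a; rw [mul_zero, map_zero]
    | add x y _ _ hx hy => intro a; rw [mul_add, map_add, hx, hy, add_zero]
    | smul b x _ hx =>
      intro a
      rw [smul_eq_mul, ← mul_assoc]
      exact hx (a * b)
  have := key 1
  rwa [one_mul] at this

end Pos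

end Groth.Agent.Lib.Helper75.TorusGr
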