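import Groth.Agent.Lib.Helper75.TorusGradingB

/-!
# Torus actions with a positive grading: closed orbits are fixed points (helper75)
-/

set_option autoImplicit false
set_option linter.unusedSectionVars false
universe u v w

open TensorProduct

namespace Groth.Agent.Lib.Helper75.TorusGr

open Groth.Agent.Lib.Helper75

variable {k : Type u} [Field k] {Λ : Type v} [AddCommGroup Λ] [DecidableEq Λ]
variable {R : Type w} [CommRing R] [Algebra k R] [HopfRep.Comod k (AddMonoidAlgebra k Λ) R]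
  [GLin.IsCoactAlg k (AddMonoidAlgebra k Λ) R]

theorem orbitHom_eq_contractL (x : R →ₐ[k] k) (f : R) :
    GLin.orbitHom k (AddMonoidAlgebra k Λ) x f =
      contractL (AddMonoidAlgebra k Λ) x.toLinearMap (coactMap k (AddMonoidAlgebra k Λ) R f) := by
  have h1 : ∀ z : R ⊗[k] (AddMonoidAlgebra k Λ),
      (Algebra.TensorProduct.lid k (AddMonoidAlgebra k Λ))
        ((Algebra.TensorProduct.map x (AlgHom.id k (AddMonoidAlgebra k Λ))) z) =
        contractL (AddMonoidAlgebra k Λ) x.toLinearMap z := by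
    intro z
    induction z using TensorProduct.induction_on with
    | zero => simp
    | tmul a b => simp
    | add a b ha hb => simp only [map_add, ha, hb]
  exact h1 _

theorem point_act (x : R →ₐ[k] k) (φ : AddMonoidAlgebra k Λ →ₗ[k] k) (f : R) :
    x (act φ f) = φ (GLin.orbitHom k (AddMonoidAlgebra k Λ) x f) := by
  rw [orbitHom_eq_contractL, ← contract_comm]
  rfl

theorem orbitHom_of_mem (x : R →ₐ[k] k) (w : Λ) (g : R)
    (hg : g ∈ HopfRep.eigenspace k (AddMonoidAlgebra k Λ) R (AddMonoidAlgebra.single w 1)) :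
    GLin.orbitHom k (AddMonoidAlgebra k Λ) x g = x g • (AddMonoidAlgebra.single w (1 : k) : AddMonoidAlgebra k Λ) := by
  have hg' : coactMap k (AddMonoidAlgebra k Λ) R g = g ⊗ₜ[k] _ := hg
  rw [orbitHom_eq_contractL, hg', contractL_tmul]
  rfl

theorem comap_orbitHom_of_isFixedPt (x : R →ₐ[k] k) (h : GLin.IsFixedPt k (AddMonoidAlgebra k Λ) x)
    (q : PrimeSpectrum (AddMonoidAlgebra k Λ)) (f : R) :
    GLin.orbitHom k (AddMonoidAlgebra k Λ) x f ∈ q.asIdeal ↔ x f = 0 := by
  have h' : GLin.orbitHom k (AddMonoidAlgebra k Λ) x f = algebraMap k (AddMonoidAlgebra k Λ) (x f) := by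
    rw [h]
    rfl
  rw [h']
  constructor
  · intro hq
    by_contra hne
    apply q.2.ne_top
    exact Ideal.eq_top_of_isUnit_mem _ hq ((IsUnit.mk0 _ hne).map (algebraMap k (AddMonoidAlgebra k Λ)))
  · intro h0
    rw [h0, map_zero]
    exact zero_mem _

theorem isClosedOrbit_of_isFixedPt (x : R →ₐ[k] k) (h : GLin.IsFixedPt k (AddMonoidAlgebra k Λ) x) :
    GLin.IsClosedOrbit k (AddMonoidAlgebra k Λ) x := by
  unfold GLin.IsClosedOrbit
  have hsurj : Function.Surjective x.toRingHom := fun c => ⟨algebraMap k R c, x.commutes c⟩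
  have hx : (RingHom.ker x.toRingHom).IsMaximal := RingHom.ker_isMaximal_of_surjective _ hsurj
  have hcomap : ∀ q : PrimeSpectrum (AddMonoidAlgebra k Λ),
      PrimeSpectrum.comap (GLin.orbitHom k (AddMonoidAlgebra k Λ) x).toRingHom q =
        ⟨RingHom.ker x.toRingHom, hx.isPrime⟩ := by
    intro q
    apply PrimeSpectrum.ext
    ext f
    exact comap_orbitHom_of_isFixedPt x h q f
  have hrange : Set.range (PrimeSpectrum.comap (GLin.orbitHom k (AddMonoidAlgebra k Λ) x).toRingHom) =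
      {⟨RingHom.ker x.toRingHom, hx.isPrime⟩} := by
    ext p
    constructor
    · rintro ⟨q, rfl⟩
      exact hcomap q
    · intro hp
      obtain ⟨q⟩ : Nonempty (PrimeSpectrum (AddMonoidAlgebra k Λ)) := inferInstance
      exact ⟨q, (hcomap q).trans hp.symm⟩
  rw [hrange]
  exact (PrimeSpectrum.isClosed_singleton_iff_isMaximal _).2 hx

theorem isFixedPt_of_isClosedOrbit
    (hpos : ∀ w : Λ,
      HopfRep.eigenspace k (AddMonoidAlgebra k Λ) R (AddMonoidAlgebra.single w 1) ≠ ⊥ →
      HopfRep.eigenspace k (AddMonoidAlgebra k Λ) R (AddMonoidAlgebra.single (-w) 1) ≠ ⊥ → w = 0)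
    (x : R →ₐ[k] k) (h : GLin.IsClosedOrbit k (AddMonoidAlgebra k Λ) x) :
    GLin.IsFixedPt k (AddMonoidAlgebra k Λ) x := by
  let P0 : R →ₐ[k] R := AlgHom.ofLinearMap (pw k (0 : Λ)) (pw_zero_one hpos) (pw_zero_mul hpos)
  let y : R →ₐ[k] k := x.comp P0
  have hy : ∀ f, y f = x (pw k (0 : Λ) f) := fun f => rfl
  have hsurj : Function.Surjective y.toRingHom := fun c => ⟨algebraMap k R c, y.commutes c⟩
  have hymax : (RingHom.ker y.toRingHom).IsMaximal := RingHom.ker_isMaximal_of_surjective _ hsurj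
  have hyker : RingHom.ker (GLin.orbitHom k (AddMonoidAlgebra k Λ) x).toRingHom ≤ RingHom.ker y.toRingHom := by
    intro f hf
    rw [RingHom.mem_ker] at hf ⊢
    have hf' : GLin.orbitHom k (AddMonoidAlgebra k Λ) x f = 0 := hf
    show x (pw k (0 : Λ) f) = 0
    rw [pw_eq_act, point_act, hf', map_zero]
  have hmem : (⟨RingHom.ker y.toRingHom, hymax.isPrime⟩ : PrimeSpectrum R) ∈
      Set.range (PrimeSpectrum.comap (GLin.orbitHom k (AddMonoidAlgebra k Λ) x).toRingHom) := by
    unfold GLin.IsClosedOrbit at h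
    rw [← h.closure_eq, PrimeSpectrum.closure_range_comap, PrimeSpectrum.mem_zeroLocus]
    exact hyker
  obtain ⟨q, hq⟩ := hmem
  have hq' : ∀ f, GLin.orbitHom k (AddMonoidAlgebra k Λ) x f ∈ q.asIdeal ↔ y f = 0 := by
    intro f
    have := congrArg (fun p : PrimeSpectrum R => f ∈ p.asIdeal) hq
    exact this.to_iff
  have hkill : ∀ w : Λ, w ≠ 0 → ∀ g ∈ HopfRep.eigenspace k (AddMonoidAlgebra k Λ) R (AddMonoidAlgebra.single w 1),
      x g = 0 := by
    intro w hw g hg
    by_contra hne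
    have hyg : y g = 0 := by
      rw [hy, pw_of_mem 0 w g hg, if_neg (Ne.symm hw), map_zero]
    have h1 := (hq' g).2 hyg
    rw [orbitHom_of_mem x w g hg] at h1
    apply q.2.ne_top
    apply Ideal.eq_top_of_isUnit_mem _ h1
    apply IsUnit.of_mul_eq_one ((x g)⁻¹ • (AddMonoidAlgebra.single (-w) (1 : k) : AddMonoidAlgebra k Λ))
    rw [smul_mul_smul_comm, AddMonoidAlgebra.single_mul_single, mul_inv_cancel₀ hne, one_smul, add_neg_cancel,
      mul_one]
    rfl
  unfold GLin.IsFixedPt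
  apply AlgHom.ext
  intro f
  obtain ⟨s, hs⟩ := exists_sum_pw (k := k) (Λ := Λ) f
  have hf := hs (s ∪ {0}) Finset.subset_union_left
  have h0 : (0 : Λ) ∈ s ∪ {0} := Finset.mem_union_right _ (Finset.mem_singleton_self _)
  have hxf : x f = x (pw k (0 : Λ) f) := by
    conv_lhs => rw [← hf]
    rw [map_sum]
    apply Finset.sum_eq_single_of_mem 0 h0
    intro w _ hw
    exact hkill w hw _ (pw_mem w f)
  have hof : GLin.orbitHom k (AddMonoidAlgebra k Λ) x f =
      GLin.orbitHom k (AddMonoidAlgebra k Λ) x (pw k (0 : Λ) f) := by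
    conv_lhs => rw [← hf]
    rw [map_sum]
    apply Finset.sum_eq_single_of_mem 0 h0
    intro w _ hw
    rw [orbitHom_of_mem x w _ (pw_mem w f), hkill w hw _ (pw_mem w f), zero_smul]
  rw [hof, orbitHom_of_mem x 0 _ (pw_mem 0 f), ← hxf]
  show _ = algebraMap k (AddMonoidAlgebra k Λ) (x f)
  rw [Algebra.algebraMap_eq_smul_one]
  rfl

end Groth.Agent.Lib.Helper75.TorusGr
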