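import Groth.Agent.Lib.Helper75.TrigDVRBase

/-!
# Specialization of trigonalizability over a discrete valuation ring: the flag (helper75)
-/

set_option autoImplicit false
universe u

open TensorProduct Matrix

namespace Groth.Agent.Lib.Helper75.TrigDVR

open Groth.Agent.Lib.Helper75 Groth.Agent.Lib.Helper75.LineStab

variable {A : Type u} [CommRing A] [IsDomain A] [IsDiscreteValuationRing A]
variable {K : Type u} [Field K] [Algebra A K] [IsFractionRing A K]
variable {H : Type u} [CommRing H] [HopfAlgebra A H] [Module.Flat A H]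

omit [IsDomain A] [IsDiscreteValuationRing A] [Module.Flat A H] [IsFractionRing A K] in
theorem one_tmul_smul (r : A) (h : H) :
    (1 : K) ⊗ₜ[A] (r • h) = algebraMap A K r • ((1 : K) ⊗ₜ[A] h) := by
  rw [TensorProduct.tmul_smul, TensorProduct.smul_tmul', TensorProduct.smul_tmul', Algebra.smul_def, mul_one,
    smul_eq_mul, mul_one]

/-- an integral eigenvector with a unit coordinate -/
theorem exists_eigen_integral (hT : HopfRep.IsTrigonalizable K (K ⊗[A] H)) {n : ℕ}
    (a : Matrix (Fin (n + 1)) (Fin (n + 1)) H) (ha : IsCorep A a) :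
    ∃ (z : Fin (n + 1) → A) (i₀ : Fin (n + 1)) (g₀ : H), IsUnit (z i₀) ∧
      ∀ s, ∑ t, z t • a s t = z s • g₀ := by
  classical
  have hK := isCorep_baseChange K a ha
  letI := matComod (a.map (fun h => (1 : K) ⊗ₜ[A] h)) hK
  obtain ⟨w, g, hw, _, hwg⟩ := exists_eigen_of_isTrigonalizable (K := K) (A := K ⊗[A] H)
    (V := Fin (n + 1) → K) hT
  have hcoord : ∀ s, ∑ t, w t • ((1 : K) ⊗ₜ[A] a s t) = w s • g := by
    intro s
    have h1 := congrArg (contractL (K ⊗[A] H) (LinearMap.proj s)) hwg
    rw [contractL_tmul] at h1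
    have h2 := contractL_proj_coact (a.map (fun h => (1 : K) ⊗ₜ[A] h)) hK w s
    simp only [Matrix.map_apply] at h2
    rw [← h2]
    exact h1
  obtain ⟨c, z, hc, hz, i₀, hi₀⟩ := exists_primitive_scaling (A := A) w hw
  have hcoord2 : ∀ s, (1 : K) ⊗ₜ[A] (∑ t, z t • a s t) = algebraMap A K (z s) • g := by
    intro s
    rw [hz s, mul_smul, ← hcoord s, Finset.smul_sum, TensorProduct.tmul_sum]
    apply Finset.sum_congr rfl
    intro t _
    rw [one_tmul_smul, hz t, mul_smul]
  obtain ⟨u, hu⟩ := hi₀
  refine ⟨z, i₀, (↑u⁻¹ : A) • ∑ t, z t • a i₀ t, ⟨u, hu⟩, ?_⟩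
  have hg : (1 : K) ⊗ₜ[A] ((↑u⁻¹ : A) • ∑ t, z t • a i₀ t) = g := by
    rw [one_tmul_smul, hcoord2 i₀, ← mul_smul, ← map_mul, ← hu, Units.inv_mul, map_one, one_smul]
  intro s
  have hinj : Function.Injective (fun h : H => (1 : K) ⊗ₜ[A] h) := by
    have := Algebra.TensorProduct.includeRight_injective (R := A) (A := K) (B := H) (IsFractionRing.injective A K)
    exact this
  apply hinj
  show (1 : K) ⊗ₜ[A] (∑ t, z t • a s t) = (1 : K) ⊗ₜ[A] (z s • ((↑u⁻¹ : A) • ∑ t, z t • a i₀ t))
  rw [hcoord2 s, one_tmul_smul, hg]

/-- lifting a flag along a surjection with one-dimensional kernel -/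
def liftFlag {k : Type*} [Field k] {V V' : Type*} [AddCommGroup V] [Module k V] [AddCommGroup V'] [Module k V']
    (T : V →ₗ[k] V') (D : ℕ → Submodule k V') : ℕ → Submodule k V
  | 0 => ⊥
  | (j + 1) => (D j).comap T

omit [IsDomain A] [IsDiscreteValuationRing A] [Module.Flat A H] in
theorem col_of_eigen {n : ℕ} (a : Matrix (Fin n) (Fin n) H) (z : Fin n → A) (i₀ : Fin n) (g₀ : H)
    (hz : ∀ s, ∑ t, z t • a s t = z s • g₀) (P P' : Matrix (Fin n) (Fin n) A) (hP'P : P' * P = 1)
    (hcol : ∀ i, P i i₀ = z i) (s : Fin n) :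
    (P'.map (algebraMap A H) * a * P.map (algebraMap A H)) s i₀ = if s = i₀ then g₀ else 0 := by
  classical
  have h1 : (P.map (algebraMap A H)) *ᵥ (Pi.single i₀ 1) = fun m => algebraMap A H (z m) := by
    rw [Matrix.mulVec_single_one]
    funext m
    simp [hcol]
  have h2 : a *ᵥ (fun m => algebraMap A H (z m)) = g₀ • (fun m => algebraMap A H (z m)) := by
    funext s
    simp only [Matrix.mulVec, dotProduct, Pi.smul_apply, smul_eq_mul]
    have := hz s
    simp only [Algebra.smul_def] at this
    rw [mul_comm g₀, ← this]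
    apply Finset.sum_congr rfl
    intro t _
    ring
  have hPP : P'.map (algebraMap A H) * P.map (algebraMap A H) = 1 := by
    have := Matrix.map_mul (L := P') (M := P) (f := algebraMap A H)
    rw [← this, hP'P]
    simp
  have h3 : (P'.map (algebraMap A H) * a * P.map (algebraMap A H)) *ᵥ (Pi.single i₀ 1) =
      g₀ • Pi.single i₀ 1 := by
    rw [← Matrix.mulVec_mulVec, ← Matrix.mulVec_mulVec, h1, h2, Matrix.mulVec_smul, ← h1,
      Matrix.mulVec_mulVec, hPP, Matrix.one_mulVec]
  have := congrFun h3 s
  rw [Matrix.mulVec_single_one] at this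
  simpa [Pi.single_apply] using this

omit [IsDomain A] [IsDiscreteValuationRing A] [Module.Flat A H] in
theorem isCorep_submatrix {n : ℕ} (a' : Matrix (Fin (n + 1)) (Fin (n + 1)) H) (ha' : IsCorep A a')
    (i₀ : Fin (n + 1)) (h0 : ∀ s, s ≠ i₀ → a' s i₀ = 0) :
    IsCorep A (a'.submatrix i₀.succAbove i₀.succAbove) where
  comul s t := by
    simp only [Matrix.submatrix_apply]
    rw [ha'.comul, Fin.sum_univ_succAbove _ i₀, h0 _ (Fin.succAbove_ne i₀ s), TensorProduct.zero_tmul, zero_add]
  counit s t := by
    simp only [Matrix.submatrix_apply]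
    rw [ha'.counit]
    simp

variable (A) in
/-- the residue field -/
local notation "𝕜" => IsLocalRing.ResidueField A

/-- **the flag**: for a corepresentation matrix over `H`, the reduction to the special fibre has a full flag
stable under the action of all functionals, provided the generic fibre is trigonalizable -/
theorem exists_flag (hT : HopfRep.IsTrigonalizable K (K ⊗[A] H)) :
    ∀ (n : ℕ) (a : Matrix (Fin n) (Fin n) H), IsCorep A a →
      ∃ D : ℕ → Submodule (IsLocalRing.ResidueField A) (Fin n → IsLocalRing.ResidueField A),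
        Monotone D ∧ (∀ j ≤ n, Module.finrank (IsLocalRing.ResidueField A) (D j) = j) ∧
        ∀ (f : (IsLocalRing.ResidueField A ⊗[A] H) →ₗ[IsLocalRing.ResidueField A] IsLocalRing.ResidueField A)
          (j : ℕ), ∀ x ∈ D j,
          ((a.map (fun h => (1 : IsLocalRing.ResidueField A) ⊗ₜ[A] h)).map f) *ᵥ x ∈ D j := by
  classical
  intro n
  induction n with
  | zero =>
    intro a _
    refine ⟨fun _ => ⊤, fun _ _ _ => le_rfl, ?_, fun _ _ _ _ => Submodule.mem_top⟩
    intro j hj
    rw [finrank_top, Nat.le_zero.1 hj]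
    simp
  | succ n ih =>
    intro a ha
    obtain ⟨z, i₀, g₀, hu, hz⟩ := exists_eigen_integral hT a ha
    obtain ⟨P, P', hPP', hP'P, hcol⟩ := exists_invertible_with_col z i₀ hu
    set a' := P'.map (algebraMap A H) * a * P.map (algebraMap A H) with ha'def
    have ha' : IsCorep A a' := isCorep_conj a ha P P' hPP'
    have hcol' : ∀ s, a' s i₀ = if s = i₀ then g₀ else 0 :=
      fun s => col_of_eigen a z i₀ g₀ hz P P' hP'P hcol s
    have h0 : ∀ s, s ≠ i₀ → a' s i₀ = 0 := fun s hs => by rw [hcol' s, if_neg hs]
    have ha'' := isCorep_submatrix a' ha' i₀ h0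
    obtain ⟨D'', hmono, hrank, hstab⟩ := ih (a'.submatrix i₀.succAbove i₀.succAbove) ha''
    -- the tail map
    let T : (Fin (n + 1) → IsLocalRing.ResidueField A) →ₗ[IsLocalRing.ResidueField A]
        (Fin n → IsLocalRing.ResidueField A) :=
      LinearMap.funLeft (IsLocalRing.ResidueField A) (IsLocalRing.ResidueField A) i₀.succAbove
    have hTsurj : Function.Surjective T :=
      LinearMap.funLeft_surjective_of_injective _ _ _ (Fin.succAbove_right_injective)
    have hkerT : Module.finrank (IsLocalRing.ResidueField A) (LinearMap.ker T) = 1 := by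
      have h1 := LinearMap.finrank_range_add_finrank_ker T
      rw [LinearMap.range_eq_top.2 hTsurj, finrank_top] at h1
      simp only [Module.finrank_fintype_fun_eq_card, Fintype.card_fin] at h1
      omega
    let D' := liftFlag T D''
    -- reductions of P, P'
    let Pt : Matrix (Fin (n + 1)) (Fin (n + 1)) (IsLocalRing.ResidueField A) :=
      P.map (algebraMap A (IsLocalRing.ResidueField A))
    let Pt' : Matrix (Fin (n + 1)) (Fin (n + 1)) (IsLocalRing.ResidueField A) :=
      P'.map (algebraMap A (IsLocalRing.ResidueField A))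
    have hPt : Pt * Pt' = 1 := by
      have := Matrix.map_mul (L := P) (M := P') (f := algebraMap A (IsLocalRing.ResidueField A))
      rw [← this, hPP']
      simp
    have hPt' : Pt' * Pt = 1 := mul_eq_one_comm.1 hPt
    let e : (Fin (n + 1) → IsLocalRing.ResidueField A) ≃ₗ[IsLocalRing.ResidueField A]
        (Fin (n + 1) → IsLocalRing.ResidueField A) := Matrix.toLin'OfInv hPt' hPt
    have he : ∀ y, e y = Pt *ᵥ y := fun y => rfl
    have hD'mono : Monotone D' := by
      apply monotone_nat_of_le_succ
      intro j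
      cases j with
      | zero => exact bot_le
      | succ j => exact Submodule.comap_mono (hmono (Nat.le_succ j))
    have hD'rank : ∀ j ≤ n + 1, Module.finrank (IsLocalRing.ResidueField A) (D' j) = j := by
      intro j hj
      cases j with
      | zero => exact finrank_bot _ _
      | succ j =>
        have h1 := finrank_comap_of_surjective T hTsurj (D'' j)
        rw [hrank j (by omega), hkerT] at h1
        exact h1
    -- the conjugation identity
    set ι : H →ₐ[A] (IsLocalRing.ResidueField A ⊗[A] H) := Algebra.TensorProduct.includeRight with hι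
    have hιfun : ∀ M : Matrix (Fin (n + 1)) (Fin (n + 1)) H,
        M.map (fun h => (1 : IsLocalRing.ResidueField A) ⊗ₜ[A] h) = M.map ι := by
      intro M
      rfl
    have haa' : a = P.map (algebraMap A H) * a' * P'.map (algebraMap A H) := by
      have hPPH : P.map (algebraMap A H) * P'.map (algebraMap A H) = 1 := by
        have := Matrix.map_mul (L := P) (M := P') (f := algebraMap A H)
        rw [← this, hPP']
        simp
      rw [ha'def]
      calc a = (P.map (algebraMap A H) * P'.map (algebraMap A H)) * a *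
            (P.map (algebraMap A H) * P'.map (algebraMap A H)) := by rw [hPPH, Matrix.one_mul, Matrix.mul_one]
        _ = _ := by simp only [Matrix.mul_assoc]
    have hmapf : ∀ f : (IsLocalRing.ResidueField A ⊗[A] H) →ₗ[IsLocalRing.ResidueField A]
        IsLocalRing.ResidueField A,
        (a.map ι).map f = Pt * (a'.map ι).map f * Pt' := by
      intro f
      have h1 : a.map ι = Pt.map (algebraMap (IsLocalRing.ResidueField A) (IsLocalRing.ResidueField A ⊗[A] H)) *
          a'.map ι * Pt'.map (algebraMap (IsLocalRing.ResidueField A) (IsLocalRing.ResidueField A ⊗[A] H)) := by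
        have hPm : ∀ Q : Matrix (Fin (n + 1)) (Fin (n + 1)) A,
            Q.map (algebraMap A (IsLocalRing.ResidueField A ⊗[A] H)) =
              (Q.map (algebraMap A (IsLocalRing.ResidueField A))).map
                (algebraMap (IsLocalRing.ResidueField A) (IsLocalRing.ResidueField A ⊗[A] H)) := by
          intro Q
          ext s t
          simp only [Matrix.map_apply]
          rw [IsScalarTower.algebraMap_apply A (IsLocalRing.ResidueField A)]
        conv_lhs => rw [haa']
        rw [map_conj ι a' P' P, hPm P, hPm P']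
      rw [h1, map_linear_conj]
    refine ⟨fun j => (D' j).map (e : _ →ₗ[IsLocalRing.ResidueField A] _), ?_, ?_, ?_⟩
    · intro i j hij
      exact Submodule.map_mono (hD'mono hij)
    · intro j hj
      rw [LinearEquiv.finrank_map_eq e (D' j), hD'rank j hj]
    · intro f j x hx
      obtain ⟨y, hy, rfl⟩ := hx
      rw [hιfun, hmapf f]
      have hy' : e y = Pt *ᵥ y := rfl
      show (Pt * (a'.map ι).map f * Pt') *ᵥ (e y) ∈ _
      rw [hy', Matrix.mulVec_mulVec, Matrix.mul_assoc, Matrix.mul_assoc, hPt', Matrix.mul_one,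
        ← Matrix.mulVec_mulVec]
      refine ⟨((a'.map ι).map f) *ᵥ y, ?_, rfl⟩
      -- stability of D'
      cases j with
      | zero =>
        have : y = 0 := (Submodule.mem_bot _).1 hy
        rw [this, Matrix.mulVec_zero]
        exact Submodule.zero_mem _
      | succ j =>
        show T (((a'.map ι).map f) *ᵥ y) ∈ D'' j
        have hTy : T y ∈ D'' j := hy
        have key : T (((a'.map ι).map f) *ᵥ y) =
            (((a'.submatrix i₀.succAbove i₀.succAbove).map
              (fun h => (1 : IsLocalRing.ResidueField A) ⊗ₜ[A] h)).map f) *ᵥ (T y) := by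
          funext s
          simp only [T, LinearMap.funLeft_apply, Matrix.mulVec, dotProduct, Matrix.map_apply,
            Matrix.submatrix_apply]
          rw [Fin.sum_univ_succAbove _ i₀, h0 _ (Fin.succAbove_ne i₀ s), map_zero, map_zero, zero_mul, zero_add]
          rfl
        rw [key]
        exact hstab f j (T y) hTy

end Groth.Agent.Lib.Helper75.TrigDVR
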