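import Groth.Agent.Lib.Helper75.LineStab
import Groth.Agent.Lib.Helper75.TrigEigen

/-!
# Corepresentation matrices: base change, conjugation, blocks (helper75)
-/

set_option autoImplicit false
universe u

open TensorProduct

namespace Groth.Agent.Lib.Helper75.TrigDVR

open Groth.Agent.Lib.Helper75 Groth.Agent.Lib.Helper75.LineStab

section BaseChange

variable {R : Type u} [CommRing R] (S : Type u) [CommRing S] [Algebra R S]
variable {H : Type u} [CommRing H] [HopfAlgebra R H]

/-- `b ⊗ c ↦ (1 ⊗ b) ⊗ (1 ⊗ c)` -/
noncomputable def gam : H ⊗[R] H →+ (S ⊗[R] H) ⊗[S] (S ⊗[R] H) :=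
  ((TensorProduct.AlgebraTensorModule.tensorTensorTensorComm R S R S S S H H).toLinearMap.toAddMonoidHom).comp
    (TensorProduct.mk R (S ⊗[S] S) (H ⊗[R] H) ((1 : S) ⊗ₜ[S] (1 : S))).toAddMonoidHom

theorem gam_apply (t : H ⊗[R] H) :
    gam S t = TensorProduct.AlgebraTensorModule.tensorTensorTensorComm R S R S S S H H
      (((1 : S) ⊗ₜ[S] (1 : S)) ⊗ₜ[R] t) := rfl

@[simp] theorem gam_tmul (b c : H) :
    gam S (b ⊗ₜ[R] c) = ((1 : S) ⊗ₜ[R] b) ⊗ₜ[S] ((1 : S) ⊗ₜ[R] c) := by
  rw [gam_apply, TensorProduct.AlgebraTensorModule.tensorTensorTensorComm_tmul]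

theorem comul_one_tmul (a : H) :
    CoalgebraStruct.comul (R := S) ((1 : S) ⊗ₜ[R] a) = gam S (CoalgebraStruct.comul (R := R) a) := by
  rw [TensorProduct.comul_tmul, CommSemiring.comul_apply, gam_apply]

theorem counit_one_tmul (a : H) :
    CoalgebraStruct.counit (R := S) ((1 : S) ⊗ₜ[R] a) = algebraMap R S (CoalgebraStruct.counit (R := R) a) := by
  rw [TensorProduct.counit_tmul, CommSemiring.counit_apply, Algebra.algebraMap_eq_smul_one]

variable {κ : Type} [Fintype κ] [DecidableEq κ]

theorem isCorep_baseChange (a : Matrix κ κ H) (ha : IsCorep R a) :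
    IsCorep S (a.map (fun h => (1 : S) ⊗ₜ[R] h)) where
  comul s t := by
    rw [Matrix.map_apply, comul_one_tmul, ha.comul, map_sum]
    simp only [gam_tmul, Matrix.map_apply]
  counit s t := by
    rw [Matrix.map_apply, counit_one_tmul, ha.counit]
    split_ifs <;> simp

end BaseChange

section Conj

variable {R : Type u} [CommRing R] {H : Type u} [CommRing H] [HopfAlgebra R H]
variable {κ : Type} [Fintype κ] [DecidableEq κ]

theorem isCorep_iff (a : Matrix κ κ H) :
    IsCorep R a ↔
      a.map (Bialgebra.comulAlgHom R H) =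
          a.map (Algebra.TensorProduct.includeLeft : H →ₐ[R] H ⊗[R] H) *
            a.map (Algebra.TensorProduct.includeRight : H →ₐ[R] H ⊗[R] H) ∧
        a.map (Bialgebra.counitAlgHom R H) = 1 := by
  constructor
  · intro h
    constructor
    · ext s t
      rw [Matrix.map_apply, Matrix.mul_apply, Bialgebra.comulAlgHom_apply, h.comul]
      apply Finset.sum_congr rfl
      intro u _
      simp [Algebra.TensorProduct.tmul_mul_tmul]
    · ext s t
      rw [Matrix.map_apply, Bialgebra.counitAlgHom_apply, h.counit, Matrix.one_apply]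
  · rintro ⟨h1, h2⟩
    constructor
    · intro s t
      have := congrFun (congrFun h1 s) t
      rw [Matrix.map_apply, Matrix.mul_apply, Bialgebra.comulAlgHom_apply] at this
      rw [this]
      apply Finset.sum_congr rfl
      intro u _
      simp [Algebra.TensorProduct.tmul_mul_tmul]
    · intro s t
      have := congrFun (congrFun h2 s) t
      rw [Matrix.map_apply, Bialgebra.counitAlgHom_apply, Matrix.one_apply] at this
      exact this

theorem map_conj {B : Type*} [CommRing B] [Algebra R B] (φ : H →ₐ[R] B) (a : Matrix κ κ H)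
    (P P' : Matrix κ κ R) :
    (P'.map (algebraMap R H) * a * P.map (algebraMap R H)).map φ =
      P'.map (algebraMap R B) * a.map φ * P.map (algebraMap R B) := by
  have h : ∀ Q : Matrix κ κ R, (Q.map (algebraMap R H)).map φ = Q.map (algebraMap R B) := by
    intro Q
    ext s t
    simp
  have := Matrix.map_mul (L := P'.map (algebraMap R H) * a) (M := P.map (algebraMap R H)) (f := (φ : H →+* B))
  have h2 := Matrix.map_mul (L := P'.map (algebraMap R H)) (M := a) (f := (φ : H →+* B))
  simp only [RingHom.coe_coe] at this h2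
  rw [this, h2, h, h]

theorem isCorep_conj (a : Matrix κ κ H) (ha : IsCorep R a) (P P' : Matrix κ κ R) (h1 : P * P' = 1) :
    IsCorep R (P'.map (algebraMap R H) * a * P.map (algebraMap R H)) := by
  rw [isCorep_iff] at ha ⊢
  obtain ⟨hc, he⟩ := ha
  have hP : ∀ (B : Type u) [CommRing B] [Algebra R B],
      P.map (algebraMap R B) * P'.map (algebraMap R B) = 1 := by
    intro B _ _
    have := Matrix.map_mul (L := P) (M := P') (f := algebraMap R B)
    rw [← this, h1]
    simp
  constructor
  · rw [map_conj, map_conj, map_conj, hc]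
    have hPP := hP (H ⊗[R] H)
    calc P'.map (algebraMap R (H ⊗[R] H)) * (a.map (Algebra.TensorProduct.includeLeft : H →ₐ[R] H ⊗[R] H) *
            a.map (Algebra.TensorProduct.includeRight : H →ₐ[R] H ⊗[R] H)) * P.map (algebraMap R (H ⊗[R] H))
        = P'.map (algebraMap R (H ⊗[R] H)) * a.map (Algebra.TensorProduct.includeLeft : H →ₐ[R] H ⊗[R] H) *
            1 * a.map (Algebra.TensorProduct.includeRight : H →ₐ[R] H ⊗[R] H) * P.map (algebraMap R (H ⊗[R] H)) := by
          simp only [Matrix.mul_one, Matrix.mul_assoc]
      _ = _ := by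
          rw [← hPP]
          simp only [Matrix.mul_assoc]
  · rw [map_conj, he, Matrix.mul_one]
    have h2 : P' * P = 1 := mul_eq_one_comm.1 h1
    have := Matrix.map_mul (L := P') (M := P) (f := algebraMap R R)
    rw [← this, h2]
    simp

end Conj

section Misc

/-- a vector with a unit coordinate is a column of an invertible matrix -/
theorem exists_invertible_with_col {R : Type*} [CommRing R] {n : ℕ} (z : Fin n → R) (i₀ : Fin n)
    (hz : IsUnit (z i₀)) :
    ∃ P P' : Matrix (Fin n) (Fin n) R, P * P' = 1 ∧ P' * P = 1 ∧ (∀ i, P i i₀ = z i) := by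
  let P : Matrix (Fin n) (Fin n) R := (1 : Matrix (Fin n) (Fin n) R).updateCol i₀ z
  have hdet : P.det = z i₀ := by
    rw [← Matrix.cramer_apply, Matrix.cramer_one]
    rfl
  have hu : IsUnit P.det := by rw [hdet]; exact hz
  refine ⟨P, P⁻¹, Matrix.mul_nonsing_inv P hu, Matrix.nonsing_inv_mul P hu, ?_⟩
  intro i
  exact Matrix.updateCol_self

/-- dimension of the preimage of a subspace under a surjective map -/
theorem finrank_comap_of_surjective {k : Type*} [Field k] {V V' : Type*} [AddCommGroup V] [Module k V]
    [AddCommGroup V'] [Module k V'] [FiniteDimensional k V] (f : V →ₗ[k] V') (hf : Function.Surjective f)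
    (W : Submodule k V') :
    Module.finrank k (W.comap f) = Module.finrank k W + Module.finrank k (LinearMap.ker f) := by
  let g : W.comap f →ₗ[k] W := f.restrict (fun x hx => hx)
  have hg : Function.Surjective g := by
    rintro ⟨w, hw⟩
    obtain ⟨v, rfl⟩ := hf w
    exact ⟨⟨v, hw⟩, rfl⟩
  have hker : LinearMap.ker f ≤ W.comap f := by
    intro x hx
    rw [Submodule.mem_comap, LinearMap.mem_ker.1 hx]
    exact W.zero_mem
  have hkg : LinearMap.ker g = Submodule.comap (W.comap f).subtype (LinearMap.ker f) := by
    ext x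
    rw [LinearMap.mem_ker, Submodule.mem_comap, LinearMap.mem_ker]
    constructor
    · intro h
      exact congrArg Subtype.val h
    · intro h
      exact Subtype.ext h
  have h1 := LinearMap.finrank_range_add_finrank_ker g
  rw [LinearMap.range_eq_top.2 hg, finrank_top, hkg,
    (Submodule.comapSubtypeEquivOfLe hker).finrank_eq] at h1
  exact h1.symm

/-- applying a linear functional entrywise commutes with multiplication by scalar matrices -/
theorem map_linear_conj {k : Type*} [Field k] {B : Type*} [CommRing B] [Algebra k B] {κ : Type*} [Fintype κ]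
    (f : B →ₗ[k] k) (M : Matrix κ κ B) (Q Q' : Matrix κ κ k) :
    (Q.map (algebraMap k B) * M * Q'.map (algebraMap k B)).map f = Q * M.map f * Q' := by
  ext s t
  simp only [Matrix.map_apply, Matrix.mul_apply, map_sum, Finset.sum_mul]
  apply Finset.sum_congr rfl
  intro u _
  apply Finset.sum_congr rfl
  intro v _
  have h1 : algebraMap k B (Q s v) * M v u * algebraMap k B (Q' u t) = Q' u t • Q s v • M v u := by
    rw [Algebra.smul_def, Algebra.smul_def]
    ring
  rw [h1, map_smul, map_smul, smul_eq_mul, smul_eq_mul]
  ring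

end Misc

section DVR

variable {A : Type*} [CommRing A] [IsDomain A] [IsDiscreteValuationRing A]
variable {K : Type*} [Field K] [Algebra A K] [IsFractionRing A K]

/-- a nonzero vector over the fraction field of a discrete valuation ring can be scaled to an integral vector
with a unit coordinate -/
theorem exists_primitive_scaling {n : ℕ} (w : Fin n → K) (hw : w ≠ 0) :
    ∃ (c : K) (z : Fin n → A), c ≠ 0 ∧ (∀ i, algebraMap A K (z i) = c * w i) ∧ ∃ i, IsUnit (z i) := by
  classical
  obtain ⟨b, hb⟩ := IsLocalization.exist_integer_multiples (nonZeroDivisors A) (Finset.univ : Finset (Fin n)) w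
  choose y hy using fun i => hb i (Finset.mem_univ i)
  have hb0 : algebraMap A K (b : A) ≠ 0 := by
    intro h
    have := (IsFractionRing.injective A K) (h.trans (map_zero _).symm)
    exact nonZeroDivisors.coe_ne_zero b this
  have hy' : ∀ i, algebraMap A K (y i) = algebraMap A K (b : A) * w i := by
    intro i
    rw [hy i, Algebra.smul_def]
  obtain ⟨d, hd⟩ := (IsPrincipalIdealRing.principal (Ideal.span (Set.range y))).principal
  have hd' : Ideal.span (Set.range y) = Ideal.span {d} := hd
  have hyne : y ≠ 0 := by
    intro h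
    apply hw
    funext i
    have := hy' i
    rw [h, Pi.zero_apply, map_zero] at this
    rcases mul_eq_zero.1 this.symm with h' | h'
    · exact absurd h' hb0
    · exact h'
  have hd0 : d ≠ 0 := by
    intro h
    apply hyne
    funext i
    have : y i ∈ Ideal.span {d} := by
      rw [← hd']
      exact Ideal.subset_span ⟨i, rfl⟩
    rw [h, Ideal.span_singleton_zero] at this
    exact this
  have hdiv : ∀ i, ∃ zi, y i = d * zi := by
    intro i
    have : y i ∈ Ideal.span {d} := by
      rw [← hd']
      exact Ideal.subset_span ⟨i, rfl⟩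
    exact Ideal.mem_span_singleton'.1 this |>.imp fun a ha => by rw [← ha, mul_comm]
  choose z hz using hdiv
  have hdmem : d ∈ Ideal.span (Set.range y) := by
    rw [hd']
    exact Ideal.subset_span rfl
  obtain ⟨cf, hcf⟩ := (Ideal.mem_span_range_iff_exists_fun).1 hdmem
  have hsum : ∑ i, cf i * z i = 1 := by
    have : d * ∑ i, cf i * z i = d * 1 := by
      rw [mul_one, Finset.mul_sum]
      conv_rhs => rw [← hcf]
      apply Finset.sum_congr rfl
      intro i _
      rw [hz i]
      ring
    exact mul_left_cancel₀ hd0 this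
  have hex : ∃ i, IsUnit (z i) := by
    by_contra hcon
    push Not at hcon
    have hmem : ∑ i, cf i * z i ∈ IsLocalRing.maximalIdeal A := by
      apply Ideal.sum_mem
      intro i _
      exact Ideal.mul_mem_left _ _ ((IsLocalRing.mem_maximalIdeal _).2 (hcon i))
    rw [hsum] at hmem
    exact (IsLocalRing.maximalIdeal.isMaximal A).ne_top ((Ideal.eq_top_iff_one _).2 hmem)
  have hdK : algebraMap A K d ≠ 0 := by
    intro h
    exact hd0 ((IsFractionRing.injective A K) (h.trans (map_zero _).symm))
  refine ⟨algebraMap A K (b : A) / algebraMap A K d, z, div_ne_zero hb0 hdK, ?_, hex⟩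
  intro i
  have h1 := hy' i
  rw [hz i, map_mul] at h1
  field_simp
  rw [← h1]
  ring

end DVR

end Groth.Agent.Lib.Helper75.TrigDVR
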