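import Groth.Agent.Lib.Helper75.TrigDVR
import Groth.Agent.Lib.Helper75.SerreFin
import Groth.Agent.Lib.Helper75.ComodSimple
import Groth.Agent.Lib.Helper17.FlagJH
import Groth.Agent.Lib.Helper84.MatCoeff

/-!
# Trigonalizability specializes over a discrete valuation ring (helper75)
-/

set_option autoImplicit false
universe u

open TensorProduct Matrix

namespace Groth.Agent.Lib.Helper75.TrigDVR

open Groth.Agent.Lib.Helper75 Groth.Agent.Lib.Helper75.LineStab Groth.Agent.Lib.Helper84

variable {A : Type u} [CommRing A] [IsDomain A] [IsDiscreteValuationRing A]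
variable {K : Type u} [Field K] [Algebra A K] [IsFractionRing A K]
variable {H : Type u} [CommRing H] [HopfAlgebra A H] [Module.Flat A H]

omit [IsDomain A] [IsDiscreteValuationRing A] in
/-- comultiplication of a basis vector of a subcomodule of the regular comodule (over a ring) -/
theorem comul_basis' (E : Submodule A H) (hE : HopfRep.IsSubcomod (k := A) (A := H) (V := H) E) {n : ℕ}
    (b : Module.Basis (Fin n) A E) (j : Fin n) :
    CoalgebraStruct.comul (R := A) ((b j : E) : H) =
      ∑ i : Fin n, ((b i : E) : H) ⊗ₜ[A]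
        @coeffMatrix A _ H _ _ E _ _ n (ComodSub.Comod.restr (HopfRep.Comod.regular A H) E hE) b i j := by
  letI cE : HopfRep.Comod A H E := ComodSub.Comod.restr (HopfRep.Comod.regular A H) E hE
  have h2 := ComodSub.restr_coact_coe (HopfRep.Comod.regular A H) E hE (b j)
  have h3 : cE.coact (b j) = ∑ i : Fin n, b i ⊗ₜ[A] coeffMatrix (A := H) b i j := coact_basis b j
  rw [h3, map_sum] at h2
  simp only [LinearMap.rTensor_tmul, Submodule.subtype_apply] at h2
  exact h2.symm

/-- **Trigonalizability specializes**: if the generic fibre of a flat affine group scheme over a discrete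
valuation ring is trigonalizable then so is the special fibre. -/
theorem isTrigonalizable_residue (hT : HopfRep.IsTrigonalizable K (K ⊗[A] H)) :
    HopfRep.IsTrigonalizable (IsLocalRing.ResidueField A) (IsLocalRing.ResidueField A ⊗[A] H) := by
  classical
  intro V _ _ _ hfin hsimple
  obtain ⟨hnt, hsim⟩ := hsimple
  obtain ⟨v₀, hv₀⟩ := exists_ne (0 : V)
  obtain ⟨φ, hφ⟩ : ∃ φ : V →ₗ[IsLocalRing.ResidueField A] IsLocalRing.ResidueField A, φ v₀ ≠ 0 := by
    by_contra hcon
    push Not at hcon
    exact hv₀ ((Module.forall_dual_apply_eq_zero_iff (IsLocalRing.ResidueField A) _).1 hcon)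
  set c : V →ₗ[IsLocalRing.ResidueField A] (IsLocalRing.ResidueField A ⊗[A] H) :=
    cf (A := IsLocalRing.ResidueField A ⊗[A] H) φ with hc
  have hcact : ∀ (f : (IsLocalRing.ResidueField A ⊗[A] H) →ₗ[IsLocalRing.ResidueField A]
      IsLocalRing.ResidueField A) (v : V), c (act f v) = act f (c v) :=
    (isComodHom_iff c).1 (isComodHom_cf φ)
  -- injectivity of c
  have hker : LinearMap.ker c = ⊥ := by
    have hsub : HopfRep.IsSubcomod (k := IsLocalRing.ResidueField A)
        (A := IsLocalRing.ResidueField A ⊗[A] H) (LinearMap.ker c) := by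
      rw [isSubcomod_iff]
      intro f w hw
      rw [LinearMap.mem_ker] at hw ⊢
      rw [hcact, hw, map_zero]
    rcases hsim _ hsub with h | h
    · exact h
    · exfalso
      have hv : v₀ ∈ LinearMap.ker c := by rw [h]; trivial
      rw [LinearMap.mem_ker] at hv
      have := counit_cf (A := IsLocalRing.ResidueField A ⊗[A] H) φ v₀
      rw [← hc, hv, map_zero] at this
      exact hφ this.symm
  have hcinj : Function.Injective c := LinearMap.ker_eq_bot.1 hker
  -- a finite spanning set and its lifts
  obtain ⟨S, hS⟩ := (Module.finite_def.1 hfin)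
  have hsurj : Function.Surjective (fun h : H => (1 : IsLocalRing.ResidueField A) ⊗ₜ[A] h) :=
    Algebra.TensorProduct.includeRight_surjective (R := A) (S := IsLocalRing.ResidueField A) H
      Ideal.Quotient.mk_surjective
  choose lift hlift using hsurj
  let s : Finset H := S.image (fun v => lift (c v))
  obtain ⟨E, hE, hEfg, hsE⟩ := SerreFin.exists_fg_subcomod (R := A) (C := H) s
  haveI : Module.Finite A E := Module.Finite.iff_fg.2 hEfg
  let n := Module.finrank A E
  let b : Module.Basis (Fin n) A E := Module.finBasis A E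
  letI cE : HopfRep.Comod A H E := ComodSub.Comod.restr (HopfRep.Comod.regular A H) E hE
  let a : Matrix (Fin n) (Fin n) H := coeffMatrix (A := H) b
  have hcorep0 := isCorepMatrix_coeffMatrix (A := H) b
  have hcorep : IsCorep A a := ⟨hcorep0.comul, hcorep0.counit⟩
  have hΔ : ∀ j, CoalgebraStruct.comul (R := A) ((b j : E) : H) = ∑ i : Fin n, ((b i : E) : H) ⊗ₜ[A] a i j :=
    fun j => comul_basis' E hE b j
  obtain ⟨D, hDmono, hDrank, hDstab⟩ := exists_flag hT n a hcorep
  -- the operators
  let abar : Matrix (Fin n) (Fin n) (IsLocalRing.ResidueField A ⊗[A] H) :=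
    a.map (fun h => (1 : IsLocalRing.ResidueField A) ⊗ₜ[A] h)
  let σ : ((IsLocalRing.ResidueField A ⊗[A] H) →ₗ[IsLocalRing.ResidueField A] IsLocalRing.ResidueField A) →
      (Fin n → IsLocalRing.ResidueField A) →ₗ[IsLocalRing.ResidueField A] (Fin n → IsLocalRing.ResidueField A) :=
    fun f => Matrix.toLin' (abar.map f)
  let τ : ((IsLocalRing.ResidueField A ⊗[A] H) →ₗ[IsLocalRing.ResidueField A] IsLocalRing.ResidueField A) →
      (IsLocalRing.ResidueField A ⊗[A] H) →ₗ[IsLocalRing.ResidueField A] (IsLocalRing.ResidueField A ⊗[A] H) :=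
    fun f => act f
  let p : (Fin n → IsLocalRing.ResidueField A) →ₗ[IsLocalRing.ResidueField A]
      (IsLocalRing.ResidueField A ⊗[A] H) :=
    Fintype.linearCombination (IsLocalRing.ResidueField A)
      (fun j => (1 : IsLocalRing.ResidueField A) ⊗ₜ[A] ((b j : E) : H))
  have hτb : ∀ f t, τ f ((1 : IsLocalRing.ResidueField A) ⊗ₜ[A] ((b t : E) : H)) =
      ∑ s', f ((1 : IsLocalRing.ResidueField A) ⊗ₜ[A] a s' t) •
        ((1 : IsLocalRing.ResidueField A) ⊗ₜ[A] ((b s' : E) : H)) := by
    intro f t
    show contractR _ f (CoalgebraStruct.comul (R := IsLocalRing.ResidueField A)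
      ((1 : IsLocalRing.ResidueField A) ⊗ₜ[A] ((b t : E) : H))) = _
    rw [comul_one_tmul, hΔ t, map_sum, map_sum]
    apply Finset.sum_congr rfl
    intro s' _
    rw [gam_tmul, contractR_tmul]
  have hp : ∀ f x, p (σ f x) = τ f (p x) := by
    intro f x
    simp only [p, σ, Fintype.linearCombination_apply, Matrix.toLin'_apply, map_sum, map_smul, hτb]
    simp only [Matrix.mulVec, dotProduct, Matrix.map_apply, abar, Finset.sum_smul, Finset.smul_sum, smul_smul]
    rw [Finset.sum_comm]
    apply Finset.sum_congr rfl
    intro t _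
    apply Finset.sum_congr rfl
    intro s' _
    rw [mul_comm]
  -- the simple subspace
  set W : Submodule (IsLocalRing.ResidueField A) (IsLocalRing.ResidueField A ⊗[A] H) := LinearMap.range c with hW
  have hDn : D n = ⊤ := by
    apply Submodule.eq_top_of_finrank_eq
    rw [hDrank n le_rfl]
    simp
  have hWD : W ≤ (D n).map p := by
    rw [hDn, Submodule.map_top]
    rintro _ ⟨v, rfl⟩
    have hv : v ∈ Submodule.span (IsLocalRing.ResidueField A) (S : Set V) := by rw [hS]; trivial
    induction hv using Submodule.span_induction with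
    | zero => rw [map_zero]; exact Submodule.zero_mem _
    | add x y _ _ hx hy => rw [map_add]; exact Submodule.add_mem _ hx hy
    | smul r x _ hx => rw [map_smul]; exact Submodule.smul_mem _ r hx
    | mem v hvS =>
      have h1 : lift (c v) ∈ E := hsE (Finset.mem_image_of_mem _ hvS)
      have h2 : c v = (1 : IsLocalRing.ResidueField A) ⊗ₜ[A] (lift (c v)) := (hlift (c v)).symm
      rw [h2]
      have h3 := b.sum_repr ⟨lift (c v), h1⟩
      have h4 : lift (c v) = ∑ j, (b.repr ⟨lift (c v), h1⟩ j) • ((b j : E) : H) := by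
        have := congrArg (fun x : E => (x : H)) h3
        simp only [Submodule.coe_sum, Submodule.coe_smul] at this
        exact this.symm
      refine ⟨fun j => algebraMap A (IsLocalRing.ResidueField A) (b.repr ⟨lift (c v), h1⟩ j), ?_⟩
      simp only [p, Fintype.linearCombination_apply]
      conv_rhs => rw [h4, TensorProduct.tmul_sum]
      apply Finset.sum_congr rfl
      intro j _
      exact (one_tmul_smul (K := IsLocalRing.ResidueField A) _ _).symm
  have hWstab : ∀ f, ∀ y ∈ W, τ f y ∈ W := by
    rintro f _ ⟨v, rfl⟩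
    exact ⟨act f v, hcact f v⟩
  have hWsimple : ∀ T : Submodule (IsLocalRing.ResidueField A) (IsLocalRing.ResidueField A ⊗[A] H),
      T ≤ W → (∀ f, ∀ y ∈ T, τ f y ∈ T) → T = ⊥ ∨ T = W := by
    intro T hTW hTstab
    have hsub : HopfRep.IsSubcomod (k := IsLocalRing.ResidueField A)
        (A := IsLocalRing.ResidueField A ⊗[A] H) (T.comap c) := by
      rw [isSubcomod_iff]
      intro f w hw
      rw [Submodule.mem_comap] at hw ⊢
      rw [hcact]
      exact hTstab f _ hw
    rcases hsim _ hsub with h | h
    · left
      rw [eq_bot_iff]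
      intro t ht
      obtain ⟨v, rfl⟩ := hTW ht
      have : v ∈ T.comap c := ht
      rw [h, Submodule.mem_bot] at this
      rw [this, map_zero]
      exact Submodule.zero_mem _
    · right
      apply le_antisymm hTW
      rintro _ ⟨v, rfl⟩
      have : v ∈ T.comap c := by rw [h]; trivial
      exact this
  have hfinD : Module.Finite (IsLocalRing.ResidueField A) (D n) := inferInstance
  have hle := Groth.Agent.Lib.Helper17.FlagJH.finrank_le_one_of_flag σ τ p hp n D hDmono hfinD
    (fun j hj => hDrank j hj)
    (fun f j x hx => by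
      have := hDstab f j x hx
      show Matrix.toLin' (abar.map f) x ∈ D j
      rw [Matrix.toLin'_apply]
      exact this)
    W hWD hWstab hWsimple
  have heq : Module.finrank (IsLocalRing.ResidueField A) W = Module.finrank (IsLocalRing.ResidueField A) V :=
    LinearMap.finrank_range_of_inj hcinj
  have hpos : 0 < Module.finrank (IsLocalRing.ResidueField A) V := Module.finrank_pos
  omega

end Groth.Agent.Lib.Helper75.TrigDVR
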