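import Groth.Agent.Lib.Helper75.UnipFilt

/-!
# Adams operations on a conilpotent commutative bialgebra in characteristic zero (helper75)

`psi N = id^{*N}` (convolution power) is an algebra endomorphism; on the unipotent filtration it is a polynomial
function of `N`.  Consequence: a primitive element lying in the square of the augmentation ideal is zero.
-/

set_option autoImplicit false
universe u

open TensorProduct WithConv

namespace Groth.Agent.Lib.Helper75.UnipAdams

open Groth.Agent.Lib.Helper75

variable {k : Type u} [Field k] {A : Type u} [CommRing A] [Bialgebra k A]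

/-- `J = id - ηε` in the convolution ring -/
noncomputable def Jc : WithConv (A →ₗ[k] A) := toConv LinearMap.id - 1

theorem Jc_one : (Jc (k := k) (A := A)).ofConv 1 = 0 := by
  simp [Jc, LinearMap.convOne_def]

theorem conv_vanish_step (g h : WithConv (A →ₗ[k] A)) (W : Submodule k A)
    (hg : ∀ w ∈ W, g.ofConv w = 0) (h1 : h.ofConv 1 = 0) (a : A) (ha : a ∈ ustep A W) :
    (g * h).ofConv a = 0 := by
  rw [mem_ustep_iff_tensor] at ha
  obtain ⟨z, hz⟩ := ha
  have hc : CoalgebraStruct.comul (R := k) a = a ⊗ₜ[k] (1 : A) + W.subtype.rTensor A z := by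
    rw [hz]
    show _ = a ⊗ₜ[k] (1 : A) + (CoalgebraStruct.comul (R := k) a - a ⊗ₜ[k] (1 : A))
    abel
  show LinearMap.mul' k A (TensorProduct.map g.ofConv h.ofConv (CoalgebraStruct.comul (R := k) a)) = 0
  rw [hc, map_add, map_add, TensorProduct.map_tmul, LinearMap.mul'_apply, h1, mul_zero, zero_add]
  have h0 : (TensorProduct.map g.ofConv h.ofConv) ∘ₗ (W.subtype.rTensor A) = 0 := by
    apply TensorProduct.ext'
    intro w c
    simp [hg w.1 w.2]
  have := LinearMap.congr_fun h0 z
  simp only [LinearMap.coe_comp, Function.comp_apply, LinearMap.zero_apply] at this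
  rw [this, map_zero]

theorem Jc_pow_vanish (n : ℕ) : ∀ a ∈ ufilt k A A n, ((Jc (k := k) (A := A)) ^ n).ofConv a = 0 := by
  induction n with
  | zero =>
    intro a ha
    rw [ufilt_zero, Submodule.mem_bot] at ha
    rw [ha, map_zero]
  | succ n ih =>
    intro a ha
    rw [ufilt_succ] at ha
    rw [pow_succ]
    exact conv_vanish_step _ _ _ ih Jc_one a ha

theorem Jc_pow_vanish_of_le {n m : ℕ} (h : n ≤ m) (a : A) (ha : a ∈ ufilt k A A n) :
    ((Jc (k := k) (A := A)) ^ m).ofConv a = 0 :=
  Jc_pow_vanish m a (ufilt_mono h ha)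

/-- the Adams operation `ψ^N = id^{*N}`, an algebra endomorphism -/
noncomputable def psi (N : ℕ) : A →ₐ[k] A := ((toConv (AlgHom.id k A)) ^ N).ofConv

theorem psi_toLinearMap (N : ℕ) :
    toConv (psi (k := k) (A := A) N).toLinearMap = (toConv (LinearMap.id : A →ₗ[k] A)) ^ N := by
  unfold psi
  rw [AlgHom.toLinearMap_convPow]
  rfl

theorem ofConv_sum {ι : Type*} (s : Finset ι) (f : ι → WithConv (A →ₗ[k] A)) :
    (∑ i ∈ s, f i).ofConv = ∑ i ∈ s, (f i).ofConv :=
  map_sum (WithConv.addEquiv (A →ₗ[k] A)) f s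

theorem psi_apply (N : ℕ) (a : A) :
    psi (k := k) N a = ∑ m ∈ Finset.range (N + 1), (N.choose m) • ((Jc (k := k) (A := A)) ^ m).ofConv a := by
  have h1 : (toConv (LinearMap.id : A →ₗ[k] A)) = Jc + 1 := by
    unfold Jc
    abel
  have h2 := psi_toLinearMap (k := k) (A := A) N
  rw [h1, (Commute.one_right (Jc (k := k) (A := A))).add_pow] at h2
  have h3 := congrArg (fun f : WithConv (A →ₗ[k] A) => f.ofConv a) h2
  simp only [ofConv_toConv] at h3
  rw [AlgHom.toLinearMap_apply] at h3
  rw [h3, ofConv_sum, LinearMap.sum_apply]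
  apply Finset.sum_congr rfl
  intro m _
  rw [one_pow, mul_one, ← nsmul_eq_mul']
  rfl

theorem psi_apply_of_mem (N p : ℕ) (a : A) (ha : a ∈ ufilt k A A p) :
    psi (k := k) N a = ∑ m ∈ Finset.range p, (N.choose m) • ((Jc (k := k) (A := A)) ^ m).ofConv a := by
  rw [psi_apply]
  have e1 : ∑ m ∈ Finset.range (N + 1), (N.choose m) • ((Jc (k := k) (A := A)) ^ m).ofConv a =
      ∑ m ∈ Finset.range (max (N + 1) p), (N.choose m) • ((Jc (k := k) (A := A)) ^ m).ofConv a := by
    apply Finset.sum_subset
    · intro m hm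
      rw [Finset.mem_range] at hm ⊢
      exact lt_of_lt_of_le hm (le_max_left _ _)
    · intro m _ hm
      rw [Finset.mem_range, not_lt] at hm
      rw [Nat.choose_eq_zero_of_lt (by omega), zero_smul]
  have e2 : ∑ m ∈ Finset.range p, (N.choose m) • ((Jc (k := k) (A := A)) ^ m).ofConv a =
      ∑ m ∈ Finset.range (max (N + 1) p), (N.choose m) • ((Jc (k := k) (A := A)) ^ m).ofConv a := by
    apply Finset.sum_subset
    · intro m hm
      rw [Finset.mem_range] at hm ⊢
      exact lt_of_lt_of_le hm (le_max_right _ _)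
    · intro m _ hm
      rw [Finset.mem_range, not_lt] at hm
      rw [Jc_pow_vanish_of_le hm a ha, smul_zero]
  rw [e1, e2]

theorem psi_succ_apply (N : ℕ) (a : A) :
    psi (k := k) (N + 1) a =
      LinearMap.mul' k A (TensorProduct.map (psi (k := k) N).toLinearMap LinearMap.id
        (CoalgebraStruct.comul (R := k) a)) := by
  have h2 := psi_toLinearMap (k := k) (A := A) (N + 1)
  rw [pow_succ, ← psi_toLinearMap] at h2
  have h3 := congrArg (fun f : WithConv (A →ₗ[k] A) => f.ofConv a) h2
  simp only [ofConv_toConv] at h3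
  rw [AlgHom.toLinearMap_apply] at h3
  rw [h3]
  rfl

theorem psi_primitive (x : A)
    (hx : CoalgebraStruct.comul (R := k) x = x ⊗ₜ[k] (1 : A) + (1 : A) ⊗ₜ[k] x) (N : ℕ) :
    psi (k := k) N x = N • x := by
  induction N with
  | zero =>
    have hε : CoalgebraStruct.counit (R := k) x = 0 := by
      have h1 := Coalgebra.rTensor_counit_comul (R := k) x
      rw [hx, map_add, LinearMap.rTensor_tmul, LinearMap.rTensor_tmul, Bialgebra.counit_one] at h1
      have h2 := congrArg (TensorProduct.lid k A) h1
      simp only [map_add, TensorProduct.lid_tmul, one_smul] at h2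
      have h3 : CoalgebraStruct.counit (R := k) x • (1 : A) = 0 := by
        have : CoalgebraStruct.counit (R := k) x • (1 : A) + x = x := h2
        exact add_eq_right.1 this
      have := congrArg (CoalgebraStruct.counit (R := k)) h3
      simpa using this
    rw [zero_smul]
    show ((toConv (AlgHom.id k A)) ^ 0).ofConv x = 0
    rw [pow_zero]
    show algebraMap k A (CoalgebraStruct.counit (R := k) x) = 0
    rw [hε, map_zero]
  | succ N ih =>
    rw [psi_succ_apply, hx, map_add, map_add, TensorProduct.map_tmul, TensorProduct.map_tmul,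
      LinearMap.mul'_apply, LinearMap.mul'_apply, AlgHom.toLinearMap_apply, AlgHom.toLinearMap_apply,
      ih]
    simp
    ring

section Poly

open Polynomial

variable [CharZero k]

/-- the polynomial in `N` computing `ψ^N a` for `a` in the `p`-th step of the filtration -/
noncomputable def adamsPoly (p : ℕ) (a : A) : A[X] :=
  ∑ m ∈ Finset.range p, C (((m.factorial : k)⁻¹) • ((Jc (k := k) (A := A)) ^ m).ofConv a) * descPochhammer A m

theorem eval_adamsPoly (N p : ℕ) (a : A) (ha : a ∈ ufilt k A A p) :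
    (adamsPoly (k := k) p a).eval (N : A) = psi (k := k) N a := by
  rw [psi_apply_of_mem N p a ha, adamsPoly, eval_finsetSum]
  apply Finset.sum_congr rfl
  intro m _
  rw [eval_mul, eval_C, descPochhammer_eval_eq_descFactorial, Nat.descFactorial_eq_factorial_mul_choose,
    Nat.cast_mul, smul_mul_assoc, mul_comm ((m.factorial : A)) _, ← mul_assoc, mul_comm _ ((N.choose m : A)),
    mul_assoc]
  have h1 : ((m.factorial : k)⁻¹) • ((((Jc (k := k) (A := A)) ^ m).ofConv a) * (m.factorial : A)) =
      ((Jc (k := k) (A := A)) ^ m).ofConv a := by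
    have h2 : (m.factorial : A) = algebraMap k A (m.factorial : k) := by simp
    rw [h2, mul_comm, ← Algebra.smul_def, smul_smul, inv_mul_cancel₀, one_smul]
    exact_mod_cast Nat.factorial_ne_zero m
  rw [← mul_smul_comm, h1, nsmul_eq_mul]

theorem X_dvd_adamsPoly (p : ℕ) (a : A) (ha : CoalgebraStruct.counit (R := k) a = 0) :
    (X : A[X]) ∣ adamsPoly (k := k) p a := by
  unfold adamsPoly
  apply Finset.dvd_sum
  intro m _
  cases m with
  | zero =>
    have : ((Jc (k := k) (A := A)) ^ 0).ofConv a = 0 := by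
      rw [pow_zero]
      show algebraMap k A (CoalgebraStruct.counit (R := k) a) = 0
      rw [ha, map_zero]
    rw [this, smul_zero, map_zero, zero_mul]
    exact dvd_zero _
  | succ m =>
    rw [descPochhammer_succ_left]
    exact Dvd.dvd.mul_left (Dvd.intro _ rfl) _

omit [Bialgebra k A] in
variable (k) in
include k in
/-- a polynomial over a `k`-algebra vanishing at all natural numbers is zero (characteristic zero) -/
theorem poly_eq_zero_of_eval_nat [Algebra k A] (F : A[X]) (hF : ∀ N : ℕ, F.eval (N : A) = 0) : F = 0 := by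
  ext m
  rw [coeff_zero]
  by_contra hne
  obtain ⟨φ, hφ⟩ : ∃ φ : A →ₗ[k] k, φ (F.coeff m) ≠ 0 := by
    by_contra hcon
    push Not at hcon
    exact hne ((Module.forall_dual_apply_eq_zero_iff k _).1 hcon)
  let G : k[X] := ∑ i ∈ F.support, monomial i (φ (F.coeff i))
  have hG : ∀ N : ℕ, G.eval (N : k) = 0 := by
    intro N
    have h1 : G.eval (N : k) = φ (F.eval (N : A)) := by
      rw [eval_eq_sum (p := F), Polynomial.sum, map_sum, eval_finsetSum]
      apply Finset.sum_congr rfl
      intro i _
      rw [eval_monomial]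
      have h2 : (N : A) ^ i = algebraMap k A ((N : k) ^ i) := by simp
      rw [h2, mul_comm (F.coeff i), ← Algebra.smul_def, map_smul, smul_eq_mul, mul_comm]
    rw [h1, hF N, map_zero]
  have hG0 : G = 0 := by
    apply Polynomial.eq_zero_of_infinite_isRoot
    apply Set.infinite_of_injective_forall_mem (f := fun N : ℕ => (N : k)) Nat.cast_injective
    intro N
    exact hG N
  have h3 : G.coeff m = φ (F.coeff m) := by
    simp only [G, finsetSum_coeff, coeff_monomial]
    rw [Finset.sum_ite_eq' F.support m]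
    split_ifs with hm
    · rfl
    · rw [notMem_support_iff.1 hm, map_zero]
  rw [hG0, coeff_zero] at h3
  exact hφ h3.symm

theorem exists_poly_of_mem_sq (hfil : ∀ a : A, ∃ n, a ∈ ufilt k A A n) (y : A)
    (hy : y ∈ (RingHom.ker (Bialgebra.counitAlgHom k A)) * (RingHom.ker (Bialgebra.counitAlgHom k A))) :
    ∃ P : A[X], X ^ 2 ∣ P ∧ ∀ N : ℕ, P.eval (N : A) = psi (k := k) N y := by
  refine Submodule.mul_induction_on hy ?_ ?_
  · intro a ha b hb
    obtain ⟨p, hp⟩ := hfil a
    obtain ⟨q, hq⟩ := hfil b
    have ha' : CoalgebraStruct.counit (R := k) a = 0 :=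
      (RingHom.mem_ker (f := Bialgebra.counitAlgHom k A)).1 ha
    have hb' : CoalgebraStruct.counit (R := k) b = 0 :=
      (RingHom.mem_ker (f := Bialgebra.counitAlgHom k A)).1 hb
    refine ⟨adamsPoly (k := k) p a * adamsPoly (k := k) q b, ?_, ?_⟩
    · rw [pow_two]
      exact mul_dvd_mul (X_dvd_adamsPoly p a ha') (X_dvd_adamsPoly q b hb')
    · intro N
      rw [eval_mul, eval_adamsPoly N p a hp, eval_adamsPoly N q b hq, map_mul]
  · rintro x y ⟨P, hP, hPe⟩ ⟨Q, hQ, hQe⟩
    exact ⟨P + Q, dvd_add hP hQ, fun N => by rw [eval_add, hPe, hQe, map_add]⟩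

/-- in characteristic zero, a primitive element of a conilpotent commutative bialgebra lying in the square of the
augmentation ideal is zero -/
theorem primitive_eq_zero_of_mem_sq (hfil : ∀ a : A, ∃ n, a ∈ ufilt k A A n) (x : A)
    (hx : CoalgebraStruct.comul (R := k) x = x ⊗ₜ[k] (1 : A) + (1 : A) ⊗ₜ[k] x)
    (hx2 : x ∈ (RingHom.ker (Bialgebra.counitAlgHom k A)) * (RingHom.ker (Bialgebra.counitAlgHom k A))) :
    x = 0 := by
  obtain ⟨P, hP, hPe⟩ := exists_poly_of_mem_sq hfil x hx2
  have hF := poly_eq_zero_of_eval_nat k (C x * X - P) (fun N => by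
    rw [eval_sub, eval_mul, eval_C, eval_X, hPe, psi_primitive x hx N, nsmul_eq_mul, mul_comm, sub_self])
  have h1 := congrArg (fun F : A[X] => F.coeff 1) hF
  simp only [coeff_sub, coeff_C_mul, coeff_X_one, mul_one, coeff_zero] at h1
  have h2 : P.coeff 1 = 0 := (X_pow_dvd_iff.1 hP) 1 (by norm_num)
  rw [h2, sub_zero] at h1
  exact h1

end Poly

end Groth.Agent.Lib.Helper75.UnipAdams
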