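import Groth.Agent.Lib.Helper75.ComodRestr

/-!
# The unipotent filtration of a comodule (helper75)

`ufilt V n`: `ufilt V 0 = ⊥`, `ufilt V (n+1) = {v | ρ v - v ⊗ 1 ∈ ufilt V n ⊗ A}`.
For a unipotent group every finite-dimensional comodule is exhausted by this filtration,
and so is the regular comodule.
-/

set_option autoImplicit false
universe u v w w'

open TensorProduct

namespace Groth.Agent.Lib.Helper75

section UFilt

variable {K : Type u} [Field K] {A : Type v} [CommRing A] [Bialgebra K A]

section Defs

variable {V : Type w} [AddCommGroup V] [Module K V] [HopfRep.Comod K A V]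

variable (A) in
/-- one step of the filtration: vectors on which every functional `f` acts as `f 1` modulo `W` -/
noncomputable def ustep (W : Submodule K V) : Submodule K V :=
  ⨅ f : A →ₗ[K] K, Submodule.comap (act f - f 1 • LinearMap.id) W

theorem mem_ustep (W : Submodule K V) (v : V) :
    v ∈ ustep A W ↔ ∀ f : A →ₗ[K] K, act f v - f 1 • v ∈ W := by
  simp [ustep, Submodule.mem_iInf]

theorem ustep_mono {W W' : Submodule K V} (h : W ≤ W') : ustep A W ≤ ustep A W' := by
  intro v hv
  rw [mem_ustep] at hv ⊢
  exact fun f => h (hv f)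

/-- tensor form of `ustep` -/
theorem mem_ustep_iff_tensor (W : Submodule K V) (v : V) :
    v ∈ ustep A W ↔
      coactMap K A V v - v ⊗ₜ[K] (1 : A) ∈ LinearMap.range (W.subtype.rTensor A) := by
  rw [mem_ustep, mem_range_rTensor_iff]
  refine forall_congr' fun f => ?_
  rw [map_sub, contractR_tmul]
  rfl

theorem ustep_bot : ustep A (⊥ : Submodule K V) = HopfRep.fixedPts K A V := by
  ext v
  rw [mem_ustep_iff_tensor]
  have hb : LinearMap.range ((⊥ : Submodule K V).subtype.rTensor A) = ⊥ := by
    rw [eq_bot_iff]
    rintro _ ⟨y, rfl⟩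
    have : y = 0 := Subsingleton.elim _ _
    rw [this, map_zero]
    exact Submodule.zero_mem _
  rw [hb, Submodule.mem_bot, sub_eq_zero]
  rfl

variable (K A V) in
/-- the unipotent filtration -/
noncomputable def ufilt (n : ℕ) : Submodule K V := (ustep A)^[n] ⊥

@[simp] theorem ufilt_zero : ufilt K A V 0 = ⊥ := rfl

theorem ufilt_succ (n : ℕ) : ufilt K A V (n + 1) = ustep A (ufilt K A V n) := by
  unfold ufilt
  rw [Function.iterate_succ_apply']

theorem ufilt_one : ufilt K A V 1 = HopfRep.fixedPts K A V := by
  rw [ufilt_succ, ufilt_zero, ustep_bot]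

theorem ufilt_le_succ (n : ℕ) : ufilt K A V n ≤ ufilt K A V (n + 1) := by
  induction n with
  | zero => simp
  | succ n ih =>
    have h1 : ufilt K A V (n + 1) = ustep A (ufilt K A V n) := ufilt_succ n
    have h2 : ufilt K A V (n + 1 + 1) = ustep A (ufilt K A V (n + 1)) := ufilt_succ (n + 1)
    rw [h2]
    conv_lhs => rw [h1]
    exact ustep_mono ih

theorem ufilt_mono {m n : ℕ} (h : m ≤ n) : ufilt K A V m ≤ ufilt K A V n := by
  induction n, h using Nat.le_induction with
  | base => exact le_rfl
  | succ n _ ih => exact ih.trans (ufilt_le_succ n)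

end Defs

section Hom

variable {V : Type w} [AddCommGroup V] [Module K V] [HopfRep.Comod K A V]
variable {V' : Type w'} [AddCommGroup V'] [Module K V'] [HopfRep.Comod K A V']

theorem ustep_le_comap (φ : V →ₗ[K] V') (hφ : Hoch.IsComodHom A φ) {W : Submodule K V}
    {W' : Submodule K V'} (h : W ≤ W'.comap φ) : ustep A W ≤ (ustep A W').comap φ := by
  intro v hv
  rw [Submodule.mem_comap, mem_ustep]
  rw [mem_ustep] at hv
  intro f
  have := h (hv f)
  rw [Submodule.mem_comap, map_sub, map_smul, (isComodHom_iff φ).1 hφ] at this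
  exact this

theorem ufilt_le_comap (φ : V →ₗ[K] V') (hφ : Hoch.IsComodHom A φ) (n : ℕ) :
    ufilt K A V n ≤ (ufilt K A V' n).comap φ := by
  induction n with
  | zero => simp
  | succ n ih =>
    rw [ufilt_succ, ufilt_succ]
    exact ustep_le_comap φ hφ ih

/-- if the kernel of a comodule map lies in the fixed vectors, the filtration of the
target pulls back into the filtration of the source shifted by one -/
theorem comap_ufilt_le (φ : V →ₗ[K] V') (hφ : Hoch.IsComodHom A φ)
    (hker : LinearMap.ker φ ≤ ufilt K A V 1) (n : ℕ) :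
    (ufilt K A V' n).comap φ ≤ ufilt K A V (n + 1) := by
  induction n with
  | zero =>
    intro v hv
    rw [ufilt_zero, Submodule.mem_comap, Submodule.mem_bot] at hv
    exact hker hv
  | succ n ih =>
    intro v hv
    rw [Submodule.mem_comap, ufilt_succ, mem_ustep] at hv
    rw [ufilt_succ, mem_ustep]
    intro f
    apply ih
    rw [Submodule.mem_comap, map_sub, map_smul, (isComodHom_iff φ).1 hφ]
    exact hv f

end Hom

section Exhaust

theorem isSubcomod_fixedPts (V : Type w) [AddCommGroup V] [Module K V] [HopfRep.Comod K A V] :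
    HopfRep.IsSubcomod (k := K) (A := A) (HopfRep.fixedPts K A V) := by
  intro w hw
  refine ⟨(⟨w, hw⟩ : HopfRep.fixedPts K A V) ⊗ₜ[K] (1 : A), ?_⟩
  rw [LinearMap.rTensor_tmul]
  exact hw.symm

theorem eq_top_of_subsingleton {V : Type w} [AddCommGroup V] [Module K V] [Subsingleton V]
    (W : Submodule K V) : W = ⊤ := by
  rw [eq_top_iff]
  intro v _
  have : v = 0 := Subsingleton.elim _ _
  rw [this]
  exact Submodule.zero_mem _

/-- for a unipotent group the filtration of a finite-dimensional comodule is exhaustive -/
theorem ufilt_eq_top_of_isUnipotent (hU : HopfRep.IsUnipotent K A) :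
    ∀ (n : ℕ) (V : Type v) [AddCommGroup V] [Module K V] [HopfRep.Comod K A V] [Module.Finite K V],
      Module.finrank K V ≤ n → ufilt K A V n = ⊤ := by
  intro n
  induction n with
  | zero =>
    intro V _ _ _ _ hfin
    have h0 : Module.finrank K V = 0 := Nat.le_zero.1 hfin
    have : Subsingleton V := Module.finrank_zero_iff.1 h0
    exact eq_top_of_subsingleton _
  | succ n ih =>
    intro V _ _ cV _ hfin
    by_cases hnt : Nontrivial V
    · have hfix : HopfRep.fixedPts K A V ≠ ⊥ := hU V inferInstance hnt
      have hW := isSubcomod_fixedPts (K := K) (A := A) V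
      letI cQ : HopfRep.Comod K A (V ⧸ HopfRep.fixedPts K A V) :=
        ComodSub.Comod.quot cV (HopfRep.fixedPts K A V) hW
      have hπ : Hoch.IsComodHom A (HopfRep.fixedPts K A V).mkQ :=
        ComodSub.isComodHom_mkQ cV (HopfRep.fixedPts K A V) hW
      have hrank : Module.finrank K (V ⧸ HopfRep.fixedPts K A V) ≤ n := by
        have h1 := Submodule.finrank_quotient_add_finrank (HopfRep.fixedPts K A V)
        have h2 : 0 < Module.finrank K (HopfRep.fixedPts K A V) := by
          rw [Nat.pos_iff_ne_zero]
          intro h0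
          exact hfix (Submodule.finrank_eq_zero.1 h0)
        omega
      have htop := ih (V ⧸ HopfRep.fixedPts K A V) hrank
      have hk : LinearMap.ker (HopfRep.fixedPts K A V).mkQ ≤ ufilt K A V 1 := by
        rw [Submodule.ker_mkQ, ufilt_one]
      have := comap_ufilt_le (HopfRep.fixedPts K A V).mkQ hπ hk n
      rw [htop, Submodule.comap_top] at this
      exact top_le_iff.1 this
    · have : Subsingleton V := not_nontrivial_iff_subsingleton.1 hnt
      exact eq_top_of_subsingleton _

/-- for a unipotent group the regular comodule is exhausted by the filtration -/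
theorem exists_mem_ufilt_regular (hU : HopfRep.IsUnipotent K A) (a : A) :
    ∃ n, a ∈ ufilt K A A n := by
  have hW := isSubcomod_orbit (K := K) (A := A) a
  letI := restrComod (orbit K A a) hW
  refine ⟨Module.finrank K (orbit K A a), ?_⟩
  have htop := ufilt_eq_top_of_isUnipotent hU (Module.finrank K (orbit K A a)) (orbit K A a) le_rfl
  have hle := ufilt_le_comap (orbit K A a).subtype (isComodHom_subtype_restr (orbit K A a) hW)
    (Module.finrank K (orbit K A a))
  have hmem : (⟨a, self_mem_orbit a⟩ : orbit K A a) ∈
      ufilt K A (orbit K A a) (Module.finrank K (orbit K A a)) := by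
    rw [htop]
    trivial
  exact hle hmem

end Exhaust

end UFilt

end Groth.Agent.Lib.Helper75
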