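import Groth.Agent.Lib.Helper75.UnipChar

/-!
# Unipotence passes from the generic fibre to every other fibre (helper75)

`H` a flat commutative bialgebra over a ring `A`, `K` a field containing `A` (injective structure
map).  If `K ⊗[A] H` is unipotent over `K`, then `κ ⊗[A] H` is unipotent over `κ` for every
`A`-field `κ`.
-/

set_option autoImplicit false
universe u u' u'' v w w'

open TensorProduct

namespace Groth.Agent.Lib.Helper75

section UnipGeneric

variable {A : Type u} [CommRing A] {H : Type v} [CommRing H] [Bialgebra A H]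

section Gam

variable (K : Type u') [Field K] [Algebra A K]

/-- `b ⊗ c ↦ (1 ⊗ b) ⊗ (1 ⊗ c)` -/
noncomputable def gamR : H ⊗[A] H →+ (K ⊗[A] H) ⊗[K] (K ⊗[A] H) :=
  ((TensorProduct.AlgebraTensorModule.tensorTensorTensorComm A K A K K K H H).toLinearMap.toAddMonoidHom).comp
    (TensorProduct.mk A (K ⊗[K] K) (H ⊗[A] H) ((1 : K) ⊗ₜ[K] (1 : K))).toAddMonoidHom

theorem gamR_apply (t : H ⊗[A] H) :
    gamR K t = TensorProduct.AlgebraTensorModule.tensorTensorTensorComm A K A K K K H H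
      (((1 : K) ⊗ₜ[K] (1 : K)) ⊗ₜ[A] t) := rfl

@[simp] theorem gamR_tmul (b c : H) :
    gamR K (b ⊗ₜ[A] c) = ((1 : K) ⊗ₜ[A] b) ⊗ₜ[K] ((1 : K) ⊗ₜ[A] c) := by
  rw [gamR_apply, TensorProduct.AlgebraTensorModule.tensorTensorTensorComm_tmul]

theorem comul_one_tmulR (a : H) :
    CoalgebraStruct.comul (R := K) ((1 : K) ⊗ₜ[A] a) = gamR K (CoalgebraStruct.comul (R := A) a) := by
  rw [TensorProduct.comul_tmul, CommSemiring.comul_apply, gamR_apply]

theorem coact_sub_eq_gamR (h : H) :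
    coactMap K (K ⊗[A] H) (K ⊗[A] H) ((1 : K) ⊗ₜ[A] h) -
        ((1 : K) ⊗ₜ[A] h) ⊗ₜ[K] (1 : K ⊗[A] H) =
      gamR K (CoalgebraStruct.comul (R := A) h - h ⊗ₜ[A] (1 : H)) := by
  rw [map_sub, gamR_tmul, ← Algebra.TensorProduct.one_def]
  congr 1

/-- `gamR` maps `L ⊗ H` into `F ⊗ (K ⊗ H)` when `1 ⊗ L ⊆ F` -/
theorem gamR_mem_range (L : Submodule A H) (F : Submodule K (K ⊗[A] H))
    (hL : ∀ h ∈ L, (1 : K) ⊗ₜ[A] h ∈ F) (z : L ⊗[A] H) :
    gamR K (L.subtype.rTensor H z) ∈ LinearMap.range (F.subtype.rTensor (K ⊗[A] H)) := by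
  induction z using TensorProduct.induction_on with
  | zero =>
    rw [map_zero, map_zero]
    exact Submodule.zero_mem _
  | tmul b c =>
    rw [LinearMap.rTensor_tmul, gamR_tmul]
    exact ⟨(⟨(1 : K) ⊗ₜ[A] (b : H), hL b.1 b.2⟩ : F) ⊗ₜ[K] ((1 : K) ⊗ₜ[A] c), by
      rw [LinearMap.rTensor_tmul]; rfl⟩
  | add x y hx hy =>
    rw [map_add, map_add]
    exact Submodule.add_mem _ hx hy

/-- the preimage of a `K`-subspace of `K ⊗ H` in `H` -/
def preimageSub (F : Submodule K (K ⊗[A] H)) : Submodule A H where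
  carrier := {h | (1 : K) ⊗ₜ[A] h ∈ F}
  add_mem' := by
    intro a b ha hb
    simp only [Set.mem_setOf_eq] at ha hb ⊢
    rw [TensorProduct.tmul_add]
    exact F.add_mem ha hb
  zero_mem' := by
    simp only [Set.mem_setOf_eq]
    rw [TensorProduct.tmul_zero]
    exact F.zero_mem
  smul_mem' := by
    intro c x hx
    simp only [Set.mem_setOf_eq] at hx ⊢
    rw [TensorProduct.tmul_smul, ← algebraMap_smul K c ((1 : K) ⊗ₜ[A] x)]
    exact F.smul_mem _ hx

theorem mem_preimageSub (F : Submodule K (K ⊗[A] H)) (h : H) :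
    h ∈ preimageSub K F ↔ (1 : K) ⊗ₜ[A] h ∈ F := Iff.rfl

/-- `h ↦ [1 ⊗ h]` in the quotient of `K ⊗ H` by `F` -/
noncomputable def toQuot (F : Submodule K (K ⊗[A] H)) : H →ₗ[A] (K ⊗[A] H) ⧸ F :=
  (F.mkQ.restrictScalars A) ∘ₗ (TensorProduct.mk A K H 1)

theorem toQuot_apply (F : Submodule K (K ⊗[A] H)) (h : H) :
    toQuot K F h = F.mkQ ((1 : K) ⊗ₜ[A] h) := rfl

theorem exact_toQuot (F : Submodule K (K ⊗[A] H)) :
    Function.Exact (preimageSub K F).subtype (toQuot K F) := by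
  intro h
  rw [toQuot_apply, Submodule.mkQ_apply, Submodule.Quotient.mk_eq_zero]
  constructor
  · intro hh
    exact ⟨⟨h, hh⟩, rfl⟩
  · rintro ⟨⟨y, hy⟩, rfl⟩
    exact hy

/-- the comparison map `(K ⊗ H) ⊗_K (K ⊗ H) → ((K ⊗ H) ⧸ F) ⊗_A H` -/
noncomputable def sig (F : Submodule K (K ⊗[A] H)) :
    (K ⊗[A] H) ⊗[K] (K ⊗[A] H) →+ ((K ⊗[A] H) ⧸ F) ⊗[A] H :=
  ((TensorProduct.AlgebraTensorModule.cancelBaseChange A K K ((K ⊗[A] H) ⧸ F) H).toLinearMap.toAddMonoidHom).comp
    (F.mkQ.rTensor (K ⊗[A] H)).toAddMonoidHom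

theorem sig_apply (F : Submodule K (K ⊗[A] H)) (y : (K ⊗[A] H) ⊗[K] (K ⊗[A] H)) :
    sig K F y = TensorProduct.AlgebraTensorModule.cancelBaseChange A K K ((K ⊗[A] H) ⧸ F) H
      (F.mkQ.rTensor (K ⊗[A] H) y) := rfl

theorem sig_gamR (F : Submodule K (K ⊗[A] H)) (x : H ⊗[A] H) :
    sig K F (gamR K x) = (toQuot K F).rTensor H x := by
  induction x using TensorProduct.induction_on with
  | zero => simp
  | tmul b c =>
    rw [gamR_tmul, sig_apply, LinearMap.rTensor_tmul,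
      TensorProduct.AlgebraTensorModule.cancelBaseChange_tmul, one_smul, LinearMap.rTensor_tmul, toQuot_apply]
  | add x y hx hy => rw [map_add, map_add, map_add, hx, hy]

theorem sig_eq_zero_of_mem_range (F : Submodule K (K ⊗[A] H)) (y : (K ⊗[A] H) ⊗[K] (K ⊗[A] H))
    (hy : y ∈ LinearMap.range (F.subtype.rTensor (K ⊗[A] H))) : sig K F y = 0 := by
  obtain ⟨z, rfl⟩ := hy
  rw [sig_apply, ← LinearMap.comp_apply, ← LinearMap.rTensor_comp]
  have h0 : F.mkQ ∘ₗ F.subtype = 0 := by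
    apply LinearMap.ext
    intro y
    simp
  rw [h0, LinearMap.rTensor_zero, LinearMap.zero_apply, map_zero]

/-- saturation: if `gamR x ∈ F ⊗ (K ⊗ H)` then `x ∈ L ⊗ H` for `L` the preimage of `F` -/
theorem mem_range_of_gamR_mem_range [Module.Flat A H] (F : Submodule K (K ⊗[A] H)) (x : H ⊗[A] H)
    (hx : gamR K x ∈ LinearMap.range (F.subtype.rTensor (K ⊗[A] H))) :
    x ∈ LinearMap.range ((preimageSub K F).subtype.rTensor H) := by
  have h1 := sig_eq_zero_of_mem_range K F _ hx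
  rw [sig_gamR] at h1
  have hex := Module.Flat.rTensor_exact H (exact_toQuot K F)
  exact (hex x).1 h1

end Gam

/-- the key comparison: membership of `1 ⊗ h` in the filtration over `K` forces membership
of `1 ⊗ h` in the filtration over any other `A`-field `κ` -/
theorem one_tmul_mem_ufilt_of_generic [Module.Flat A H]
    (K : Type u') [Field K] [Algebra A K] (hinj : Function.Injective (algebraMap A K))
    (κ : Type u'') [Field κ] [Algebra A κ] (n : ℕ) :
    ∀ h : H, (1 : K) ⊗ₜ[A] h ∈ ufilt K (K ⊗[A] H) (K ⊗[A] H) n →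
      (1 : κ) ⊗ₜ[A] h ∈ ufilt κ (κ ⊗[A] H) (κ ⊗[A] H) n := by
  induction n with
  | zero =>
    intro h hh
    rw [ufilt_zero, Submodule.mem_bot] at hh ⊢
    have hinj' : Function.Injective (Algebra.TensorProduct.includeRight : H →ₐ[A] K ⊗[A] H) :=
      Algebra.TensorProduct.includeRight_injective hinj
    have : h = 0 := by
      apply hinj'
      rw [map_zero]
      exact hh
    rw [this, TensorProduct.tmul_zero]
  | succ n ih =>
    intro h hh
    rw [ufilt_succ, mem_ustep_iff_tensor] at hh ⊢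
    rw [coact_sub_eq_gamR] at hh ⊢
    obtain ⟨z, hz⟩ := mem_range_of_gamR_mem_range K _ _ hh
    rw [← hz]
    exact gamR_mem_range κ _ _ (fun h hh => ih h hh) z

/-- unipotence of the generic fibre implies unipotence of every fibre -/
theorem isUnipotent_fibre_of_generic [Module.Flat A H]
    (K : Type u') [Field K] [Algebra A K] (hinj : Function.Injective (algebraMap A K))
    (κ : Type u'') [Field κ] [Algebra A κ]
    (hK : HopfRep.IsUnipotent K (K ⊗[A] H)) : HopfRep.IsUnipotent κ (κ ⊗[A] H) := by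
  rw [isUnipotent_iff_regular] at hK ⊢
  intro x
  induction x using TensorProduct.induction_on with
  | zero => exact ⟨0, Submodule.zero_mem _⟩
  | tmul c h =>
    obtain ⟨n, hn⟩ := hK ((1 : K) ⊗ₜ[A] h)
    refine ⟨n, ?_⟩
    have : c ⊗ₜ[A] h = c • ((1 : κ) ⊗ₜ[A] h) := by
      rw [TensorProduct.smul_tmul', smul_eq_mul, mul_one]
    rw [this]
    exact Submodule.smul_mem _ _ (one_tmul_mem_ufilt_of_generic K hinj κ n h hn)
  | add x y hx hy =>
    obtain ⟨m, hm⟩ := hx
    obtain ⟨n, hn⟩ := hy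
    exact ⟨max m n, Submodule.add_mem _ (ufilt_mono (le_max_left m n) hm)
      (ufilt_mono (le_max_right m n) hn)⟩

end UnipGeneric

end Groth.Agent.Lib.Helper75
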