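import Groth.Agent.Lib.Helper75.UnipAdams
import Groth.Agent.Lib.Helper75.ComodSimple
import Groth.Agent.Lib.Helper27.HopfAntipode
import Groth.Prelude.Def_LieHopf

/-!
# Unipotent groups in characteristic zero are determined by their Lie algebra (helper75)

For a unipotent commutative Hopf algebra `A` over a field of characteristic zero: an element of `A` killed by the
counit composed with every word in the infinitesimal right translations is zero.  Consequences for comodules:
Lie-invariants are invariants, Lie-stable subspaces are subcomodules, maps intertwining the infinitesimal actions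
intertwine the coactions.
-/

set_option autoImplicit false
universe u w

open TensorProduct

namespace Groth.Agent.Lib.Helper75.UnipLie

open Groth.Agent.Lib.Helper75 LieHopf

section Lie

variable {k : Type u} [Field k] {A : Type u} [CommRing A] [HopfAlgebra k A]

/-- the `ε`-derivation attached to a functional killing `1` and products of elements of the augmentation ideal -/
noncomputable def lieOfFunctional (lam : A →ₗ[k] k) (h1 : lam 1 = 0)
    (h2 : ∀ a b : A, CoalgebraStruct.counit (R := k) a = 0 → CoalgebraStruct.counit (R := k) b = 0 →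
      lam (a * b) = 0) : Lie k A where
  toLinearMap := (lam : A →ₗ[k] K k A)
  map_one_eq_zero' := h1
  leibniz' a b := by
    show lam (a * b) = (Bialgebra.counitAlgHom k A a : k) • lam b + (Bialgebra.counitAlgHom k A b : k) • lam a
    have key : a * b = (a - algebraMap k A (CoalgebraStruct.counit (R := k) a)) *
        (b - algebraMap k A (CoalgebraStruct.counit (R := k) b)) +
        CoalgebraStruct.counit (R := k) a • b + CoalgebraStruct.counit (R := k) b • a -
        (CoalgebraStruct.counit (R := k) a * CoalgebraStruct.counit (R := k) b) • (1 : A) := by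
      simp only [Algebra.smul_def, map_mul]
      ring
    have h3 : lam ((a - algebraMap k A (CoalgebraStruct.counit (R := k) a)) *
        (b - algebraMap k A (CoalgebraStruct.counit (R := k) b))) = 0 := by
      apply h2 <;> simp
    rw [key, map_sub, map_add, map_add, h3, map_smul, map_smul, map_smul, h1]
    simp

@[simp] theorem dlin_lieOfFunctional (lam : A →ₗ[k] k) (h1 : lam 1 = 0)
    (h2 : ∀ a b : A, CoalgebraStruct.counit (R := k) a = 0 → CoalgebraStruct.counit (R := k) b = 0 →
      lam (a * b) = 0) (a : A) : dlin (lieOfFunctional lam h1 h2) a = lam a := rfl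

/-- the `ε`-derivations separate the augmentation ideal modulo its square -/
theorem mem_sq_of_forall_lie (b : A) (hb : CoalgebraStruct.counit (R := k) b = 0)
    (h : ∀ ξ : Lie k A, dlin ξ b = 0) :
    b ∈ (RingHom.ker (Bialgebra.counitAlgHom k A)) * (RingHom.ker (Bialgebra.counitAlgHom k A)) := by
  by_contra hb2
  let m2 : Submodule k A :=
    ((RingHom.ker (Bialgebra.counitAlgHom k A)) * (RingHom.ker (Bialgebra.counitAlgHom k A))).restrictScalars k
  let N : Submodule k A := Submodule.span k {(1 : A)} ⊔ m2
  have hm2 : ∀ y ∈ m2, CoalgebraStruct.counit (R := k) y = 0 := by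
    intro y hy
    have : y ∈ RingHom.ker (Bialgebra.counitAlgHom k A) := Ideal.mul_le_left hy
    exact (RingHom.mem_ker (f := Bialgebra.counitAlgHom k A)).1 this
  have hbN : b ∉ N := by
    intro hbN
    obtain ⟨x, hx, y, hy, hxy⟩ := Submodule.mem_sup.1 hbN
    obtain ⟨c, rfl⟩ := Submodule.mem_span_singleton.1 hx
    have h3 := congrArg (CoalgebraStruct.counit (R := k)) hxy
    rw [map_add, map_smul, hm2 y hy, hb, Bialgebra.counit_one, smul_eq_mul, mul_one, add_zero] at h3
    rw [h3, zero_smul, zero_add] at hxy
    apply hb2
    rw [← hxy]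
    exact hy
  obtain ⟨f, hfb, hfN⟩ := Submodule.exists_dual_map_eq_bot_of_notMem hbN inferInstance
  have hf0 : ∀ y ∈ N, f y = 0 := by
    intro y hy
    have : f y ∈ N.map f := Submodule.mem_map_of_mem hy
    rw [hfN] at this
    exact (Submodule.mem_bot k).1 this
  have h1 : f 1 = 0 := hf0 1 (Submodule.mem_sup_left (Submodule.mem_span_singleton_self _))
  have h2 : ∀ a b : A, CoalgebraStruct.counit (R := k) a = 0 → CoalgebraStruct.counit (R := k) b = 0 →
      f (a * b) = 0 := by
    intro a b ha hb
    apply hf0
    apply Submodule.mem_sup_right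
    show a * b ∈ (RingHom.ker (Bialgebra.counitAlgHom k A)) * (RingHom.ker (Bialgebra.counitAlgHom k A))
    exact Ideal.mul_mem_mul ((RingHom.mem_ker (f := Bialgebra.counitAlgHom k A)).2 ha)
      ((RingHom.mem_ker (f := Bialgebra.counitAlgHom k A)).2 hb)
  exact hfb (h (lieOfFunctional f h1 h2))

section Regular

theorem act_one_regular (g : A →ₗ[k] k) : act g (1 : A) = g 1 • (1 : A) := by
  rw [act_apply]
  show contractR A g (CoalgebraStruct.comul (R := k) (1 : A)) = _
  rw [Bialgebra.comul_one, Algebra.TensorProduct.one_def, contractR_tmul]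

theorem counit_act_regular (g : A →ₗ[k] k) (a : A) :
    CoalgebraStruct.counit (R := k) (act g a) = g a := by
  rw [act_apply]
  have h0 := contract_comm g (CoalgebraStruct.counit (R := k) (A := A)) (coactMap k A A a)
  rw [h0]
  congr 1
  show contractL A (CoalgebraStruct.counit (R := k)) (CoalgebraStruct.comul (R := k) a) = a
  have h1 := Coalgebra.rTensor_counit_comul (R := k) a
  have h2 : ∀ z : A ⊗[k] A, contractL A (CoalgebraStruct.counit (R := k)) z =
      TensorProduct.lid k A ((CoalgebraStruct.counit (R := k) (A := A)).rTensor A z) := by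
    intro z
    induction z using TensorProduct.induction_on with
    | zero => simp
    | tmul x y => simp
    | add x y hx hy => simp only [map_add, hx, hy]
  rw [h2, h1]
  simp

theorem hitL_comm_act (f g : A →ₗ[k] k) (a : A) : hitL f (act g a) = act g (hitL f a) :=
  (isComodHom_iff (cf (A := A) (V := A) f)).1 (isComodHom_cf f) g a

theorem eq_counit_of_mem_ufilt_one (a : A) (ha : a ∈ ufilt k A A 1) :
    a = algebraMap k A (CoalgebraStruct.counit (R := k) a) := by
  rw [ufilt_one] at ha
  have h0 : CoalgebraStruct.comul (R := k) a = a ⊗ₜ[k] (1 : A) := ha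
  have h1 := congrArg (CoalgebraStruct.counit (R := k)) (act_apply (CoalgebraStruct.counit (R := k) (A := A)) a)
  have h2 : act (CoalgebraStruct.counit (R := k) (A := A)) a = a := act_counit a
  have h3 : contractL A (CoalgebraStruct.counit (R := k)) (CoalgebraStruct.comul (R := k) a) = a := by
    have h1 := Coalgebra.rTensor_counit_comul (R := k) a
    have h2 : ∀ z : A ⊗[k] A, contractL A (CoalgebraStruct.counit (R := k)) z =
        TensorProduct.lid k A ((CoalgebraStruct.counit (R := k) (A := A)).rTensor A z) := by
      intro z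
      induction z using TensorProduct.induction_on with
      | zero => simp
      | tmul x y => simp
      | add x y hx hy => simp only [map_add, hx, hy]
    rw [h2, h1]
    simp
  rw [h0, contractL_tmul] at h3
  rw [Algebra.algebraMap_eq_smul_one]
  exact h3.symm

theorem hitL_one (f : A →ₗ[k] k) : hitL f (1 : A) = f 1 • (1 : A) := by
  show contractL A f (CoalgebraStruct.comul (R := k) (1 : A)) = _
  rw [Bialgebra.comul_one, Algebra.TensorProduct.one_def, contractL_tmul]

/-- Step B: elements killed by all infinitesimal left translations are constants -/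
theorem eq_counit_of_hitL_lie [CharZero k] (hU : HopfRep.IsUnipotent k A) :
    ∀ (n : ℕ) (a : A), a ∈ ufilt k A A (n + 1) → (∀ ξ : Lie k A, hitL (dlin ξ) a = 0) →
      a = algebraMap k A (CoalgebraStruct.counit (R := k) a) := by
  intro n
  induction n with
  | zero =>
    intro a ha _
    exact eq_counit_of_mem_ufilt_one a ha
  | succ n ih =>
    intro a ha hξ
    rw [ufilt_succ, mem_ustep] at ha
    have hc : ∀ g : A →ₗ[k] k, act g a =
        g 1 • a + (g a - g 1 * CoalgebraStruct.counit (R := k) a) • (1 : A) := by
      intro g
      have h1 := ih (act g a - g 1 • a) (ha g) (fun ξ => by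
        rw [map_sub, map_smul, hitL_comm_act, hξ ξ, map_zero, smul_zero, sub_zero])
      rw [map_sub, map_smul, counit_act_regular, smul_eq_mul, Algebra.algebraMap_eq_smul_one] at h1
      rw [← h1]
      abel
    set b : A := a - algebraMap k A (CoalgebraStruct.counit (R := k) a) with hb
    have hεb : CoalgebraStruct.counit (R := k) b = 0 := by
      rw [hb, map_sub]
      simp
    have hprim : CoalgebraStruct.comul (R := k) b = b ⊗ₜ[k] (1 : A) + (1 : A) ⊗ₜ[k] b := by
      apply eq_of_contractR_eq
      intro g
      have h1 : contractR A g (CoalgebraStruct.comul (R := k) b) = act g b := rfl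
      rw [h1, map_add, contractR_tmul, contractR_tmul, hb, map_sub, map_sub, hc g,
        Algebra.algebraMap_eq_smul_one, map_smul, map_smul, act_one_regular]
      simp only [smul_sub, sub_smul, smul_smul]
      ring_nf
    have hξb : ∀ ξ : Lie k A, dlin ξ b = 0 := by
      intro ξ
      have h1 : hitL (dlin ξ) b = 0 := by
        rw [hb, map_sub, hξ ξ, Algebra.algebraMap_eq_smul_one, map_smul, hitL_one, dlin_one]
        simp
      have h2 : hitL (dlin ξ) b = dlin ξ b • (1 : A) := by
        show contractL A (dlin ξ) (CoalgebraStruct.comul (R := k) b) = _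
        rw [hprim, map_add, contractL_tmul, contractL_tmul, dlin_one, zero_smul, add_zero]
      rw [h2] at h1
      have h3 := congrArg (CoalgebraStruct.counit (R := k)) h1
      simpa using h3
    have hb2 := mem_sq_of_forall_lie b hεb hξb
    have hb0 : b = 0 := UnipAdams.primitive_eq_zero_of_mem_sq
      (fun a => exists_mem_ufilt_regular hU a) b hprim hb2
    rw [hb, sub_eq_zero] at hb0
    exact hb0

/-- precomposing an `ε`-derivation with the antipode -/
noncomputable def lieAntipode (ξ : Lie k A) : Lie k A :=
  lieOfFunctional (dlin ξ ∘ₗ HopfAlgebra.antipode k) (by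
    rw [LinearMap.comp_apply, HopfAlgebra.antipode_one, dlin_one]) (by
    intro a b ha hb
    rw [LinearMap.comp_apply, HopfAlgebra.antipode_mul_distrib, dlin_mul]
    have h1 : (Bialgebra.counitAlgHom k A) (HopfAlgebra.antipode k a) = 0 := by
      show CoalgebraStruct.counit (R := k) (HopfAlgebra.antipode k a) = 0
      rw [HopfAlgebra.counit_antipode, ha]
    have h2 : (Bialgebra.counitAlgHom k A) (HopfAlgebra.antipode k b) = 0 := by
      show CoalgebraStruct.counit (R := k) (HopfAlgebra.antipode k b) = 0
      rw [HopfAlgebra.counit_antipode, hb]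
    rw [h1, h2, zero_mul, zero_mul, add_zero])

theorem dlin_lieAntipode (ξ : Lie k A) : dlin (lieAntipode ξ) = dlin ξ ∘ₗ HopfAlgebra.antipode k :=
  LinearMap.ext fun _ => rfl

theorem hitL_antipode (η : A →ₗ[k] k) (a : A) :
    hitL η (HopfAlgebra.antipode k a) =
      HopfAlgebra.antipode k (act (η ∘ₗ HopfAlgebra.antipode k) a) := by
  show contractL A η (CoalgebraStruct.comul (R := k) (HopfAlgebra.antipode k a)) = _
  have h0 := Groth.Agent.Lib.Helper27.HopfAnt.comul_antipode (k := k) a
  have h1 : ∀ z : A ⊗[k] A, contractL A η
      (TensorProduct.map (HopfAlgebra.antipode k) (HopfAlgebra.antipode k) (TensorProduct.comm k A A z)) =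
      HopfAlgebra.antipode k (contractR A (η ∘ₗ HopfAlgebra.antipode k) z) := by
    intro z
    induction z using TensorProduct.induction_on with
    | zero => simp
    | tmul x y => simp
    | add x y hx hy => simp only [map_add, hx, hy]
  exact (congrArg (contractL A η) h0).trans (h1 _)

/-- Step C: elements killed by all infinitesimal right translations are constants -/
theorem eq_counit_of_act_lie [CharZero k] (hU : HopfRep.IsUnipotent k A) (a : A)
    (h : ∀ ξ : Lie k A, act (dlin ξ) a = 0) :
    a = algebraMap k A (CoalgebraStruct.counit (R := k) a) := by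
  obtain ⟨n, hn⟩ := exists_mem_ufilt_regular hU (HopfAlgebra.antipode k a)
  have h1 := eq_counit_of_hitL_lie hU n (HopfAlgebra.antipode k a) (ufilt_le_succ n hn) (fun ξ => by
    rw [hitL_antipode, ← dlin_lieAntipode, h (lieAntipode ξ), map_zero])
  rw [HopfAlgebra.counit_antipode] at h1
  have h2 := congrArg (HopfAlgebra.antipode k) h1
  rw [Groth.Agent.Lib.Helper27.HopfAnt.antipode_antipode, Algebra.algebraMap_eq_smul_one, map_smul,
    HopfAlgebra.antipode_one] at h2
  rw [Algebra.algebraMap_eq_smul_one]
  exact h2

end Regular

section Words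

variable {V : Type w} [AddCommGroup V] [Module k V] [HopfRep.Comod k A V]

/-- the composite of the infinitesimal actions of a word of `ε`-derivations (first letter acts first) -/
noncomputable def word : List (Lie k A) → V →ₗ[k] V
  | [] => LinearMap.id
  | ξ :: l => word l ∘ₗ act (dlin ξ)

@[simp] theorem word_nil (v : V) : word ([] : List (Lie k A)) v = v := rfl

@[simp] theorem word_cons (ξ : Lie k A) (l : List (Lie k A)) (v : V) :
    word (ξ :: l) v = word l (act (dlin ξ) v) := rfl

/-- Step D: an element of a unipotent Hopf algebra in characteristic zero killed by the counit after every word of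
infinitesimal right translations is zero -/
theorem eq_zero_of_forall_word [CharZero k] (hU : HopfRep.IsUnipotent k A) (a : A)
    (h : ∀ l : List (Lie k A), CoalgebraStruct.counit (R := k) (word l a) = 0) : a = 0 := by
  obtain ⟨n, hn⟩ := exists_mem_ufilt_regular hU a
  induction n generalizing a with
  | zero =>
    rw [ufilt_zero, Submodule.mem_bot] at hn
    exact hn
  | succ n ih =>
    rw [ufilt_succ, mem_ustep] at hn
    have h1 : ∀ ξ : Lie k A, act (dlin ξ) a = 0 := by
      intro ξ
      apply ih
      · intro l
        exact h (ξ :: l)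
      · have := hn (dlin ξ)
        rw [dlin_one, zero_smul, sub_zero] at this
        exact this
    have h2 := eq_counit_of_act_lie hU a h1
    have h3 := h []
    rw [word_nil] at h3
    rw [h2, h3, map_zero]

theorem word_cf (φ : V →ₗ[k] k) (l : List (Lie k A)) (v : V) :
    word l (cf (A := A) φ v) = cf (A := A) φ (word l v) := by
  induction l generalizing v with
  | nil => rfl
  | cons ξ l ih =>
    rw [word_cons, word_cons, ← ih, (isComodHom_iff (cf (A := A) φ)).1 (isComodHom_cf φ)]

theorem counit_word_cf (φ : V →ₗ[k] k) (l : List (Lie k A)) (v : V) :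
    CoalgebraStruct.counit (R := k) (word l (cf (A := A) φ v)) = φ (word l v) := by
  rw [word_cf, counit_cf]

omit [HopfRep.Comod k A V] in
theorem eq_of_contractL_eq (x y : V ⊗[k] A) (h : ∀ φ : V →ₗ[k] k, contractL A φ x = contractL A φ y) :
    x = y := by
  rw [← sub_eq_zero]
  have : x - y ∈ LinearMap.range ((⊥ : Submodule k A).subtype.lTensor V) := by
    rw [mem_range_lTensor_iff]
    intro φ
    rw [map_sub, h φ, sub_self]
    exact Submodule.zero_mem _
  obtain ⟨z, hz⟩ := this
  have hz0 : z = 0 := by
    have : Subsingleton (V ⊗[k] (⊥ : Submodule k A)) := by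
      have : Subsingleton (⊥ : Submodule k A) := inferInstance
      infer_instance
    exact Subsingleton.elim _ _
  rw [← hz, hz0, map_zero]

/-- Lie-invariant vectors are invariant -/
theorem coact_eq_of_forall_lie [CharZero k] (hU : HopfRep.IsUnipotent k A) (f : V)
    (h : ∀ ξ : Lie k A, act (dlin ξ) f = 0) :
    HopfRep.Comod.coact (k := k) (A := A) f = f ⊗ₜ[k] (1 : A) := by
  apply eq_of_contractL_eq
  intro φ
  rw [contractL_tmul]
  show cf (A := A) φ f = _
  rw [← sub_eq_zero]
  apply eq_zero_of_forall_word hU
  intro l
  cases l with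
  | nil =>
    rw [word_nil, map_sub, counit_cf, map_smul, Bialgebra.counit_one]
    simp
  | cons ξ l =>
    rw [word_cons, map_sub, map_smul, ← (isComodHom_iff (cf (A := A) φ)).1 (isComodHom_cf φ), h ξ,
      act_one_regular, dlin_one]
    simp

/-- Lie-stable subspaces are subcomodules -/
theorem isSubcomod_of_forall_lie [CharZero k] (hU : HopfRep.IsUnipotent k A) (W : Submodule k V)
    (h : ∀ ξ : Lie k A, ∀ v ∈ W, act (dlin ξ) v ∈ W) :
    HopfRep.IsSubcomod (k := k) (A := A) W := by
  rw [isSubcomod_iff]
  intro g v hv
  by_contra hgv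
  obtain ⟨φ, hφ, hφW⟩ := Submodule.exists_dual_map_eq_bot_of_notMem hgv inferInstance
  have hφ0 : ∀ w ∈ W, φ w = 0 := by
    intro w hw
    have : φ w ∈ W.map φ := Submodule.mem_map_of_mem hw
    rw [hφW] at this
    exact (Submodule.mem_bot k).1 this
  have hword : ∀ (l : List (Lie k A)) (w : V), w ∈ W → word l w ∈ W := by
    intro l
    induction l with
    | nil => intro w hw; exact hw
    | cons ξ l ih => intro w hw; exact ih _ (h ξ w hw)
  have h0 : cf (A := A) φ v = 0 := by
    apply eq_zero_of_forall_word hU
    intro l
    rw [counit_word_cf]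
    exact hφ0 _ (hword l v hv)
  apply hφ
  rw [act_apply, contract_comm]
  exact (congrArg g h0).trans (map_zero g)

/-- a linear map intertwining the infinitesimal actions intertwines the coactions -/
theorem coact_comm_of_forall_lie [CharZero k] (hU : HopfRep.IsUnipotent k A)
    {V₂ : Type w} [AddCommGroup V₂] [Module k V₂] [HopfRep.Comod k A V₂] (e : V →ₗ[k] V₂)
    (h : ∀ (ξ : Lie k A) (f : V), act (dlin ξ) (e f) = e (act (dlin ξ) f)) (f : V) :
    HopfRep.Comod.coact (k := k) (A := A) (e f) =
      e.rTensor A (HopfRep.Comod.coact (k := k) (A := A) f) := by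
  have hword : ∀ (l : List (Lie k A)) (f : V), word l (e f) = e (word l f) := by
    intro l
    induction l with
    | nil => intro f; rfl
    | cons ξ l ih => intro f; rw [word_cons, word_cons, h ξ f, ih]
  apply eq_of_contractL_eq
  intro φ
  rw [contractL_rTensor]
  show cf (A := A) φ (e f) = cf (A := A) (φ ∘ₗ e) f
  rw [← sub_eq_zero]
  apply eq_zero_of_forall_word hU
  intro l
  rw [map_sub, map_sub, counit_word_cf, counit_word_cf, hword l f]
  simp

/-- the infinitesimal action in the form used by the statements -/
theorem rid_lTensor_lie (ξ : Lie k A) (z : V ⊗[k] A) :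
    TensorProduct.rid k V (LinearMap.lTensor V (ξ.toLinearMap.restrictScalars k) z : V ⊗[k] K k A) =
      contractR V (dlin ξ) z := rfl

theorem lTensor_lie_eq_zero_iff (ξ : Lie k A) (v : V) :
    (LinearMap.lTensor V (ξ.toLinearMap.restrictScalars k) (HopfRep.Comod.coact (k := k) (A := A) v) :
      V ⊗[k] K k A) = 0 ↔ act (dlin ξ) v = 0 := by
  rw [act_apply, ← rid_lTensor_lie]
  exact (LinearEquiv.map_eq_zero_iff (TensorProduct.rid k V)).symm

end Words

end Lie

section Aux

variable {k : Type u} [CommRing k] {V : Type w} [AddCommGroup V] [Module k V]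
  {V₂ : Type w} [AddCommGroup V₂] [Module k V₂]

theorem rid_rTensor (g : V →ₗ[k] V₂) (z : V ⊗[k] k) :
    TensorProduct.rid k V₂ (g.rTensor k z) = g (TensorProduct.rid k V z) := by
  induction z using TensorProduct.induction_on with
  | zero => simp
  | tmul x c => simp
  | add x y hx hy => simp only [map_add, hx, hy]

theorem mem_range_rTensor_self_iff (W : Submodule k V) (y : V ⊗[k] k) :
    y ∈ LinearMap.range (W.subtype.rTensor k) ↔ TensorProduct.rid k V y ∈ W := by
  constructor
  · rintro ⟨z, rfl⟩
    rw [rid_rTensor]
    exact (TensorProduct.rid k W z).2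
  · intro hy
    refine ⟨(⟨TensorProduct.rid k V y, hy⟩ : W) ⊗ₜ[k] (1 : k), ?_⟩
    rw [LinearMap.rTensor_tmul]
    exact (TensorProduct.rid k V).symm_apply_apply y

end Aux

end Groth.Agent.Lib.Helper75.UnipLie
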